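import Cfsg.Agent.Lib.Golay.Perm
import Cfsg.Agent.Lib.Golay.ChainData

/-! Stabiliser chain of `M24`: order, base, generation. -/
set_option autoImplicit false
set_option linter.deprecated false
set_option linter.constructorNameAsVariable false

namespace CfsgLib.Golay

open Cfsg
open scoped Pointwise

/-- split every atom along a set -/
def refine (o : ℕ) : List ℕ → List ℕ
  | [] => []
  | a :: l => [a &&& o, a ^^^ (a &&& o)].filter (fun x => !(x == 0)) ++ refine o l

/-- union of the atoms inside `o` -/
def inner (o : ℕ) : List ℕ → ℕ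
  | [] => 0
  | a :: l => (if a &&& o == a then a else 0) ||| inner o l

/-- run a forcing certificate -/
def force : List ℕ → List ℕ → Option (List ℕ)
  | [], at' => some at'
  | o :: os, at' =>
      if inCode o && pc o == 8 && decide (5 ≤ pc (inner o at')) then force os (refine o at')
      else none

theorem inner_and (o : ℕ) : ∀ l, inner o l &&& o = inner o l
  | [] => by simp [inner]
  | a :: l => by
    rw [inner, Nat.and_or_distrib_right, inner_and o l]
    split_ifs with h
    · rw [eq_of_beq h]
    · simp

theorem smul_inner {g : Equiv.Perm GolayPt} (o : ℕ) : ∀ l : List ℕ,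
    (∀ a ∈ l, g • toSet a = toSet a) → g • toSet (inner o l) = toSet (inner o l)
  | [], _ => by simp [inner, toSet_zero]
  | a :: l, h => by
    rw [inner, toSet_or, Finset.smul_finset_union, smul_inner o l
      fun x hx => h x (List.mem_cons_of_mem _ hx)]
    split_ifs
    · rw [h a List.mem_cons_self]
    · simp [toSet_zero]

theorem smul_inter' (g : Equiv.Perm GolayPt) (s t : Finset GolayPt) :
    g • (s ∩ t) = g • s ∩ g • t := by
  simp only [Finset.smul_finset_def]
  exact Finset.image_inter _ _ (MulAction.injective g)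

theorem smul_force_sound {g : Equiv.Perm GolayPt} (hg : g ∈ M24) : ∀ (os at' fin : List ℕ),
    force os at' = some fin → (∀ a ∈ at', g • toSet a = toSet a) →
      ∀ a ∈ fin, g • toSet a = toSet a
  | [], at', fin, h, hA => by
    simp only [force, Option.some.injEq] at h; subst h; exact hA
  | o :: os, at', fin, h, hA => by
    simp only [force] at h
    split_ifs at h with hc
    simp only [Bool.and_eq_true, beq_iff_eq, decide_eq_true_eq] at hc
    have ho : o ∈ octList := mem_octList.2 hc.1
    have hfix : g • toSet o = toSet o := by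
      obtain ⟨o', ho', e⟩ := exists_mask_octad (smul_octad hg (toSet_mem_octads ho))
      have hsub : toSet (inner o at') ⊆ toSet o' := by
        rw [e, ← smul_inner o at' hA]
        apply Finset.smul_finset_subset_smul_finset
        conv_lhs => rw [← inner_and o at', toSet_and]
        exact Finset.inter_subset_right
      rw [← e, octad_eq_of_five ho' ho]
      have : toSet (inner o at') ⊆ toSet (o' &&& o) := by
        rw [toSet_and]
        refine Finset.subset_inter hsub ?_
        conv_lhs => rw [← inner_and o at', toSet_and]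
        exact Finset.inter_subset_right
      have := Finset.card_le_card this
      rw [card_toSet, card_toSet] at this
      omega
    refine smul_force_sound hg os _ fin h ?_
    intro a ha
    clear h hc ho
    induction at' with
    | nil => simp [refine] at ha
    | cons b l ih =>
      simp only [refine, List.mem_append, List.mem_filter, List.mem_cons, List.not_mem_nil,
        or_false] at ha
      have hb := hA b List.mem_cons_self
      rcases ha with ⟨rfl | rfl, -⟩ | ha
      · rw [toSet_and, smul_inter', hfix, hb]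
      · rw [toSet_xor, smul_symmDiff', toSet_and, smul_inter', hfix, hb]
      · exact ih (fun x hx => hA x (List.mem_cons_of_mem _ hx)) ha

/-- the `i`-th base point -/
def bp (i : ℕ) : GolayPt := pt (base.getD i 0)

/-- elements of `M24` fixing the first `k` base points -/
def fixB (k : ℕ) : Subgroup (Equiv.Perm GolayPt) where
  carrier := {g | g ∈ M24 ∧ ∀ i < k, g (bp i) = bp i}
  one_mem' := ⟨one_mem _, fun _ _ => rfl⟩
  mul_mem' {a b} ha hb := ⟨mul_mem ha.1 hb.1, fun i hi => by
    rw [Equiv.Perm.mul_apply, hb.2 i hi, ha.2 i hi]⟩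
  inv_mem' {a} ha := ⟨inv_mem ha.1, fun i hi => by
    rw [Equiv.Perm.inv_eq_iff_eq, ha.2 i hi]⟩

theorem mem_fixB {k : ℕ} {g : Equiv.Perm GolayPt} :
    g ∈ fixB k ↔ g ∈ M24 ∧ ∀ i < k, g (bp i) = bp i := Iff.rfl

theorem fixB_zero : fixB 0 = M24 := by
  ext g; simp [mem_fixB]

theorem smul_toSet_singleton {g : Equiv.Perm GolayPt} {i : ℕ} (hi : i < 24)
    (h : g (pt i) = pt i) : g • toSet (2 ^ i) = toSet (2 ^ i) := by
  rw [show i = idx (pt i) from (idx_pt hi).symm, toSet_pow_idx, Finset.smul_finset_singleton,
    Equiv.Perm.smul_def, h]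

/-- the mask of the first `k` base points -/
def baseMask (k : ℕ) : ℕ := (base.take k).foldr (fun i a => 2 ^ i ||| a) 0

theorem smul_baseMask {k : ℕ} {g : Equiv.Perm GolayPt} (hg : g ∈ fixB k) (hk : k ≤ 7) :
    g • toSet (baseMask k) = toSet (baseMask k) := by
  have hall : ∀ i ∈ base.take k, g • toSet (2 ^ i) = toSet (2 ^ i) := by
    intro i hi
    obtain ⟨n, hn, rfl⟩ := List.mem_iff_getElem.1 hi
    rw [List.length_take] at hn
    have h7 : base.length = 7 := rfl
    have hlt : ∀ n < 7, base.getD n 0 < 24 := by decide
    rw [List.getElem_take]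
    have e : base[n]'(by omega) = base.getD n 0 := by
      rw [List.getD_eq_getElem?_getD, List.getElem?_eq_getElem (by omega), Option.getD_some]
    rw [e]
    exact smul_toSet_singleton (hlt n (by omega)) (hg.2 n (by omega))
  have key : ∀ l : List ℕ, (∀ i ∈ l, g • toSet (2 ^ i) = toSet (2 ^ i)) →
      g • toSet (l.foldr (fun i a => 2 ^ i ||| a) 0) = toSet (l.foldr (fun i a => 2 ^ i ||| a) 0) := by
    intro l
    induction l with
    | nil => simp [toSet_zero]
    | cons i l ih =>
      intro h
      rw [List.foldr_cons, toSet_or, Finset.smul_finset_union, h i List.mem_cons_self,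
        ih fun x hx => h x (List.mem_cons_of_mem _ hx)]
  exact key _ hall

theorem fixB_seven {g : Equiv.Perm GolayPt} (hg : g ∈ fixB 7) : g = 1 := by
  set at0 := base.map (fun i => 2 ^ i) ++ [16777215 ^^^ baseMask 7] with hat0
  obtain ⟨fin, hfin, hsing⟩ : ∃ fin, force forcing at0 = some fin ∧
      (List.range 24).all (fun i => fin.contains (2 ^ i)) = true := by
    refine ⟨(force forcing at0).getD [], ?_, by decide +kernel⟩
    have : (force forcing at0).isSome = true := by decide +kernel
    cases h : force forcing at0 with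
    | none => simp [h] at this
    | some v => rfl
  have h0 : ∀ a ∈ at0, g • toSet a = toSet a := by
    intro a ha
    simp only [hat0, List.mem_append, List.mem_map, List.mem_singleton] at ha
    rcases ha with ⟨i, hi, rfl⟩ | rfl
    · obtain ⟨n, hn, rfl⟩ := List.mem_iff_getElem.1 hi
      have h7 : base.length = 7 := rfl
      have hlt : ∀ n < 7, base.getD n 0 < 24 := by decide
      have e : base[n] = base.getD n 0 := by
        rw [List.getD_eq_getElem?_getD, List.getElem?_eq_getElem hn, Option.getD_some]
      rw [e]
      exact smul_toSet_singleton (hlt n (by omega)) (hg.2 n (by omega))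
    · rw [toSet_xor, smul_symmDiff', smul_baseMask hg le_rfl, toSet_full,
        Finset.smul_finset_univ]
  have hfin' := smul_force_sound hg.1 _ _ _ hfin h0
  refine Equiv.ext fun x => ?_
  have := List.all_eq_true.1 hsing (idx x) (List.mem_range.2 (idx_lt x))
  have hx := hfin' _ (by simpa using this)
  rw [toSet_pow_idx, Finset.smul_finset_singleton, Equiv.Perm.smul_def,
    Finset.singleton_inj] at hx
  simpa using hx

/-- allowed images at level `k` -/
def allow (k : ℕ) : ℕ := allowed.getD k 0

/-- transversal at level `k` -/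
noncomputable def tr (k : ℕ) : List ℕ := trans.getD k []

theorem allow_spec : allow 0 = 16777215 ∧
    (∀ k < 5, allow k = 16777215 ^^^ baseMask k) ∧
    ∃ o ∈ forcing ++ [8536111], inCode o = true ∧ pc o = 8 ∧ baseMask 6 &&& o = baseMask 6 ∧
      allow 5 = o ^^^ baseMask 5 ∧ allow 6 = 16777215 ^^^ o := by
  decide +kernel

theorem apply_bp_mem_allow {k : ℕ} (hk : k < 7) {g : Equiv.Perm GolayPt} (hg : g ∈ fixB k) :
    g (bp k) ∈ toSet (allow k) := by
  obtain ⟨-, h5, o, -, hoc, ho8, hsub, ha5, ha6⟩ := allow_spec
  have hb : bp k ∈ toSet (allow k) :=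
    (by decide +kernel : ∀ k < 7, bp k ∈ toSet (allow k)) k hk
  have hmem : g (bp k) ∈ g • toSet (allow k) :=
    Finset.smul_mem_smul_finset (a := g) hb
  suffices h : g • toSet (allow k) = toSet (allow k) by rwa [h] at hmem
  have hlow : k < 5 → g • toSet (allow k) = toSet (allow k) := fun h => by
    rw [h5 k h, toSet_xor, smul_symmDiff', smul_baseMask hg hk.le, toSet_full,
      Finset.smul_finset_univ]
  rcases lt_or_ge k 5 with h | h
  · exact hlow h
  · have hg5 : g ∈ fixB 5 := ⟨hg.1, fun i hi => hg.2 i (by omega)⟩
    have hb5 := smul_baseMask hg5 (by norm_num)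
    have hs : toSet (baseMask 5) ⊆ toSet o := by
      have h1 : toSet (baseMask 5) ⊆ toSet (baseMask 6) := by decide +kernel
      refine h1.trans ?_
      conv_lhs => rw [← hsub, toSet_and]
      exact Finset.inter_subset_right
    have hfo : g • toSet o = toSet o := by
      have hol : o ∈ octList := mem_octList.2 ⟨hoc, ho8⟩
      obtain ⟨o', ho', e⟩ := exists_mask_octad (smul_octad hg.1 (toSet_mem_octads hol))
      rw [← e, octad_eq_of_five ho' hol]
      have h1 : toSet (baseMask 5) ⊆ toSet (o' &&& o) := by
        rw [toSet_and, e]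
        refine Finset.subset_inter ?_ hs
        rw [← hb5]
        exact Finset.smul_finset_subset_smul_finset hs
      have := Finset.card_le_card h1
      rw [card_toSet, card_toSet] at this
      have h55 : pc (baseMask 5) = 5 := by decide +kernel
      omega
    rcases (show k = 5 ∨ k = 6 by omega) with rfl | rfl
    · rw [ha5, toSet_xor, smul_symmDiff', hfo, hb5]
    · rw [ha6, toSet_xor, smul_symmDiff', hfo, toSet_full, Finset.smul_finset_univ]

theorem tr_check : (List.range 7).all (fun k =>
    (tr k).all (fun p => inM24 p && (List.range k).all (fun i => img p (base.getD i 0) == base.getD i 0))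
      && (List.range 24).all (fun j =>
        !((allow k).testBit j) || (tr k).any (fun p => img p (base.getD k 0) == j))) = true := by
  decide +kernel

theorem base_lt : ∀ n < 7, base.getD n 0 < 24 := by decide

theorem toPerm_tr_mem {k : ℕ} (hk : k < 7) {p : ℕ} (hp : p ∈ tr k) : toPerm p ∈ fixB k := by
  have h := List.all_eq_true.1 tr_check k (List.mem_range.2 hk)
  simp only [Bool.and_eq_true, List.all_eq_true, List.mem_range, beq_iff_eq] at h
  have h' := h.1 p hp
  refine ⟨toPerm_mem_M24 h'.1, fun i hi => ?_⟩
  have hok : okPerm p = true := by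
    have := h'.1; simp only [inM24, Bool.and_eq_true] at this; exact this.1
  rw [bp, toPerm_apply hok, idx_pt (base_lt i (by omega)), h'.2 i hi]

theorem exists_tr {k : ℕ} (hk : k < 7) {x : GolayPt} (hx : x ∈ toSet (allow k)) :
    ∃ p ∈ tr k, toPerm p (bp k) = x := by
  have h := List.all_eq_true.1 tr_check k (List.mem_range.2 hk)
  simp only [Bool.and_eq_true, List.all_eq_true, List.mem_range, Bool.or_eq_true,
    Bool.not_eq_true', List.any_eq_true, beq_iff_eq] at h
  rcases h.2 (idx x) (idx_lt x) with h' | ⟨p, hp, e⟩
  · rw [mem_toSet, h'] at hx; cases hx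
  · refine ⟨p, hp, ?_⟩
    have hok : okPerm p = true := by
      have := (h.1 p hp).1; simp only [inM24, Bool.and_eq_true] at this; exact this.1
    rw [bp, toPerm_apply hok, idx_pt (base_lt k hk), e, pt_idx]

theorem card_fixB_succ {k : ℕ} (hk : k < 7) :
    Nat.card (fixB k) = pc (allow k) * Nat.card (fixB (k + 1)) := by
  classical
  have horb : MulAction.orbit (fixB k) (bp k) = (toSet (allow k) : Set GolayPt) := by
    ext x
    rw [MulAction.mem_orbit_iff]
    constructor
    · rintro ⟨g, rfl⟩
      exact apply_bp_mem_allow hk g.2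
    · intro hx
      obtain ⟨p, hp, e⟩ := exists_tr hk hx
      exact ⟨⟨toPerm p, toPerm_tr_mem hk hp⟩, e⟩
  have e2 : Nat.card (MulAction.stabilizer (fixB k) (bp k)) = Nat.card (fixB (k + 1)) := by
    refine Nat.card_congr ⟨fun g => ⟨(g.1 : Equiv.Perm GolayPt), g.1.2.1, fun i hi => ?_⟩,
      fun g => ⟨⟨(g : Equiv.Perm GolayPt), g.2.1, fun i hi => g.2.2 i (by omega)⟩,
        g.2.2 k (by omega)⟩, fun g => rfl, fun g => rfl⟩
    rcases Nat.lt_succ_iff_lt_or_eq.1 hi with h | h
    · exact g.1.2.2 i h
    · subst h; exact g.2
  rw [Subgroup.card_eq_card_quotient_mul_card_subgroup (MulAction.stabilizer (fixB k) (bp k)), e2,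
    ← Nat.card_congr (MulAction.orbitEquivQuotientStabilizer (fixB k) (bp k)), horb,
    Nat.card_coe_set_eq, Set.ncard_coe_finset, card_toSet]

theorem card_fixB_seven : Nat.card (fixB 7) = 1 := by
  rw [Nat.card_eq_one_iff_unique]
  exact ⟨⟨fun a b => Subtype.ext ((fixB_seven a.2).trans (fixB_seven b.2).symm)⟩, inferInstance⟩

theorem card_M24 : Nat.card M24 = 244823040 := by
  rw [← fixB_zero]
  iterate 7 rw [card_fixB_succ (by norm_num)]
  rw [card_fixB_seven]
  decide +kernel

/-- a subgroup containing all transversal elements contains `M24` -/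
theorem M24_le_of_tr {H : Subgroup (Equiv.Perm GolayPt)}
    (h : ∀ k < 7, ∀ p ∈ tr k, toPerm p ∈ H) : M24 ≤ H := by
  suffices ∀ j k, k + j = 7 → fixB k ≤ H by
    rw [← fixB_zero]; exact this 7 0 rfl
  intro j
  induction j with
  | zero =>
    intro k hk g hg
    obtain rfl : k = 7 := by omega
    rw [fixB_seven hg]; exact one_mem _
  | succ j ih =>
    intro k hk g hg
    obtain ⟨p, hp, e⟩ := exists_tr (show k < 7 by omega) (apply_bp_mem_allow (by omega) hg)
    have h1 : (toPerm p)⁻¹ * g ∈ fixB (k + 1) := by
      have h2 := mul_mem (inv_mem (toPerm_tr_mem (show k < 7 by omega) hp)) hg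
      refine ⟨h2.1, fun i hi => ?_⟩
      rcases Nat.lt_succ_iff_lt_or_eq.1 hi with h' | h'
      · exact h2.2 i h'
      · subst h'
        rw [Equiv.Perm.mul_apply, Equiv.Perm.inv_eq_iff_eq, e]
    simpa using mul_mem (h k (by omega) p hp) (ih (k + 1) (by omega) h1)

/-- packed identity -/
def idp : ℕ := packL (List.range 24)

/-- lookup in the straight-line program -/
noncomputable def slpGet (i : ℕ) : ℕ × ℕ × ℕ × ℕ := (slp.getD (i / 32) []).getD (i % 32) (9, 0, 0, 0)

/-- packed code of x+1 -/
def genT : ℕ := 956302485175575353788796878166559809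
/-- packed code of -1/x -/
def genS : ℕ := 1795248432537898728475572672376535
/-- packed code of the cube twist -/
def genC : ℕ := 974380510768821363662145534143076928

/-- validity of step `k` -/
noncomputable def slpOk (k : ℕ) : Bool :=
  let e := slpGet k
  if e.1 == 0 then [genT, genS, genC].contains e.2.2.2
  else if e.1 == 1 then decide (e.2.1 < k) && decide (e.2.2.1 < k) &&
    (comp (slpGet e.2.1).2.2.2 (slpGet e.2.2.1).2.2.2 == e.2.2.2)
  else if e.1 == 2 then decide (e.2.1 < k) && okPerm e.2.2.2 &&
    (comp (slpGet e.2.1).2.2.2 e.2.2.2 == idp)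
  else (e.1 == 3) && (e.2.2.2 == idp)

theorem toPerm_idp : toPerm idp = 1 :=
  toPerm_eq_of_forall (by decide +kernel) (by decide +kernel)

theorem slp_sound {H : Subgroup (Equiv.Perm GolayPt)}
    (hT : toPerm genT ∈ H) (hS : toPerm genS ∈ H) (hC : toPerm genC ∈ H) {n : ℕ}
    (hall : (List.range n).all slpOk = true) :
    ∀ k < n, okPerm (slpGet k).2.2.2 = true ∧ toPerm (slpGet k).2.2.2 ∈ H := by
  intro k
  induction k using Nat.strong_induction_on with
  | _ k ih =>
    intro hk
    have h := List.all_eq_true.1 hall k (List.mem_range.2 hk)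
    simp only [slpOk] at h
    split_ifs at h with h0 h1 h2
    · simp only [List.contains_iff_mem, List.mem_cons, List.not_mem_nil, or_false] at h
      rcases h with h | h | h <;> rw [h]
      · exact ⟨by decide +kernel, hT⟩
      · exact ⟨by decide +kernel, hS⟩
      · exact ⟨by decide +kernel, hC⟩
    · simp only [Bool.and_eq_true, decide_eq_true_eq, beq_iff_eq] at h
      obtain ⟨⟨hi, hj⟩, e⟩ := h
      obtain ⟨oa, ma⟩ := ih _ hi (by omega)
      obtain ⟨ob, mb⟩ := ih _ hj (by omega)
      rw [← e]
      exact ⟨okPerm_comp oa ob, (comp_spec oa ob (okPerm_comp oa ob)).symm ▸ mul_mem ma mb⟩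
    · simp only [Bool.and_eq_true, decide_eq_true_eq, beq_iff_eq] at h
      obtain ⟨⟨hi, ob⟩, e⟩ := h
      obtain ⟨oa, ma⟩ := ih _ hi (by omega)
      refine ⟨ob, ?_⟩
      have e' := comp_spec oa ob (okPerm_comp oa ob)
      rw [e, toPerm_idp] at e'
      rw [eq_inv_of_mul_eq_one_right e'.symm]
      exact inv_mem ma
    · simp only [Bool.and_eq_true, beq_iff_eq] at h
      rw [h.2, toPerm_idp]
      exact ⟨by decide +kernel, one_mem _⟩

theorem slp_check : (List.range 972).all slpOk = true := by decide +kernel

theorem transPos_check : (List.range 7).all (fun k =>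
    ((transPos.getD k []).all fun i => decide (i < 972)) &&
    ((transPos.getD k []).map (fun i => (slpGet i).2.2.2) == tr k)) = true := by decide +kernel

theorem inM24_gens : inM24 genT = true ∧ inM24 genS = true ∧ inM24 genC = true := by decide +kernel

/-- `M24` is generated by x+1, -1/x and the cube twist -/
theorem closure_gens :
    Subgroup.closure {toPerm genT, toPerm genS, toPerm genC} = M24 := by
  apply le_antisymm
  · rw [Subgroup.closure_le]
    rintro _ (rfl | rfl | rfl)
    exacts [toPerm_mem_M24 inM24_gens.1, toPerm_mem_M24 inM24_gens.2.1,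
      toPerm_mem_M24 inM24_gens.2.2]
  · refine M24_le_of_tr fun k hk p hp => ?_
    have h := List.all_eq_true.1 transPos_check k (List.mem_range.2 hk)
    simp only [Bool.and_eq_true, beq_iff_eq, List.all_eq_true, decide_eq_true_eq] at h
    rw [← h.2, List.mem_map] at hp
    obtain ⟨i, hi, rfl⟩ := hp
    exact (slp_sound (Subgroup.subset_closure (by simp)) (Subgroup.subset_closure (by simp))
      (Subgroup.subset_closure (by simp)) slp_check i (h.1 i hi)).2

end CfsgLib.Golay
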