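import Cfsg.Agent.Lib.Golay.Search
import Cfsg.Agent.Lib.Golay.TwoM24
import Cfsg.Agent.Lib.Golay.ClassData

/-! Elements of order two and three of `M24` up to conjugation, and what they fix. -/
set_option autoImplicit false
set_option linter.all false
set_option maxRecDepth 100000

namespace CfsgLib.Golay.Classes

open Cfsg CfsgLib.Golay CfsgLib.Golay.TwoFusion CfsgLib.Golay.Search
open scoped Pointwise

/-! ### Sylow subgroups given by lists -/

/-- the generators, the elements and their parents -/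
def GenList (gs es : List ℕ) (par : List (ℕ × ℕ)) : Prop :=
  es.head? = some idp ∧ par.length + 1 = es.length ∧
    (∀ k < par.length, (par.getD k (0, 0)).2 ≤ k ∧ (par.getD k (0, 0)).1 < gs.length) ∧
    par.map (fun w => comp (gs.getD w.1 idp) (es.getD w.2 idp)) = es.tail ∧
    (∀ g ∈ gs, ∀ e ∈ es, comp g e ∈ es) ∧ (∀ g ∈ gs, inM24 g = true) ∧ ∀ e ∈ es, inM24 e = true

theorem exists_subgroup {gs es : List ℕ} {par : List (ℕ × ℕ)} (h : GenList gs es par) :
    ∃ H : Subgroup (Equiv.Perm GolayPt), H ≤ M24 ∧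
      ∀ x, x ∈ H ↔ ∃ e ∈ es, toPerm e = x := by
  obtain ⟨hhead, hlen, hpar, hes, hclosed, hgs, hin⟩ := h
  have hok : ∀ e ∈ es, okPerm e = true := fun e he => okPerm_of_inM24 (hin e he)
  have hgok : ∀ g ∈ gs, okPerm g = true := fun e he => okPerm_of_inM24 (hgs e he)
  have hidp : idp ∈ es := List.mem_of_mem_head? (by rw [hhead]; rfl)
  have key : ∀ k, ∀ hk : k < es.length, ∀ x ∈ es, ∃ e ∈ es, toPerm e = toPerm es[k] * toPerm x := by
    intro k
    induction k using Nat.strong_induction_on with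
    | _ k ih =>
      intro hk x hx
      rcases k with _ | k
      · have : es[0] = idp := by
          rw [List.head?_eq_getElem?, List.getElem?_eq_getElem hk] at hhead
          exact Option.some.inj hhead
        exact ⟨x, hx, by rw [this, toPerm_idp, one_mul]⟩
      · have hk' : k < par.length := by omega
        obtain ⟨hle, hlt⟩ := hpar k hk'
        have he : es[k + 1] = comp (gs.getD (par.getD k (0, 0)).1 idp)
            (es.getD (par.getD k (0, 0)).2 idp) := by
          have h := congrArg (fun l : List ℕ => l[k]?) hes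
          simp only [List.getElem?_map, List.getElem?_tail, List.getElem?_eq_getElem hk'] at h
          rw [List.getElem?_eq_getElem hk, Option.map_some, Option.some.injEq] at h
          rw [List.getD_eq_getElem _ _ hk']
          exact h.symm
        have hj : (par.getD k (0, 0)).2 < es.length := by omega
        obtain ⟨e, hee, e1⟩ := ih _ (by omega) hj x hx
        rw [he, List.getD_eq_getElem gs _ hlt, List.getD_eq_getElem es _ hj]
        have hg := hgok _ (List.getElem_mem hlt)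
        have h2 := hok _ (List.getElem_mem hj)
        refine ⟨_, hclosed _ (List.getElem_mem hlt) e hee, ?_⟩
        rw [comp_spec hg h2 (okPerm_comp hg h2), comp_spec hg (hok e hee) (okPerm_comp hg (hok e hee)),
          e1, mul_assoc]
  let S : Submonoid (Equiv.Perm GolayPt) :=
    { carrier := {x | ∃ e ∈ es, toPerm e = x}
      one_mem' := ⟨idp, hidp, toPerm_idp⟩
      mul_mem' := by
        rintro _ _ ⟨a, ha, rfl⟩ ⟨b, hb, rfl⟩
        obtain ⟨k, hk, rfl⟩ := List.mem_iff_getElem.1 ha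
        exact key k hk b hb }
  refine ⟨{ S with inv_mem' := ?_ }, ?_, fun x => Iff.rfl⟩
  · intro x hx
    rw [inv_eq_of_mul_eq_one_left (a := x ^ (orderOf x - 1))]
    · exact pow_mem (show x ∈ S from hx) _
    · rw [← pow_succ, Nat.sub_add_cancel (orderOf_pos x), pow_orderOf_eq_one]
  · rintro _ ⟨e, he, rfl⟩
    exact toPerm_mem_M24 (hin e he)

theorem nodup_toPerm {l : List ℕ} (hok : ∀ e ∈ l, okPerm e = true) (h : (l.map pkOf).Nodup) :
    (l.map toPerm).Nodup :=
  List.Nodup.map_on (fun a ha b hb e => List.inj_on_of_nodup_map h ha hb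
    (pkOf_eq (hok a ha) (hok b hb) e)) (List.Nodup.of_map _ h)

theorem conj_into_list {gs es : List ℕ} {par : List (ℕ × ℕ)} (h : GenList gs es par)
    (l : List ℕ) (hl : ∀ e ∈ l, e ∈ es) (hnd : (l.map pkOf).Nodup) (p : ℕ) [hp : Fact p.Prime]
    (n : ℕ) (hlen : l.length = p ^ n) (hlen' : es.length = p ^ n)
    (hval : (244823040 : ℕ).factorization p = n) {g : Equiv.Perm GolayPt} (hg : g ∈ M24)
    (hgp : ∃ k, g ^ p ^ k = 1) : ∃ a ∈ M24, ∃ e ∈ es, a * g * a⁻¹ = toPerm e := by
  classical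
  obtain ⟨H, hH24, hH⟩ := exists_subgroup h
  have hok : ∀ e ∈ es, okPerm e = true := fun e he => okPerm_of_inM24 (h.2.2.2.2.2.2 e he)
  have hcard : Nat.card ↥H = p ^ n := by
    have e : (H : Set (Equiv.Perm GolayPt)) = ↑((es.map toPerm).toFinset) := by
      ext x; simp [hH]
    rw [← SetLike.coe_sort_coe, e, Nat.card_coe_set_eq, Set.ncard_coe_finset]
    refine le_antisymm ((List.toFinset_card_le _).trans (by rw [List.length_map, hlen'])) ?_
    rw [← hlen, ← List.length_map (as := l) toPerm,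
      ← List.toFinset_card_of_nodup (nodup_toPerm (fun e he => hok e (hl e he)) hnd)]
    refine Finset.card_le_card fun x hx => ?_
    simp only [List.mem_toFinset, List.mem_map] at hx ⊢
    obtain ⟨e, he, rfl⟩ := hx
    exact ⟨e, hl e he, rfl⟩
  let P : Sylow p ↥M24 := Sylow.ofCard (H.subgroupOf M24) (by
    rw [Nat.card_congr (Subgroup.subgroupOfEquivOfLe hH24).toEquiv, hcard, card_M24, hval])
  obtain ⟨k, hk⟩ := hgp
  have hP : IsPGroup p ↥(Subgroup.zpowers (⟨g, hg⟩ : ↥M24)) := by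
    rintro ⟨x, hx⟩
    obtain ⟨i, rfl⟩ := Subgroup.mem_zpowers_iff.1 hx
    refine ⟨k, Subtype.ext ?_⟩
    show ((⟨g, hg⟩ : ↥M24) ^ i) ^ p ^ k = 1
    rw [← zpow_natCast, ← zpow_mul, mul_comm, zpow_mul, zpow_natCast]
    rw [show (⟨g, hg⟩ : ↥M24) ^ p ^ k = 1 from Subtype.ext hk, one_zpow]
  obtain ⟨Q, hQ⟩ := hP.exists_le_sylow
  obtain ⟨a, ha⟩ := MulAction.exists_smul_eq ↥M24 Q P
  have h1 : MulAut.conj a • (⟨g, hg⟩ : ↥M24) ∈ (P : Subgroup ↥M24) := by
    rw [← ha, Sylow.coe_subgroup_smul]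
    exact Subgroup.smul_mem_pointwise_smul _ _ _ (hQ (Subgroup.mem_zpowers _))
  obtain ⟨e, he, e1⟩ := (hH _).1 (show ((MulAut.conj a • (⟨g, hg⟩ : ↥M24) : ↥M24) :
    Equiv.Perm GolayPt) ∈ H from h1)
  exact ⟨a, a.2, e, he, e1.symm⟩

/-- each listed element is conjugated onto one of the representatives -/
def chkReps (reps : List ℕ) : List ℕ → List ℕ → Bool
  | [], _ => true
  | _ :: _, [] => false
  | x :: xs, g :: gs => inM24 g && reps.any (fun r => conjB g x r) && chkReps reps xs gs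

theorem chkReps_spec {reps : List ℕ} : ∀ {xs gs : List ℕ}, chkReps reps xs gs = true → ∀ x ∈ xs,
    ∃ g, inM24 g = true ∧ ∃ r ∈ reps, conjB g x r = true
  | [], _, _, x, hx => by simp at hx
  | _ :: _, [], h, _, _ => by simp [chkReps] at h
  | a :: xs, g :: gs, h, x, hx => by
    simp only [chkReps, Bool.and_eq_true, List.any_eq_true] at h
    rcases List.mem_cons.1 hx with rfl | hx
    · exact ⟨g, h.1.1, h.1.2⟩
    · exact chkReps_spec h.2 x hx

theorem to_rep {reps xs gs : List ℕ} (hc : chkReps reps xs gs = true)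
    (hreps : ∀ r ∈ reps, okPerm r = true) {e : ℕ} (he : e ∈ xs) (heo : okPerm e = true)
    {a g : Equiv.Perm GolayPt} (ha : a ∈ M24) (h : a * g * a⁻¹ = toPerm e) :
    ∃ b ∈ M24, ∃ r ∈ reps, b * g * b⁻¹ = toPerm r := by
  obtain ⟨c, hc24, r, hr, hcr⟩ := chkReps_spec hc e he
  refine ⟨toPerm c * a, mul_mem (toPerm_mem_M24 hc24) ha, r, hr, ?_⟩
  have h2 := (conjB_iff (okPerm_of_inM24 hc24) heo (hreps r hr)).1 hcr
  rw [← h] at h2
  calc toPerm c * a * g * (toPerm c * a)⁻¹ = toPerm c * (a * g * a⁻¹) * (toPerm c)⁻¹ := by group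
    _ = toPerm r := by rw [h2, mul_inv_cancel_right]

/-! ### The two groups -/

/-- inorder listing -/
def inord : Tr → List ℕ
  | .leaf => []
  | .node l v r => inord l ++ v :: inord r

theorem mem_inord : ∀ {t : Tr} {x : ℕ}, x ∈ inord t → x ∈ t.toList
  | .leaf, x, h => by simp [inord] at h
  | .node l v r, x, h => by
    simp only [inord, List.mem_append, List.mem_cons] at h
    simp only [Tr.toList, List.mem_cons, List.mem_append]
    rcases h with h | h | h
    · exact Or.inr (Or.inl (mem_inord h))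
    · exact Or.inl h
    · exact Or.inr (Or.inr (mem_inord h))

theorem gen_two : GenList M24.cert.gs M24.cert.es M24.cert.par := by
  have h1 := M24.grp_ok
  simp only [grpOk, Bool.and_eq_true, decide_eq_true_eq, List.all_eq_true, List.mem_range, beq_iff_eq,
    List.any_eq_true, Bool.or_eq_true, Bool.not_eq_true', bne_iff_ne, ne_eq] at h1
  obtain ⟨⟨⟨⟨⟨⟨⟨⟨⟨⟨hgs, hhead⟩, hlen⟩, hpar⟩, hes⟩, htree⟩, hclosed⟩, -⟩, hin⟩, -⟩, -⟩ := h1
  refine ⟨hhead, hlen, hpar, hes, fun g hg e he => ?_, fun g hg => ?_, fun e he => ?_⟩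
  · simpa using htree _ (Tr.has_mem (hclosed g hg e he))
  · have := hgs g hg; simp only [inG, Bool.and_eq_true] at this; exact this.1
  · have := hin e he; simp only [inG, Bool.and_eq_true] at this; exact this.1

theorem two_sorted : incB ((inord M24.tree).map pkOf) = true ∧ (inord M24.tree).length = 1024 ∧
    M24.es.length = 1024 := by
  refine ⟨?_, ?_, ?_⟩ <;> decide +kernel

theorem reps_inM24 : inM24 t0 = true ∧ inM24 t8 = true ∧ inM24 x6 = true ∧ inM24 x0 = true := by
  decide +kernel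

/-- not the identity, squares to it -/
def isTwoB (e : ℕ) : Bool := !isIdB e && isIdB (comp e e)

theorem two_check : chkReps [t0, t8] (M24.es.filter isTwoB) inv = true := by decide +kernel

theorem isTwoB_of {e : ℕ} (he : okPerm e = true) (h : orderOf (toPerm e) = 2) : isTwoB e = true := by
  rw [orderOf_eq_prime_iff, sq, ← comp_spec he he (okPerm_comp he he)] at h
  simp only [isTwoB, Bool.and_eq_true, Bool.not_eq_true', isIdB_iff (okPerm_comp he he), h.1, and_true]
  rw [Bool.eq_false_iff, ne_eq, isIdB_iff he]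
  exact h.2

theorem order_conj (a g : Equiv.Perm GolayPt) : orderOf (a * g * a⁻¹) = orderOf g :=
  orderOf_injective (MulAut.conj a).toMonoidHom (MulAut.conj a).injective g

theorem inv_classes {g : Equiv.Perm GolayPt} (hg : g ∈ M24) (h2 : orderOf g = 2) :
    ∃ a ∈ M24, a * g * a⁻¹ = toPerm t0 ∨ a * g * a⁻¹ = toPerm t8 := by
  haveI : Fact (Nat.Prime 2) := ⟨Nat.prime_two⟩
  obtain ⟨ht, hr, -⟩ := reps_inM24
  have hval : (244823040 : ℕ).factorization 2 = 10 := by
    rw [show (244823040 : ℕ) = 2 ^ 10 * 239085 by norm_num, Nat.factorization_mul (by norm_num) (by norm_num),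
      Finsupp.add_apply, Nat.Prime.factorization_pow Nat.prime_two, Finsupp.single_eq_same,
      Nat.factorization_eq_zero_of_not_dvd (by norm_num)]
  obtain ⟨a, ha, e, he, hae⟩ := conj_into_list gen_two (inord M24.tree) (fun e he => by
      have h1 := M24.grp_ok
      simp only [grpOk, Bool.and_eq_true, List.all_eq_true] at h1
      simpa using h1.1.1.1.1.1.2 e (mem_inord he))
    ((pairwise_of_incB two_sorted.1).imp fun h => ne_of_lt h) 2 10 two_sorted.2.1 two_sorted.2.2
    hval hg ⟨1, by rw [pow_one, ← h2, pow_orderOf_eq_one]⟩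
  have heo : okPerm e = true := okPerm_of_inM24 (gen_two.2.2.2.2.2.2 e he)
  obtain ⟨b, hb, r, hr', hbr⟩ := to_rep two_check (by simp [okPerm_of_inM24 ht, okPerm_of_inM24 hr])
    (List.mem_filter.2 ⟨he, isTwoB_of heo (by rw [← hae, order_conj, h2])⟩) heo ha hae
  simp only [List.mem_cons, List.not_mem_nil, or_false] at hr'
  rcases hr' with rfl | rfl
  · exact ⟨b, hb, Or.inl hbr⟩
  · exact ⟨b, hb, Or.inr hbr⟩

/-- not the identity, cubes to it -/
def isThreeB (e : ℕ) : Bool := !isIdB e && isIdB (comp e (comp e e))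

theorem three_checks : es3.head? = some idp ∧ par3.length + 1 = es3.length ∧
    ((List.range par3.length).all fun k =>
      decide ((par3.getD k (0, 0)).2 ≤ k) && decide ((par3.getD k (0, 0)).1 < gs3.length)) = true ∧
    par3.map (fun w => comp (gs3.getD w.1 idp) (es3.getD w.2 idp)) = es3.tail ∧
    (gs3.all fun g => inM24 g && es3.all fun e => es3.contains (comp g e)) = true ∧
    es3.all inM24 = true ∧ (es3.map pkOf).Nodup ∧ es3.length = 27 ∧
    chkReps [x6, x0] (es3.filter isThreeB) d3 = true := by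
  decide +kernel

theorem isThreeB_of {e : ℕ} (he : okPerm e = true) (h : orderOf (toPerm e) = 3) :
    isThreeB e = true := by
  have h2 := okPerm_comp he he
  rw [orderOf_eq_prime_iff, show (3 : ℕ) = 2 + 1 from rfl, pow_succ', sq,
    ← comp_spec he he h2, ← comp_spec he h2 (okPerm_comp he h2)] at h
  simp only [isThreeB, Bool.and_eq_true, Bool.not_eq_true', isIdB_iff (okPerm_comp he h2), h.1, and_true]
  rw [Bool.eq_false_iff, ne_eq, isIdB_iff he]
  exact h.2

theorem three_classes {g : Equiv.Perm GolayPt} (hg : g ∈ M24) (h3 : orderOf g = 3) :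
    ∃ a ∈ M24, a * g * a⁻¹ = toPerm x6 ∨ a * g * a⁻¹ = toPerm x0 := by
  haveI : Fact (Nat.Prime 3) := ⟨Nat.prime_three⟩
  obtain ⟨-, -, hx, hy⟩ := reps_inM24
  obtain ⟨c1, c2, c3, c4, c5, c6, c7, c8, c9⟩ := three_checks
  simp only [List.all_eq_true, List.mem_range, Bool.and_eq_true, decide_eq_true_eq,
    List.contains_iff_mem] at c3 c5 c6
  have hG : GenList gs3 es3 par3 := ⟨c1, c2, c3, c4, fun g hg e he => (c5 g hg).2 e he,
    fun g hg => (c5 g hg).1, c6⟩
  have hval : (244823040 : ℕ).factorization 3 = 3 := by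
    rw [show (244823040 : ℕ) = 3 ^ 3 * 9067520 by norm_num, Nat.factorization_mul (by norm_num) (by norm_num),
      Finsupp.add_apply, Nat.Prime.factorization_pow Nat.prime_three, Finsupp.single_eq_same,
      Nat.factorization_eq_zero_of_not_dvd (by norm_num)]
  obtain ⟨a, ha, e, he, hae⟩ := conj_into_list hG es3 (fun _ h => h) c7 3 3 c8 c8 hval hg
    ⟨1, by rw [pow_one, ← h3, pow_orderOf_eq_one]⟩
  have heo : okPerm e = true := okPerm_of_inM24 (c6 e he)
  obtain ⟨b, hb, r, hr', hbr⟩ := to_rep c9 (by simp [okPerm_of_inM24 hx, okPerm_of_inM24 hy])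
    (List.mem_filter.2 ⟨he, isThreeB_of heo (by rw [← hae, order_conj, h3])⟩) heo ha hae
  simp only [List.mem_cons, List.not_mem_nil, or_false] at hr'
  rcases hr' with rfl | rfl
  · exact ⟨b, hb, Or.inl hbr⟩
  · exact ⟨b, hb, Or.inr hbr⟩

/-! ### Fixed points -/

theorem okPerm_t0 : okPerm t0 = true := okPerm_of_inM24 reps_inM24.1
theorem okPerm_t8 : okPerm t8 = true := okPerm_of_inM24 reps_inM24.2.1
theorem okPerm_x6 : okPerm x6 = true := okPerm_of_inM24 reps_inM24.2.2.1
theorem okPerm_x0 : okPerm x0 = true := okPerm_of_inM24 reps_inM24.2.2.2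

theorem rep_fix : fixMask t0 = 0 ∧ pc (fixMask t8) = 8 ∧ fixMask t8 < 16777216 ∧
    inCode (fixMask t8) = true ∧ pc (fixMask x6) = 6 ∧ fixMask x0 = 0 ∧
    isTwoB t0 = true ∧ isTwoB t8 = true ∧ isThreeB x6 = true ∧ isThreeB x0 = true := by
  decide +kernel

theorem order_t0 : orderOf (toPerm t0) = 2 := by
  have h := rep_fix.2.2.2.2.2.2.1
  simp only [isTwoB, Bool.and_eq_true, Bool.not_eq_true'] at h
  rw [orderOf_eq_prime_iff, sq, ← comp_spec okPerm_t0 okPerm_t0 (okPerm_comp okPerm_t0 okPerm_t0)]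
  exact ⟨(isIdB_iff (okPerm_comp okPerm_t0 okPerm_t0)).1 h.2,
    fun e => by rw [(isIdB_iff okPerm_t0).2 e] at h; simp at h⟩

theorem order_t8 : orderOf (toPerm t8) = 2 := by
  have h := rep_fix.2.2.2.2.2.2.2.1
  simp only [isTwoB, Bool.and_eq_true, Bool.not_eq_true'] at h
  rw [orderOf_eq_prime_iff, sq, ← comp_spec okPerm_t8 okPerm_t8 (okPerm_comp okPerm_t8 okPerm_t8)]
  exact ⟨(isIdB_iff (okPerm_comp okPerm_t8 okPerm_t8)).1 h.2,
    fun e => by rw [(isIdB_iff okPerm_t8).2 e] at h; simp at h⟩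

theorem order_three {x : ℕ} (hx : okPerm x = true) (h : isThreeB x = true) :
    orderOf (toPerm x) = 3 := by
  haveI : Fact (Nat.Prime 3) := ⟨Nat.prime_three⟩
  simp only [isThreeB, Bool.and_eq_true, Bool.not_eq_true'] at h
  have h2 := okPerm_comp hx hx
  rw [orderOf_eq_prime_iff, show (3 : ℕ) = 2 + 1 from rfl, pow_succ', sq, ← comp_spec hx hx h2,
    ← comp_spec hx h2 (okPerm_comp hx h2)]
  exact ⟨(isIdB_iff (okPerm_comp hx h2)).1 h.2,
    fun e => by rw [(isIdB_iff hx).2 e] at h; simp at h⟩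

theorem order_x6 : orderOf (toPerm x6) = 3 := order_three okPerm_x6 rep_fix.2.2.2.2.2.2.2.2.1
theorem order_x0 : orderOf (toPerm x0) = 3 := order_three okPerm_x0 rep_fix.2.2.2.2.2.2.2.2.2

theorem fix_octad_t8 : (Finset.univ.filter fun p => toPerm t8 p = p) ∈ octads := by
  rw [fix_toPerm okPerm_t8]
  exact toSet_mem_octads (mem_octList.2 ⟨rep_fix.2.2.2.1, rep_fix.2.1⟩)

theorem fix_card {q : ℕ} (hq : okPerm q = true) :
    (Finset.univ.filter fun p => toPerm q p = p).card = pc (fixMask q) := by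
  rw [fix_toPerm hq, card_toSet]

theorem fpf_iff_card (g : Equiv.Perm GolayPt) :
    (∀ p, g p ≠ p) ↔ (Finset.univ.filter fun p => g p = p).card = 0 := by
  simp [Finset.card_eq_zero, Finset.filter_eq_empty_iff]

theorem fix_card_conj {a g h : Equiv.Perm GolayPt} (e : a * g * a⁻¹ = h) :
    (Finset.univ.filter fun p => g p = p).card = (Finset.univ.filter fun p => h p = p).card := by
  rw [fix_conj e, Finset.card_smul_finset]

/-- the fixed point counts of the four classes -/
theorem fix_reps : (Finset.univ.filter fun p => toPerm t0 p = p).card = 0 ∧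
    (Finset.univ.filter fun p => toPerm t8 p = p).card = 8 ∧
    (Finset.univ.filter fun p => toPerm x6 p = p).card = 6 ∧
    (Finset.univ.filter fun p => toPerm x0 p = p).card = 0 := by
  obtain ⟨e0, e8, -, -, e6, e3, -⟩ := rep_fix
  refine ⟨?_, ?_, ?_, ?_⟩
  · rw [fix_card okPerm_t0, e0]; rfl
  · rw [fix_card okPerm_t8, e8]
  · rw [fix_card okPerm_x6, e6]
  · rw [fix_card okPerm_x0, e3]; rfl

theorem conj_t0 {g : Equiv.Perm GolayPt} (hg : g ∈ M24) (h2 : orderOf g = 2)
    (h0 : ∀ p, g p ≠ p) : ∃ a ∈ M24, a * g * a⁻¹ = toPerm t0 := by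
  obtain ⟨a, ha, h | h⟩ := inv_classes hg h2
  · exact ⟨a, ha, h⟩
  · have := fix_card_conj h
    rw [(fpf_iff_card g).1 h0, fix_reps.2.1] at this
    omega

theorem conj_t8 {g : Equiv.Perm GolayPt} (hg : g ∈ M24) (h2 : orderOf g = 2)
    (h8 : (Finset.univ.filter fun p => g p = p).card = 8) :
    ∃ a ∈ M24, a * g * a⁻¹ = toPerm t8 := by
  obtain ⟨a, ha, h | h⟩ := inv_classes hg h2
  · have := fix_card_conj h
    rw [h8, fix_reps.1] at this
    omega
  · exact ⟨a, ha, h⟩

theorem conj_x6 {g : Equiv.Perm GolayPt} (hg : g ∈ M24) (h3 : orderOf g = 3)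
    (h6 : (Finset.univ.filter fun p => g p = p).card = 6) :
    ∃ a ∈ M24, a * g * a⁻¹ = toPerm x6 := by
  obtain ⟨a, ha, h | h⟩ := three_classes hg h3
  · exact ⟨a, ha, h⟩
  · have := fix_card_conj h
    rw [h6, fix_reps.2.2.2] at this
    omega

theorem conj_x0 {g : Equiv.Perm GolayPt} (hg : g ∈ M24) (h3 : orderOf g = 3)
    (h0 : ∀ p, g p ≠ p) : ∃ a ∈ M24, a * g * a⁻¹ = toPerm x0 := by
  obtain ⟨a, ha, h | h⟩ := three_classes hg h3
  · have := fix_card_conj h
    rw [(fpf_iff_card g).1 h0, fix_reps.2.2.1] at this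
    omega
  · exact ⟨a, ha, h⟩

theorem smul_invariant {g : Equiv.Perm GolayPt} {G : Set (Finset (Finset GolayPt))}
    {a : Equiv.Perm GolayPt} (hG : ∀ S, a • S ∈ G ↔ S ∈ G) {h : Equiv.Perm GolayPt}
    (e : a * g * a⁻¹ = h) : {S | S ∈ G ∧ g • S = S}.ncard = {S | S ∈ G ∧ h • S = S}.ncard := by
  have hS : {S | S ∈ G ∧ h • S = S} = (fun S => a • S) '' {S | S ∈ G ∧ g • S = S} := by
    ext S
    constructor
    · intro hS
      refine ⟨a⁻¹ • S, ⟨?_, ?_⟩, smul_inv_smul a S⟩
      · have := (hG (a⁻¹ • S)); rw [smul_inv_smul] at this; exact this.1 hS.1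
      · rw [show g = a⁻¹ * h * a by rw [← e]; group, mul_smul, mul_smul, smul_inv_smul, hS.2]
    · rintro ⟨S, hS, rfl⟩
      refine ⟨(hG S).2 hS.1, ?_⟩
      rw [← e, mul_smul, mul_smul, inv_smul_smul, hS.2]
  rw [hS, Set.ncard_image_of_injective _ (MulAction.injective a)]

end CfsgLib.Golay.Classes
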