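import Cfsg.Agent.Lib.Golay.Mask

/-! The code as a list of 4096 masks, and a membership test by systematic encoding. -/
set_option autoImplicit false
set_option linter.deprecated false

namespace CfsgLib.Golay

open Cfsg

/-- systematic basis: the i-th has bit i and no other of the first 12 -/
def gens : List ℕ := [13062145, 4845570, 13938692, 7221256, 10170384, 11952160, 15515712, 2019456, 4038912, 8077824, 11654144, 14919680]

/-- the encoder, reading the first bits of `m` -/
def encAux : List ℕ → ℕ → ℕ
  | [], _ => 0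
  | g :: l, m => if m % 2 = 1 then g ^^^ encAux l (m / 2) else encAux l (m / 2)

/-- unrolled form of `encAux gens` -/
def encFast (m : ℕ) : ℕ :=
  (Nat.xor (Nat.land (Nat.shiftRight m 0) 1 * 13062145) (Nat.xor (Nat.land (Nat.shiftRight m 1) 1 * 4845570) (Nat.xor (Nat.land (Nat.shiftRight m 2) 1 * 13938692) (Nat.xor (Nat.land (Nat.shiftRight m 3) 1 * 7221256) (Nat.xor (Nat.land (Nat.shiftRight m 4) 1 * 10170384) (Nat.xor (Nat.land (Nat.shiftRight m 5) 1 * 11952160) (Nat.xor (Nat.land (Nat.shiftRight m 6) 1 * 15515712) (Nat.xor (Nat.land (Nat.shiftRight m 7) 1 * 2019456) (Nat.xor (Nat.land (Nat.shiftRight m 8) 1 * 4038912) (Nat.xor (Nat.land (Nat.shiftRight m 9) 1 * 8077824) (Nat.xor (Nat.land (Nat.shiftRight m 10) 1 * 11654144) (Nat.xor (Nat.land (Nat.shiftRight m 11) 1 * 14919680) 0))))))))))))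

/-- membership test -/
def inCode (m : ℕ) : Bool := encFast m == m

theorem encAux_cons' (g : ℕ) (l : List ℕ) (m i : ℕ) :
    encAux (g :: l) (Nat.shiftRight m i) =
      Nat.xor (Nat.land (Nat.shiftRight m i) 1 * g) (encAux l (Nat.shiftRight m (i + 1))) := by
  rw [encAux, Nat.shiftRight]
  rw [show Nat.land (Nat.shiftRight m i) 1 = Nat.shiftRight m i % 2 from Nat.and_one_is_mod _]
  rcases Nat.mod_two_eq_zero_or_one (Nat.shiftRight m i) with h | h <;> rw [h] <;> simp

theorem encFast_eq (m : ℕ) : encFast m = encAux gens m := by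
  conv_rhs => rw [show m = Nat.shiftRight m 0 from rfl, gens]
  iterate 12 rw [encAux_cons']
  rfl

/-- all xors of subsets -/
def spanList : List ℕ → List ℕ
  | [] => [0]
  | g :: l => (spanList l).flatMap fun x => [x, g ^^^ x]

/-- the 4096 code words as masks -/
def codeList : List ℕ := spanList gens

theorem encAux_xor : ∀ (l : List ℕ) (a b : ℕ), encAux l (a ^^^ b) = encAux l a ^^^ encAux l b
  | [], _, _ => by simp [encAux]
  | g :: l, a, b => by
    have h1 : (a ^^^ b) / 2 = a / 2 ^^^ b / 2 := Nat.xor_div_two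
    have h2 : (a ^^^ b) % 2 = 1 ↔ ¬(a % 2 = 1 ↔ b % 2 = 1) := by
      rw [Nat.xor_mod_two_eq, Nat.add_mod]
      rcases Nat.mod_two_eq_zero_or_one a with h | h <;>
        rcases Nat.mod_two_eq_zero_or_one b with h' | h' <;> simp [h, h']
    simp only [encAux, h1, encAux_xor l (a / 2) (b / 2), h2]
    by_cases ha : a % 2 = 1 <;> by_cases hb : b % 2 = 1 <;> simp [ha, hb]
    · rw [Nat.xor_assoc g, ← Nat.xor_assoc (encAux l (a / 2)) g, Nat.xor_comm (encAux l (a / 2)) g,
        Nat.xor_assoc, ← Nat.xor_assoc, Nat.xor_self, Nat.zero_xor]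
    · rw [Nat.xor_assoc]
    · rw [← Nat.xor_assoc, ← Nat.xor_assoc, Nat.xor_comm g]

theorem inCode_xor {a b : ℕ} (ha : inCode a = true) (hb : inCode b = true) :
    inCode (a ^^^ b) = true := by
  simp only [inCode, beq_iff_eq, encFast_eq] at *
  rw [encAux_xor, ha, hb]

theorem encAux_mem_spanList : ∀ (l : List ℕ) (m : ℕ), encAux l m ∈ spanList l
  | [], _ => by simp [encAux, spanList]
  | g :: l, m => by
    simp only [encAux, spanList, List.mem_flatMap, List.mem_cons, List.not_mem_nil, or_false]
    split_ifs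
    · exact ⟨_, encAux_mem_spanList l _, Or.inr rfl⟩
    · exact ⟨_, encAux_mem_spanList l _, Or.inl rfl⟩

theorem codeList_all : codeList.all (fun m => inCode m && decide (m < 16777216)) = true := by
  decide +kernel

theorem mem_codeList {m : ℕ} : m ∈ codeList ↔ inCode m = true := by
  constructor
  · intro h
    have := List.all_eq_true.1 codeList_all m h
    simp only [Bool.and_eq_true] at this
    exact this.1
  · intro h
    simp only [inCode, beq_iff_eq, encFast_eq] at h
    exact h ▸ encAux_mem_spanList gens m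

theorem lt_of_inCode {m : ℕ} (h : inCode m = true) : m < 16777216 := by
  have := List.all_eq_true.1 codeList_all m (mem_codeList.2 h)
  simp only [Bool.and_eq_true, decide_eq_true_eq] at this
  exact this.2

theorem codeList_nodup : codeList.Nodup := by
  have h : codeList.map (fun m => m % 4096) = List.range 4096 :=
    eq_of_beq (by decide +kernel)
  exact List.Nodup.of_map _ (h ▸ List.nodup_range)

/-- for each basis word, the positions in the spanning list (23 translates, then the all-ones word) -/
def combs : List (List ℕ) := [[0, 3, 5, 7, 9, 10, 23], [3, 4, 8], [0, 3, 4, 7, 10, 23], [3, 4, 5, 6, 8, 10], [1, 3, 4, 5, 7, 9, 10, 23], [0, 1, 2, 4, 7, 8, 9, 10, 23], [0, 2, 3, 6, 7, 8, 10, 23], [4, 6, 7, 8, 9, 10], [0, 1, 6, 8, 10], [0, 2, 5, 6], [0, 1, 5, 6, 9, 10, 23], [0, 2, 5, 9, 10, 23]]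

/-- masks of the spanning words -/
def srcMask (i : ℕ) : ℕ := [340831, 681662, 1363324, 2726648, 5453296, 2517985, 5035970, 1683333, 3366666, 6733332, 5078057, 1767507, 3535014, 7070028, 5751449, 3114291, 6228582, 4068557, 8137114, 7885621, 7382635, 6376663, 4364719, 16777215].getD i 0

theorem qrWord_eq (t : ZMod 23) : qrWord t = toWord (srcMask t.val) := by
  revert t; decide +kernel

theorem one_eq : (1 : GolayPt → ZMod 2) = toWord (srcMask 23) := by
  decide +kernel

theorem toWord_srcMask_mem (i : ℕ) : toWord (srcMask i) ∈ golayCode := by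
  rcases lt_trichotomy i 23 with h | h | h
  · apply Submodule.subset_span
    left
    refine ⟨(i : ZMod 23), ?_⟩
    rw [qrWord_eq, ZMod.val_natCast_of_lt h]
  · apply Submodule.subset_span
    right
    rw [h, ← one_eq]; rfl
  · have : srcMask i = 0 := by
      rw [srcMask, List.getD_eq_default]; simp; omega
    rw [this]
    have : toWord 0 = 0 := by funext p; simp [toWord]
    rw [this]; exact Submodule.zero_mem _

theorem toWord_foldr_mem : ∀ c : List ℕ,
    toWord (c.foldr (fun i a => srcMask i ^^^ a) 0) ∈ golayCode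
  | [] => by
    have : toWord 0 = 0 := by funext p; simp [toWord]
    rw [List.foldr_nil, this]; exact Submodule.zero_mem _
  | i :: c => by
    rw [List.foldr_cons, toWord_xor]
    exact Submodule.add_mem _ (toWord_srcMask_mem i) (toWord_foldr_mem c)

theorem gens_eq : gens = combs.map (fun c => c.foldr (fun i a => srcMask i ^^^ a) 0) := by
  decide +kernel

theorem toWord_gen_mem {g : ℕ} (h : g ∈ gens) : toWord g ∈ golayCode := by
  rw [gens_eq] at h
  obtain ⟨c, -, rfl⟩ := List.mem_map.1 h
  exact toWord_foldr_mem c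

theorem toWord_spanList_mem : ∀ (l : List ℕ), (∀ g ∈ l, toWord g ∈ golayCode) →
    ∀ m ∈ spanList l, toWord m ∈ golayCode
  | [], _, m, hm => by
    simp only [spanList, List.mem_singleton] at hm
    subst hm
    have : toWord 0 = 0 := by funext p; simp [toWord]
    rw [this]; exact Submodule.zero_mem _
  | g :: l, hl, m, hm => by
    simp only [spanList, List.mem_flatMap, List.mem_cons, List.not_mem_nil, or_false] at hm
    have ih := toWord_spanList_mem l (fun x hx => hl x (List.mem_cons_of_mem _ hx))
    obtain ⟨x, hx, rfl | rfl⟩ := hm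
    · exact ih m hx
    · rw [toWord_xor]
      exact Submodule.add_mem _ (hl g List.mem_cons_self) (ih x hx)

theorem toMask_symmDiff (s t : Finset GolayPt) :
    toMask (symmDiff s t) = toMask s ^^^ toMask t := by
  apply toSet_inj (toMask_lt _)
  · exact Nat.xor_lt_two_pow (n := 24) (toMask_lt s) (toMask_lt t)
  · rw [toSet_xor, toSet_toMask, toSet_toMask, toSet_toMask]

theorem support₂_add (v w : GolayPt → ZMod 2) :
    support₂ (v + w) = symmDiff (support₂ v) (support₂ w) := by
  ext p
  simp only [support₂, Pi.add_apply, Finset.mem_filter, Finset.mem_univ, true_and,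
    Finset.mem_symmDiff]
  generalize v p = x
  generalize w p = y
  revert x y
  decide

theorem mem_golayCode_iff (w : GolayPt → ZMod 2) :
    w ∈ golayCode ↔ inCode (toMask (support₂ w)) = true := by
  constructor
  · intro hw
    induction hw using Submodule.span_induction with
    | mem x hx =>
      rcases hx with ⟨t, rfl⟩ | hx
      · revert t; decide +kernel
      · rw [Set.mem_singleton_iff] at hx; subst hx; decide +kernel
    | zero => decide +kernel
    | add x y _ _ hx hy => rw [support₂_add, toMask_symmDiff]; exact inCode_xor hx hy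
    | smul a x _ hx =>
      obtain rfl | rfl : a = 0 ∨ a = 1 := by revert a; decide
      · rw [zero_smul]; decide +kernel
      · rwa [one_smul]
  · intro h
    have := toWord_spanList_mem gens (fun g hg => toWord_gen_mem hg) _ (mem_codeList.2 h)
    rwa [toWord_toMask_support₂] at this

theorem toWord_mem_iff {m : ℕ} (h : m < 16777216) : toWord m ∈ golayCode ↔ inCode m = true := by
  rw [mem_golayCode_iff, support₂_toWord, toMask_toSet h]

theorem mem_supports_iff (s : Finset GolayPt) :
    s ∈ supports (golayCode : Set (GolayPt → ZMod 2)) ↔ inCode (toMask s) = true := by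
  constructor
  · rintro ⟨w, hw, rfl⟩
    exact (mem_golayCode_iff w).1 hw
  · intro h
    refine ⟨toWord (toMask s), (toWord_mem_iff (toMask_lt s)).2 h, ?_⟩
    rw [support₂_toWord, toSet_toMask]

theorem supports_eq :
    supports (golayCode : Set (GolayPt → ZMod 2)) = toSet '' {m | m ∈ codeList} := by
  ext s
  rw [mem_supports_iff, Set.mem_image]
  constructor
  · exact fun h => ⟨_, mem_codeList.2 h, toSet_toMask s⟩
  · rintro ⟨m, hm, rfl⟩
    rw [toMask_toSet (lt_of_inCode (mem_codeList.1 hm))]
    exact mem_codeList.1 hm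

theorem mem_wordsOfWeight_iff (n : ℕ) (s : Finset GolayPt) :
    s ∈ wordsOfWeight (golayCode : Set (GolayPt → ZMod 2)) n ↔
      inCode (toMask s) = true ∧ pc (toMask s) = n := by
  simp only [wordsOfWeight, Set.mem_setOf_eq, mem_supports_iff]
  rw [← card_toSet, toSet_toMask]

theorem wordsOfWeight_eq (n : ℕ) (l : List ℕ) (h : codeList.filter (fun m => pc m == n) = l) :
    wordsOfWeight (golayCode : Set (GolayPt → ZMod 2)) n = toSet '' {m | m ∈ l} := by
  subst h
  ext s
  rw [mem_wordsOfWeight_iff, Set.mem_image]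
  simp only [Set.mem_setOf_eq, List.mem_filter, beq_iff_eq]
  constructor
  · exact fun h => ⟨_, ⟨mem_codeList.2 h.1, h.2⟩, toSet_toMask s⟩
  · rintro ⟨m, ⟨hm, hn⟩, rfl⟩
    rw [toMask_toSet (lt_of_inCode (mem_codeList.1 hm))]
    exact ⟨mem_codeList.1 hm, hn⟩

theorem ncard_image_toSet (l : List ℕ) (hnd : l.Nodup) (hb : ∀ m ∈ l, m < 16777216) :
    (toSet '' {m | m ∈ l}).ncard = l.length := by
  have hi : Set.InjOn toSet {m | m ∈ l} := fun a ha b hb' h => toSet_inj (hb a ha) (hb b hb') h
  rw [hi.ncard_image]
  rw [show {m | m ∈ l} = ((l.toFinset : Finset ℕ) : Set ℕ) by ext; simp, Set.ncard_coe_finset,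
    List.toFinset_card_of_nodup hnd]

theorem ncard_wordsOfWeight (n : ℕ) :
    (wordsOfWeight (golayCode : Set (GolayPt → ZMod 2)) n).ncard =
      (codeList.filter (fun m => pc m == n)).length := by
  rw [wordsOfWeight_eq n _ rfl]
  exact ncard_image_toSet _ (codeList_nodup.filter _)
    fun m hm => lt_of_inCode (mem_codeList.1 (List.mem_filter.1 hm).1)

end CfsgLib.Golay
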