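import Cfsg.Agent.Lib.Golay.Classes

/-! How many octads, dodecads, trios and sextets a listed permutation maps to themselves. -/
set_option autoImplicit false
set_option linter.all false
set_option maxRecDepth 100000

namespace CfsgLib.Golay.Classes

open Cfsg CfsgLib.Golay CfsgLib.Golay.TwoFusion CfsgLib.Golay.Search
open scoped Pointwise

theorem pmask_lt {p : ℕ} (h : okPerm p = true) (m : ℕ) : pmask p m < 16777216 := by
  refine lt_of_lt_of_eq (b := 2 ^ 24) (Nat.lt_pow_two_of_testBit _ fun j hj => ?_) (by norm_num)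
  by_contra hne
  rw [Bool.not_eq_false, pmask_eq, testBit_pmGo] at hne
  obtain ⟨i, hi, -, rfl⟩ := hne
  exact absurd (img_lt h hi) (by omega)

/-- blocks fixed by a listed permutation -/
def blkCnt (r : ℕ) (L : List ℕ) : ℕ := L.countP fun m => pmask r m == m

theorem ncard_blocks {r : ℕ} (hr : okPerm r = true) {L : List ℕ} {B : Set (Finset GolayPt)}
    (hB : B = toSet '' {m | m ∈ L}) (hlt : ∀ m ∈ L, m < 16777216) (hnd : L.Nodup) :
    {o | o ∈ B ∧ toPerm r • o = o}.ncard = blkCnt r L := by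
  classical
  have e : {o | o ∈ B ∧ toPerm r • o = o} =
      ↑(((L.filter fun m => pmask r m == m).map toSet).toFinset) := by
    ext o
    subst hB
    simp only [Set.mem_ofPred_eq, Set.mem_image, Finset.mem_coe, List.mem_toFinset, List.mem_map,
      List.mem_filter, beq_iff_eq]
    constructor
    · rintro ⟨⟨m, hm, rfl⟩, he⟩
      rw [smul_toSet hr] at he
      exact ⟨m, ⟨hm, toSet_inj (pmask_lt hr m) (hlt m hm) he⟩, rfl⟩
    · rintro ⟨m, ⟨hm, he⟩, rfl⟩
      exact ⟨⟨m, hm, rfl⟩, by rw [smul_toSet hr, he]⟩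
  rw [e, Set.ncard_coe_finset, List.toFinset_card_of_nodup
    (List.Nodup.map_on (fun a ha b hb h => toSet_inj (hlt a (List.mem_filter.1 ha).1)
      (hlt b (List.mem_filter.1 hb).1) h) (hnd.filter _)), List.length_map, blkCnt,
    List.countP_eq_length_filter]

/-- systems fixed by a listed permutation -/
def sysCnt (r : ℕ) (E : List (List ℕ)) : ℕ := E.countP fun l => sameSys (l.map (pmask r)) l

theorem same_of_Sys_eq {a b : List ℕ} (ha : ∀ m ∈ a, m < 16777216) (hb : ∀ m ∈ b, m < 16777216)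
    (h : Sys a = Sys b) : sameSys a b = true := by
  simp only [sameSys, Bool.and_eq_true, List.all_eq_true, List.contains_iff_mem]
  constructor
  · intro m hm
    obtain ⟨m', hm', e⟩ := mem_Sys.1 (h ▸ mem_Sys.2 ⟨m, hm, rfl⟩ : toSet m ∈ Sys b)
    rwa [← toSet_inj (hb m' hm') (ha m hm) e]
  · intro m hm
    obtain ⟨m', hm', e⟩ := mem_Sys.1 (h.symm ▸ mem_Sys.2 ⟨m, hm, rfl⟩ : toSet m ∈ Sys a)
    rwa [← toSet_inj (ha m' hm') (hb m hm) e]

theorem ncard_systems {r : ℕ} (hr : okPerm r = true) (K : Kind) :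
    {S | S ∈ K.Ys ∧ toPerm r • S = S}.ncard = sysCnt r K.E := by
  classical
  have hlt : ∀ l ∈ K.E, ∀ m ∈ l, m < 16777216 := by
    intro l hl m hm
    have := List.all_eq_true.1 K.ok l hl
    simp only [okSys, Bool.and_eq_true, List.all_eq_true, decide_eq_true_eq] at this
    exact this.1 m hm
  have e : {S | S ∈ K.Ys ∧ toPerm r • S = S} =
      ↑(((K.E.filter fun l => sameSys (l.map (pmask r)) l).map Sys).toFinset) := by
    ext S
    simp only [Set.mem_ofPred_eq, Finset.mem_coe, List.mem_toFinset, List.mem_map, List.mem_filter]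
    constructor
    · rintro ⟨hS, he⟩
      obtain ⟨l, hl, rfl⟩ := (K.mem S).1 hS
      rw [smul_Sys hr] at he
      exact ⟨l, ⟨hl, same_of_Sys_eq (fun m hm => by
        obtain ⟨a, -, rfl⟩ := List.mem_map.1 hm; exact pmask_lt hr a) (hlt l hl) he⟩, rfl⟩
    · rintro ⟨l, ⟨hl, he⟩, rfl⟩
      exact ⟨(K.mem _).2 ⟨l, hl, rfl⟩, by rw [smul_Sys hr, Sys_eq_of_same he]⟩
  rw [e, Set.ncard_coe_finset, List.toFinset_card_of_nodup
    (List.Nodup.map_on (fun a ha b hb h => List.inj_on_of_nodup_map K.nodup (List.mem_filter.1 ha).1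
      (List.mem_filter.1 hb).1 h) ((List.Nodup.of_map _ K.nodup).filter _)), List.length_map,
    sysCnt, List.countP_eq_length_filter]

theorem counts_check :
    (blkCnt t8 octList, sysCnt t8 trioList, sysCnt t8 sexList) = (71, 99, 91) ∧
    (blkCnt t0 octList, sysCnt t0 trioList, sysCnt t0 sexList) = (15, 75, 51) ∧
    (blkCnt x6 octList, sysCnt x6 trioList, sysCnt x6 sexList, blkCnt x6 dodList) = (21, 15, 16, 20) ∧
    (sysCnt x0 trioList, sysCnt x0 sexList) = (15, 7) := by
  decide +kernel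

theorem smul_invariant_blocks {g : Equiv.Perm GolayPt} {G : Set (Finset GolayPt)}
    {a : Equiv.Perm GolayPt} (hG : ∀ S, a • S ∈ G ↔ S ∈ G) {h : Equiv.Perm GolayPt}
    (e : a * g * a⁻¹ = h) : {S | S ∈ G ∧ g • S = S}.ncard = {S | S ∈ G ∧ h • S = S}.ncard := by
  have hS : {S | S ∈ G ∧ h • S = S} = (fun S => a • S) '' {S | S ∈ G ∧ g • S = S} := by
    ext S
    constructor
    · intro hS
      refine ⟨a⁻¹ • S, ⟨?_, ?_⟩, smul_inv_smul a S⟩
      · have := (hG (a⁻¹ • S)); rw [smul_inv_smul] at this; exact this.1 hS.1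
      · rw [show g = a⁻¹ * h * a by rw [← e]; group, mul_smul, mul_smul, smul_inv_smul, hS.2]
    · rintro ⟨S, hS, rfl⟩
      refine ⟨(hG S).2 hS.1, ?_⟩
      rw [← e, mul_smul, mul_smul, inv_smul_smul, hS.2]
  rw [hS, Set.ncard_image_of_injective _ (MulAction.injective a)]

theorem octads_inv {a : Equiv.Perm GolayPt} (ha : a ∈ M24) (S : Finset GolayPt) :
    a • S ∈ octads ↔ S ∈ octads :=
  ⟨fun h => by simpa using smul_octad (inv_mem ha) h, smul_octad ha⟩

theorem dodecads_inv {a : Equiv.Perm GolayPt} (ha : a ∈ M24) (S : Finset GolayPt) :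
    a • S ∈ dodecads ↔ S ∈ dodecads :=
  ⟨fun h => by simpa using smul_dodecad (inv_mem ha) h, smul_dodecad ha⟩

theorem trios_inv {a : Equiv.Perm GolayPt} (ha : a ∈ M24) (S : Finset (Finset GolayPt)) :
    a • S ∈ trios ↔ S ∈ trios :=
  ⟨fun h => by simpa using smul_trio (inv_mem ha) h, smul_trio ha⟩

theorem sextets_inv {a : Equiv.Perm GolayPt} (ha : a ∈ M24) (S : Finset (Finset GolayPt)) :
    a • S ∈ sextets ↔ S ∈ sextets :=
  ⟨fun h => by simpa using smul_sextet (inv_mem ha) h, smul_sextet ha⟩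

/-- transport of the four counts to a listed representative -/
theorem counts_conj {g a : Equiv.Perm GolayPt} {r : ℕ} (ha : a ∈ M24) (hr : okPerm r = true)
    (e : a * g * a⁻¹ = toPerm r) :
    {o | o ∈ octads ∧ g • o = o}.ncard = blkCnt r octList ∧
    {o | o ∈ dodecads ∧ g • o = o}.ncard = blkCnt r dodList ∧
    {T | T ∈ trios ∧ g • T = T}.ncard = sysCnt r trioList ∧
    {S | S ∈ sextets ∧ g • S = S}.ncard = sysCnt r sexList :=
  ⟨(smul_invariant_blocks (octads_inv ha) e).trans
      (ncard_blocks hr octads_eq (fun _ => octList_lt) octList_nodup),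
    (smul_invariant_blocks (dodecads_inv ha) e).trans
      (ncard_blocks hr dodecads_eq (fun _ => dodList_lt) dodList_nodup),
    (smul_invariant (trios_inv ha) e).trans (ncard_systems hr trioKind),
    (smul_invariant (sextets_inv ha) e).trans (ncard_systems hr sexKind)⟩

end CfsgLib.Golay.Classes
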