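import Cfsg.Agent.Lib.Golay.Classes
import Cfsg.Agent.Lib.Golay.FixCount

/-! No involution or element of order three fixes a dodecad and has all fixed points inside it. -/
set_option autoImplicit false
set_option linter.all false
set_option maxRecDepth 100000

namespace CfsgLib.Golay.Classes

open Cfsg CfsgLib.Golay
open scoped Pointwise

theorem no_dodecad_check : [t8, x6].all (fun r => dodList.all fun d =>
    !(d &&& Search.fixMask r == Search.fixMask r) || !(pmask r d == d)) = true := by decide +kernel

theorem no_dodecad {g a : Equiv.Perm GolayPt} {r : ℕ} (ha : a ∈ M24) (hr : r = t8 ∨ r = x6)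
    (e : a * g * a⁻¹ = toPerm r) {d : Finset GolayPt} (hd : d ∈ dodecads) (hgd : g • d = d)
    (h : (Finset.univ.filter fun p => g p = p) ⊆ d) : False := by
  have hro : okPerm r = true := by
    rcases hr with rfl | rfl
    · exact okPerm_t8
    · exact okPerm_x6
  obtain ⟨m, hm, em⟩ := exists_mask_dodecad (smul_dodecad ha hd)
  have h1 : toPerm r • toSet m = toSet m := by
    rw [em, ← e, mul_smul, mul_smul, inv_smul_smul, hgd]
  have h2 : toSet (Search.fixMask r) ⊆ toSet m := by
    rw [← Search.fix_toPerm hro, Search.fix_conj e, em]
    exact Finset.smul_finset_subset_smul_finset h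
  rw [smul_toSet hro] at h1
  have hm' := toSet_inj (pmask_lt hro m) (dodList_lt hm) h1
  have hfl : Search.fixMask r < 16777216 := by
    rcases hr with rfl | rfl <;> decide +kernel
  rw [toSet_subset_iff hfl, Nat.land_comm] at h2
  have hc := List.all_eq_true.1 (List.all_eq_true.1 no_dodecad_check r (by rcases hr with rfl | rfl <;> simp)) m hm
  rw [h2, hm'] at hc
  simp at hc

end CfsgLib.Golay.Classes
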