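import Cfsg.Agent.Lib.Golay.Chain

/-! Generation and lower bounds from transversal chains, for arbitrary generators. -/
set_option autoImplicit false
set_option linter.all false

namespace CfsgLib.Golay

open Cfsg

/-- lookup in a straight-line program -/
def slpGet' (data : List (List (ℕ × ℕ × ℕ × ℕ))) (i : ℕ) : ℕ × ℕ × ℕ × ℕ :=
  (data.getD (i / 32) []).getD (i % 32) (9, 0, 0, 0)

/-- validity of step `k` -/
def slpOk' (gs : List ℕ) (data : List (List (ℕ × ℕ × ℕ × ℕ))) (k : ℕ) : Bool :=
  let e := slpGet' data k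
  if e.1 == 0 then gs.contains e.2.2.2 && okPerm e.2.2.2
  else if e.1 == 1 then decide (e.2.1 < k) && decide (e.2.2.1 < k) &&
    (comp (slpGet' data e.2.1).2.2.2 (slpGet' data e.2.2.1).2.2.2 == e.2.2.2)
  else if e.1 == 2 then decide (e.2.1 < k) && okPerm e.2.2.2 &&
    (comp (slpGet' data e.2.1).2.2.2 e.2.2.2 == idp)
  else (e.1 == 3) && (e.2.2.2 == idp)

theorem slp_sound' {H : Subgroup (Equiv.Perm GolayPt)} {gs : List ℕ}
    {data : List (List (ℕ × ℕ × ℕ × ℕ))} (hgs : ∀ g ∈ gs, toPerm g ∈ H) {n : ℕ}
    (hall : (List.range n).all (slpOk' gs data) = true) :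
    ∀ k < n, okPerm (slpGet' data k).2.2.2 = true ∧ toPerm (slpGet' data k).2.2.2 ∈ H := by
  intro k
  induction k using Nat.strong_induction_on with
  | _ k ih =>
    intro hk
    have h := List.all_eq_true.1 hall k (List.mem_range.2 hk)
    simp only [slpOk'] at h
    split_ifs at h with h0 h1 h2
    · simp only [Bool.and_eq_true, List.contains_iff_mem] at h
      exact ⟨h.2, hgs _ h.1⟩
    · simp only [Bool.and_eq_true, decide_eq_true_eq, beq_iff_eq] at h
      obtain ⟨⟨hi, hj⟩, e⟩ := h
      obtain ⟨oa, ma⟩ := ih _ hi (by omega)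
      obtain ⟨ob, mb⟩ := ih _ hj (by omega)
      rw [← e]
      exact ⟨okPerm_comp oa ob, (comp_spec oa ob (okPerm_comp oa ob)).symm ▸ mul_mem ma mb⟩
    · simp only [Bool.and_eq_true, decide_eq_true_eq, beq_iff_eq] at h
      obtain ⟨⟨hi, ob⟩, e⟩ := h
      obtain ⟨oa, ma⟩ := ih _ hi (by omega)
      refine ⟨ob, ?_⟩
      have e' := comp_spec oa ob (okPerm_comp oa ob)
      rw [e, toPerm_idp] at e'
      rw [eq_inv_of_mul_eq_one_right e'.symm]
      exact inv_mem ma
    · simp only [Bool.and_eq_true, beq_iff_eq] at h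
      rw [h.2, toPerm_idp]
      exact ⟨by decide +kernel, one_mem _⟩

/-- the positions point at the transversal elements -/
def slpPosOk (gs : List ℕ) (data : List (List (ℕ × ℕ × ℕ × ℕ))) (n : ℕ) (pos : List (List ℕ))
    (trs : List (List ℕ)) : Bool :=
  (List.range n).all (slpOk' gs data) && pos.flatten.all (fun i => decide (i < n)) &&
    (pos.map (fun l => l.map fun i => (slpGet' data i).2.2.2) == trs)

theorem slp_trs {H : Subgroup (Equiv.Perm GolayPt)} {gs : List ℕ}
    {data : List (List (ℕ × ℕ × ℕ × ℕ))} {n : ℕ} {pos trs : List (List ℕ)}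
    (h : slpPosOk gs data n pos trs = true) (hgs : ∀ g ∈ gs, toPerm g ∈ H) :
    ∀ p ∈ trs.flatten, toPerm p ∈ H := by
  simp only [slpPosOk, Bool.and_eq_true, beq_iff_eq] at h
  obtain ⟨⟨h1, h2⟩, rfl⟩ := h
  intro p hp
  rw [← List.map_flatten, List.mem_map] at hp
  obtain ⟨i, hi, rfl⟩ := hp
  exact (slp_sound' hgs h1 i (of_decide_eq_true (List.all_eq_true.1 h2 i hi))).2

/-- the transversals have distinct images and fix the earlier base points -/
def chkLv : List ℕ → List (List ℕ) → Bool
  | b :: bs, t :: ts =>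
    decide (b < 24) && t.all okPerm && decide (t.map (fun p => img p b)).Nodup &&
      ts.flatten.all (fun p => okPerm p && img p b == b) && chkLv bs ts
  | [], [] => true
  | _, _ => false

theorem prod_le_card : ∀ {bs : List ℕ} {ts : List (List ℕ)}, chkLv bs ts = true →
    ∀ {H : Subgroup (Equiv.Perm GolayPt)}, (∀ p ∈ ts.flatten, toPerm p ∈ H) →
      (ts.map List.length).prod ≤ Nat.card H
  | [], [], _, H, _ => by
    simp only [List.map_nil, List.prod_nil]
    exact Nat.card_pos
  | b :: bs, t :: ts, h, H, hH => by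
    classical
    simp only [chkLv, Bool.and_eq_true, decide_eq_true_eq, List.all_eq_true, beq_iff_eq] at h
    obtain ⟨⟨⟨⟨hb, hok⟩, hnd⟩, hfix⟩, hrec⟩ := h
    set H' : Subgroup (Equiv.Perm GolayPt) := H ⊓ MulAction.stabilizer _ (pt b) with hH'
    have ih : (ts.map List.length).prod ≤ Nat.card H' := by
      refine prod_le_card hrec fun p hp => ⟨hH p (by simp [hp]), ?_⟩
      change toPerm p (pt b) = pt b
      rw [toPerm_apply (hfix p hp).1, idx_pt hb, (hfix p hp).2]
    have e2 : Nat.card H' = Nat.card (MulAction.stabilizer H (pt b)) :=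
      Nat.card_congr ⟨fun g => ⟨⟨g.1, g.2.1⟩, g.2.2⟩, fun g => ⟨g.1.1, g.1.2, g.2⟩,
        fun _ => rfl, fun _ => rfl⟩
    have horb : t.length ≤ (MulAction.orbit H (pt b)).ncard := by
      have hsub : ((((t.map fun p => img p b).map pt).toFinset : Finset GolayPt) : Set GolayPt) ⊆
          MulAction.orbit H (pt b) := by
        intro x hx
        simp only [List.coe_toFinset, List.mem_map, Set.mem_ofPred_eq] at hx
        obtain ⟨_, ⟨p, hp, rfl⟩, rfl⟩ := hx
        refine ⟨⟨toPerm p, hH p (by simp [hp])⟩, ?_⟩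
        change toPerm p (pt b) = _
        rw [toPerm_apply (hok p hp), idx_pt hb]
      have := Set.ncard_le_ncard hsub
      rw [Set.ncard_coe_finset, List.toFinset_card_of_nodup, List.length_map, List.length_map] at this
      · exact this
      · refine List.Nodup.map_on (fun x hx y hy e => ?_) hnd
        simp only [List.mem_map] at hx hy
        obtain ⟨p, hp, rfl⟩ := hx
        obtain ⟨q, hq, rfl⟩ := hy
        have := congrArg idx e
        rwa [idx_pt (img_lt (hok p hp) hb), idx_pt (img_lt (hok q hq) hb)] at this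
    rw [List.map_cons, List.prod_cons,
      Subgroup.card_eq_card_quotient_mul_card_subgroup (MulAction.stabilizer H (pt b)), ← e2,
      ← Nat.card_congr (MulAction.orbitEquivQuotientStabilizer H (pt b)), Nat.card_coe_set_eq]
    exact Nat.mul_le_mul horb ih
  | [], _ :: _, h, _, _ => by simp [chkLv] at h
  | _ :: _, [], h, _, _ => by simp [chkLv] at h

theorem closure_eq {G : Subgroup (Equiv.Perm GolayPt)} {gs : List ℕ}
    {data : List (List (ℕ × ℕ × ℕ × ℕ))} {n : ℕ} {pos : List (List ℕ)} {bs : List ℕ}
    {trs : List (List ℕ)} (h : slpPosOk gs data n pos trs = true) (hlv : chkLv bs trs = true)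
    (hgG : ∀ g ∈ gs, toPerm g ∈ G) (hcard : Nat.card G = (trs.map List.length).prod) :
    Subgroup.closure {x | ∃ g ∈ gs, toPerm g = x} = G := by
  have hle : Subgroup.closure {x | ∃ g ∈ gs, toPerm g = x} ≤ G :=
    (Subgroup.closure_le G).2 (by rintro _ ⟨g, hg, rfl⟩; exact hgG g hg)
  refine Subgroup.eq_of_le_of_card_ge hle ?_
  rw [hcard]
  exact prod_le_card hlv (slp_trs h fun g hg => Subgroup.subset_closure ⟨g, hg, rfl⟩)

/-- every point of the mask outside the prefix is an image -/
def chkCover (A : ℕ) : List ℕ → List ℕ → List (List ℕ) → Bool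
  | pre, b :: bs, t :: ts =>
    decide (b < 24) && A.testBit b &&
      t.all (fun p => okPerm p && pre.all (fun c => decide (c < 24) && (img p c == c))) &&
      (List.range 24).all (fun j => !(A.testBit j) || pre.contains j ||
        t.any (fun p => img p b == j)) &&
      chkCover A (pre ++ [b]) bs ts
  | _, [], [] => true
  | _, _, _ => false

/-- tuples in the mask can be moved to the base -/
theorem cover_to_base {G : Subgroup (Equiv.Perm GolayPt)} {A : ℕ} :
    ∀ {bs pre : List ℕ} {ts : List (List ℕ)}, chkCover A pre bs ts = true →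
      (∀ p ∈ ts.flatten, toPerm p ∈ G) → (∀ g ∈ G, ∀ x ∈ toSet A, g x ∈ toSet A) →
      ∀ {m : ℕ} (x : Fin m → GolayPt), Function.Injective x → (∀ i, x i ∈ toSet A) →
        ∀ (g : Equiv.Perm GolayPt), g ∈ G → (∀ i : Fin m, (i : ℕ) < pre.length →
          g (x i) = pt (pre.getD i 0)) → pre.length + bs.length ≥ m →
        ∃ g' ∈ G, ∀ i : Fin m, g' (x i) = pt ((pre ++ bs).getD i 0)
  | [], pre, [], _, _, _, m, x, _, _, g, hg, hgx, hm => by
    refine ⟨g, hg, fun i => ?_⟩
    rw [List.append_nil]
    exact hgx i (by simp at hm; omega)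
  | b :: bs, pre, t :: ts, h, hG, hA, m, x, hxi, hxA, g, hg, hgx, hm => by
    simp only [chkCover, Bool.and_eq_true, decide_eq_true_eq, List.all_eq_true, List.mem_range,
      Bool.or_eq_true, Bool.not_eq_true', List.any_eq_true, beq_iff_eq,
      List.contains_iff_mem] at h
    obtain ⟨⟨⟨⟨hb, hbA⟩, ht⟩, hcov⟩, hrec⟩ := h
    rw [show pre ++ b :: bs = (pre ++ [b]) ++ bs by simp]
    have hlen : (pre ++ [b]).length + bs.length ≥ m := by simp at hm ⊢; omega
    by_cases hk : pre.length < m
    · set i0 : Fin m := ⟨pre.length, hk⟩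
      obtain ⟨p, hp, hpimg⟩ : ∃ p ∈ t, img p b = idx (g (x i0)) := by
        rcases hcov (idx (g (x i0))) (idx_lt _) with (h' | h') | h'
        · have h2 := mem_toSet.1 (hA g hg _ (hxA i0))
          rw [h'] at h2; cases h2
        · exfalso
          obtain ⟨n, hn, hne⟩ := List.mem_iff_getElem.1 h'
          have h3 := hgx ⟨n, by omega⟩ hn
          rw [List.getD_eq_getElem?_getD, List.getElem?_eq_getElem hn, Option.getD_some, hne,
            pt_idx] at h3
          have := congrArg Fin.val (hxi (g.injective h3))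
          simp [i0] at this
          omega
        · exact h'
      have hpok := (ht p hp).1
      have hfixpre : ∀ c ∈ pre, toPerm p (pt c) = pt c := fun c hc => by
        obtain ⟨h1, h2⟩ := (ht p hp).2 c hc
        rw [toPerm_apply hpok, idx_pt h1, h2]
      refine cover_to_base hrec (fun q hq => hG q (by simp [hq])) hA x hxi hxA
        ((toPerm p)⁻¹ * g) (mul_mem (inv_mem (hG p (by simp [hp]))) hg) (fun i hi => ?_) hlen
      rw [Equiv.Perm.mul_apply, Equiv.Perm.inv_eq_iff_eq]
      simp only [List.length_append, List.length_cons, List.length_nil] at hi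
      rcases Nat.lt_or_ge (i : ℕ) pre.length with hlt | hge
      · rw [hgx i hlt, List.getD_append _ _ _ _ hlt, hfixpre]
        rw [List.getD_eq_getElem?_getD, List.getElem?_eq_getElem hlt, Option.getD_some]
        exact List.getElem_mem hlt
      · obtain rfl : i = i0 := Fin.ext (by simp [i0]; omega)
        rw [List.getD_append_right _ _ _ _ hge]
        simp only [i0, Nat.sub_self, List.getD_cons_zero]
        rw [toPerm_apply hpok, idx_pt hb, hpimg, pt_idx]
    · refine cover_to_base hrec (fun q hq => hG q (by simp [hq])) hA x hxi hxA g hg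
        (fun i hi => ?_) hlen
      have hlt : (i : ℕ) < pre.length := by omega
      rw [hgx i hlt, List.getD_append _ _ _ _ hlt]
  | [], _, _ :: _, h, _, _, _, _, _, _, _, _, _, _ => by simp [chkCover] at h
  | _ :: _, _, [], h, _, _, _, _, _, _, _, _, _, _ => by simp [chkCover] at h

end CfsgLib.Golay
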