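import Cfsg.Agent.Lib.Golay.Trans

/-! Certificates for orbits of stabilisers in `M24` on set systems. -/
set_option autoImplicit false
set_option linter.all false

namespace CfsgLib.Golay

open Cfsg
open scoped Pointwise

/-- a set system given by masks -/
def Sys (l : List ℕ) : Finset (Finset GolayPt) := (l.map toSet).toFinset

theorem mem_Sys {l : List ℕ} {s : Finset GolayPt} : s ∈ Sys l ↔ ∃ m ∈ l, toSet m = s := by
  simp [Sys]

/-- same masks, in any order -/
def sameSys (a b : List ℕ) : Bool := a.all b.contains && b.all a.contains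

theorem Sys_eq_of_same {a b : List ℕ} (h : sameSys a b = true) : Sys a = Sys b := by
  simp only [sameSys, Bool.and_eq_true, List.all_eq_true, List.contains_iff_mem] at h
  ext s
  simp only [mem_Sys]
  exact ⟨fun ⟨m, hm, e⟩ => ⟨m, h.1 m hm, e⟩, fun ⟨m, hm, e⟩ => ⟨m, h.2 m hm, e⟩⟩

theorem smul_Sys {p : ℕ} (h : okPerm p = true) (l : List ℕ) :
    toPerm p • Sys l = Sys (l.map (pmask p)) := by
  ext s
  simp only [Finset.mem_smul_finset, mem_Sys, List.mem_map]
  constructor
  · rintro ⟨_, ⟨m, hm, rfl⟩, rfl⟩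
    exact ⟨pmask p m, ⟨m, hm, rfl⟩, (smul_toSet h m).symm⟩
  · rintro ⟨_, ⟨m, hm, rfl⟩, rfl⟩
    exact ⟨toSet m, ⟨m, hm, rfl⟩, smul_toSet h m⟩

/-- all masks small and distinct -/
def okSys (l : List ℕ) : Bool := l.all (fun m => decide (m < 16777216)) && decide l.Nodup

theorem okSys_nodup {l : List ℕ} (h : okSys l = true) : (l.map toSet).Nodup := by
  simp only [okSys, Bool.and_eq_true, List.all_eq_true, decide_eq_true_eq] at h
  exact List.Nodup.map_on (fun a ha b hb e => toSet_inj (h.1 a ha) (h.1 b hb) e) h.2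

/-- intersection pattern of two set systems -/
def Pat (S T : Finset (Finset GolayPt)) : ℕ := ∑ x ∈ S, ∑ y ∈ T, 256 ^ (x ∩ y).card

/-- intersection pattern on masks -/
def pat (a b : List ℕ) : ℕ := (a.map fun x => (b.map fun y => 256 ^ pc (x &&& y)).sum).sum

theorem Pat_Sys {a b : List ℕ} (ha : okSys a = true) (hb : okSys b = true) :
    Pat (Sys a) (Sys b) = pat a b := by
  rw [Pat, Sys, List.sum_toFinset _ (okSys_nodup ha), pat, List.map_map]
  refine congrArg List.sum (List.map_congr_left fun x _ => ?_)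
  simp only [Function.comp]
  rw [Sys, List.sum_toFinset _ (okSys_nodup hb), List.map_map]
  refine congrArg List.sum (List.map_congr_left fun y _ => ?_)
  simp only [Function.comp]
  rw [← toSet_and, card_toSet]

theorem Pat_smul (g : Equiv.Perm GolayPt) (S T : Finset (Finset GolayPt)) :
    Pat (g • S) (g • T) = Pat S T := by
  simp only [Pat, Finset.smul_finset_def (a := g) (s := S), Finset.smul_finset_def (a := g) (s := T)]
  rw [Finset.sum_image fun a _ b _ h => MulAction.injective g h]
  refine Finset.sum_congr rfl fun x _ => ?_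
  rw [Finset.sum_image fun a _ b _ h => MulAction.injective g h]
  refine Finset.sum_congr rfl fun y _ => ?_
  rw [← smul_inter', Finset.card_smul_finset]

/-- patterns against a list of systems -/
def Pats (Xs : List (Finset (Finset GolayPt))) (Y : Finset (Finset GolayPt)) : List ℕ :=
  Xs.map fun S => Pat S Y

theorem Pats_smul (g : Equiv.Perm GolayPt) (Xs : List (Finset (Finset GolayPt)))
    (Y : Finset (Finset GolayPt)) : Pats (Xs.map (g • ·)) (g • Y) = Pats Xs Y := by
  simp [Pats, List.map_map, Function.comp_def, Pat_smul]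

/-- strictly increasing -/
def incB : List ℕ → Bool
  | [] => true
  | [_] => true
  | a :: b :: l => decide (a < b) && incB (b :: l)

theorem pairwise_of_incB : ∀ {l : List ℕ}, incB l = true → l.Pairwise (· < ·)
  | [], _ => List.Pairwise.nil
  | [a], _ => List.pairwise_singleton _ a
  | a :: b :: l, h => by
    simp only [incB, Bool.and_eq_true, decide_eq_true_eq] at h
    have ih := pairwise_of_incB h.2
    rw [List.pairwise_cons]
    refine ⟨fun x hx => ?_, ih⟩
    rcases List.mem_cons.1 hx with rfl | hx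
    · exact h.1
    · exact h.1.trans (List.rel_of_pairwise_cons ih hx)

/-- a listed M24-invariant family of set systems -/
structure Kind where
  /-- the list -/
  E : List (List ℕ)
  /-- the family -/
  Ys : Set (Finset (Finset GolayPt))
  ok : E.all okSys = true
  mem : ∀ Y, Y ∈ Ys ↔ ∃ l ∈ E, Sys l = Y
  nodup : (E.map Sys).Nodup
  smul : ∀ g ∈ M24, ∀ Y ∈ Ys, g • Y ∈ Ys

/-- a certificate: roots, and per item `32 * transporter + root index` -/
abbrev Cert := List (List ℕ) × List ℕ

/-- check one item -/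
def chkItem (X : List (List ℕ)) (r : List ℕ) (p : ℕ) (y : List ℕ) : Bool :=
  inM24 p && X.all (fun s => sameSys (s.map (pmask p)) s) && sameSys (r.map (pmask p)) y

/-- the key of an item -/
def keyOf (X : List (List ℕ)) (y : List ℕ) : List ℕ := X.map fun s => pat s y

/-- the items with a given key -/
def classOf (E : List (List ℕ)) (X : List (List ℕ)) (k : List ℕ) : List (List ℕ) :=
  E.filter fun y => keyOf X y == k

/-- root number `i` -/
def rootAt (c : Cert) (i : ℕ) : List ℕ := c.1.getD i []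

/-- number of items with root number `i` -/
def sizeAt (c : Cert) (i : ℕ) : ℕ := c.2.countP (fun p => p % 32 == i)

/-- walk the items -/
def chkZip (X : List (List ℕ)) (roots : List (List ℕ)) : List ℕ → List (List ℕ) → Bool
  | [], [] => true
  | p :: ps, y :: ys =>
    decide (p % 32 < roots.length) && chkItem X (roots.getD (p % 32) []) (p / 32) y &&
      chkZip X roots ps ys
  | _, _ => false

/-- check a full certificate; keys are only computed for the roots -/
def chkOrbits (E : List (List ℕ)) (X : List (List ℕ)) (c : Cert) : Bool :=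
  X.all okSys && c.1.all (fun r => E.contains r) && decide (c.1.map (keyOf X)).Nodup &&
    chkZip X c.1 c.2 E

theorem okPerm_of_inM24 {p : ℕ} (h : inM24 p = true) : okPerm p = true := by
  simp only [inM24, Bool.and_eq_true] at h; exact h.1

theorem chkItem_spec {X : List (List ℕ)} {r : List ℕ} {p : ℕ} {y : List ℕ}
    (h : chkItem X r p y = true) :
    toPerm p ∈ M24 ∧ (∀ s ∈ X, toPerm p • Sys s = Sys s) ∧ toPerm p • Sys r = Sys y := by
  simp only [chkItem, Bool.and_eq_true, List.all_eq_true] at h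
  have hok := okPerm_of_inM24 h.1.1
  exact ⟨toPerm_mem_M24 h.1.1, fun s hs => by rw [smul_Sys hok, Sys_eq_of_same (h.1.2 s hs)],
    by rw [smul_Sys hok, Sys_eq_of_same h.2]⟩

theorem Pats_Sys {X : List (List ℕ)} (hX : X.all okSys = true) {y : List ℕ} (hy : okSys y = true) :
    Pats (X.map Sys) (Sys y) = X.map fun s => pat s y := by
  rw [Pats, List.map_map]
  refine List.map_congr_left fun s hs => ?_
  exact Pat_Sys (List.all_eq_true.1 hX s hs) hy

theorem keyOf_item {E X : List (List ℕ)} {r y : List ℕ} {p : ℕ} (hE : E.all okSys = true)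
    (hX : X.all okSys = true) (hr : r ∈ E) (hy : y ∈ E) (h : chkItem X r p y = true) :
    keyOf X y = keyOf X r := by
  obtain ⟨-, h2, h3⟩ := chkItem_spec h
  rw [keyOf, keyOf, ← Pats_Sys hX (List.all_eq_true.1 hE y hy),
    ← Pats_Sys hX (List.all_eq_true.1 hE r hr), ← h3]
  have e : (X.map Sys).map (toPerm p • ·) = X.map Sys := by
    rw [List.map_map]; exact List.map_congr_left fun s hs => h2 s hs
  conv_lhs => rw [← e]
  exact Pats_smul _ _ _

theorem chkZip_mem {X roots : List (List ℕ)} : ∀ {ps : List ℕ} {ys : List (List ℕ)},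
    chkZip X roots ps ys = true → ∀ y ∈ ys, ∃ i < roots.length, ∃ p,
      chkItem X (roots.getD i []) p y = true
  | [], [], _, y, hy => by cases hy
  | p :: ps, z :: ys, h, y, hy => by
    simp only [chkZip, Bool.and_eq_true, decide_eq_true_eq] at h
    rcases List.mem_cons.1 hy with rfl | hy
    · exact ⟨_, h.1.1, _, h.1.2⟩
    · exact chkZip_mem h.2 y hy
  | [], _ :: _, h, _, _ => by simp [chkZip] at h
  | _ :: _, [], _, y, hy => by cases hy

theorem chkZip_count {E X roots : List (List ℕ)} (hE : E.all okSys = true)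
    (hX : X.all okSys = true) (hr : ∀ r ∈ roots, r ∈ E) (hnd : (roots.map (keyOf X)).Nodup) :
    ∀ {ps : List ℕ} {ys : List (List ℕ)}, chkZip X roots ps ys = true → (∀ y ∈ ys, y ∈ E) →
      ∀ i < roots.length,
        (classOf ys X (keyOf X (roots.getD i []))).length = ps.countP (fun p => p % 32 == i)
  | [], [], _, _, i, _ => rfl
  | p :: ps, z :: ys, h, hys, i, hi => by
    simp only [chkZip, Bool.and_eq_true, decide_eq_true_eq] at h
    have hg : ∀ j < roots.length, roots.getD j [] ∈ roots := fun j hj => by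
      rw [List.getD_eq_getElem?_getD, List.getElem?_eq_getElem hj, Option.getD_some]
      exact List.getElem_mem hj
    have hkz := keyOf_item hE hX (hr _ (hg _ h.1.1)) (hys z List.mem_cons_self) h.1.2
    have ih := chkZip_count hE hX hr hnd h.2 (fun y hy => hys y (List.mem_cons_of_mem _ hy)) i hi
    rw [List.countP_cons, classOf, List.filter_cons, hkz]
    have hpl : p % 32 < roots.length := h.1.1
    clear h
    by_cases hpi : p % 32 = i
    · subst hpi
      simp only [beq_self_eq_true, if_true, List.length_cons]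
      exact congrArg (· + 1) ih
    · rw [if_neg, if_neg]
      · exact ih
      · simpa using hpi
      · intro e
        rw [beq_iff_eq, List.getD_eq_getElem?_getD, List.getElem?_eq_getElem hpl,
          Option.getD_some, List.getD_eq_getElem?_getD, List.getElem?_eq_getElem hi,
          Option.getD_some] at e
        exact hpi ((hnd.getElem_inj_iff (hi := by simpa using hpl) (hj := by simpa using hi)).1
          (by simpa using e))
  | [], _ :: _, h, _, _, _ => by simp [chkZip] at h
  | _ :: _, [], h, _, _, _ => by simp [chkZip] at h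

theorem Kind.cert_spec (K : Kind) {X : List (List ℕ)} {c : Cert}
    (h : chkOrbits K.E X c = true) : X.all okSys = true ∧ (∀ r ∈ c.1, r ∈ K.E) ∧
      (c.1.map (keyOf X)).Nodup ∧ chkZip X c.1 c.2 K.E = true := by
  simp only [chkOrbits, Bool.and_eq_true, decide_eq_true_eq, List.all_eq_true,
    List.contains_iff_mem] at h
  exact ⟨List.all_eq_true.2 h.1.1.1, h.1.1.2, h.1.2, h.2⟩

theorem rootAt_mem {c : Cert} {i : ℕ} (hi : i < c.1.length) : rootAt c i ∈ c.1 := by
  rw [rootAt, List.getD_eq_getElem?_getD, List.getElem?_eq_getElem hi, Option.getD_some]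
  exact List.getElem_mem hi

theorem Kind.classOf_length (K : Kind) {X : List (List ℕ)} {c : Cert}
    (h : chkOrbits K.E X c = true) {i : ℕ} (hi : i < c.1.length) :
    (classOf K.E X (keyOf X (rootAt c i))).length = sizeAt c i := by
  obtain ⟨hX, hr, hnd, hz⟩ := K.cert_spec h
  exact chkZip_count K.ok hX hr hnd hz (fun _ hy => hy) i hi

theorem Kind.trans_base (K : Kind) {X : List (List ℕ)} {cls : Cert}
    (h : chkOrbits K.E X cls = true) {Y Y' : Finset (Finset GolayPt)} (hY : Y ∈ K.Ys)
    (hY' : Y' ∈ K.Ys) (e : Pats (X.map Sys) Y = Pats (X.map Sys) Y') :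
    ∃ g ∈ M24, (∀ S ∈ X.map Sys, g • S = S) ∧ g • Y = Y' := by
  obtain ⟨hX, hr, hnd, hz⟩ := K.cert_spec h
  obtain ⟨y, hy, rfl⟩ := (K.mem Y).1 hY
  obtain ⟨y', hy', rfl⟩ := (K.mem Y').1 hY'
  rw [Pats_Sys hX (List.all_eq_true.1 K.ok y hy), Pats_Sys hX (List.all_eq_true.1 K.ok y' hy')] at e
  obtain ⟨i, hi, p, hp⟩ := chkZip_mem hz y hy
  obtain ⟨j, hj, q, hq⟩ := chkZip_mem hz y' hy'
  have hk := keyOf_item K.ok hX (hr _ (rootAt_mem (c := cls) hi)) hy hp
  have hk' := keyOf_item K.ok hX (hr _ (rootAt_mem (c := cls) hj)) hy' hq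
  have hij : keyOf X (rootAt cls i) = keyOf X (rootAt cls j) := hk.symm.trans (e.trans hk')
  rw [rootAt, rootAt, List.getD_eq_getElem?_getD, List.getElem?_eq_getElem hi, Option.getD_some,
    List.getD_eq_getElem?_getD, List.getElem?_eq_getElem hj, Option.getD_some] at hij
  obtain rfl : i = j := (hnd.getElem_inj_iff (hi := by simpa using hi) (hj := by simpa using hj)).1
    (by simpa using hij)
  obtain ⟨p1, p2, p3⟩ := chkItem_spec hp
  obtain ⟨q1, q2, q3⟩ := chkItem_spec hq
  refine ⟨toPerm q * (toPerm p)⁻¹, mul_mem q1 (inv_mem p1), fun S hS => ?_, ?_⟩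
  · rw [List.mem_map] at hS
    obtain ⟨s, hs, rfl⟩ := hS
    have : (toPerm p)⁻¹ • Sys s = Sys s := by rw [inv_smul_eq_iff, p2 s hs]
    rw [mul_smul, this, q2 s hs]
  · rw [mul_smul, ← p3, inv_smul_smul, q3]

theorem Kind.trans (K : Kind) {X : List (List ℕ)} {cls : Cert}
    (h : chkOrbits K.E X cls = true) {a : Equiv.Perm GolayPt} (ha : a ∈ M24)
    {Xs : List (Finset (Finset GolayPt))} (hXs : (X.map Sys).map (a • ·) = Xs)
    {Y Y' : Finset (Finset GolayPt)} (hY : Y ∈ K.Ys) (hY' : Y' ∈ K.Ys)
    (e : Pats Xs Y = Pats Xs Y') :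
    ∃ g ∈ M24, (∀ S ∈ Xs, g • S = S) ∧ g • Y = Y' := by
  subst hXs
  obtain ⟨g, hg, hfix, hgy⟩ := K.trans_base h (K.smul a⁻¹ (inv_mem ha) Y hY)
    (K.smul a⁻¹ (inv_mem ha) Y' hY') (by
      rw [← Pats_smul a _ (a⁻¹ • Y), ← Pats_smul a _ (a⁻¹ • Y'), smul_inv_smul, smul_inv_smul, e])
  refine ⟨a * g * a⁻¹, mul_mem (mul_mem ha hg) (inv_mem ha), fun S hS => ?_, ?_⟩
  · rw [List.mem_map] at hS
    obtain ⟨S0, hS0, rfl⟩ := hS
    rw [mul_smul, mul_smul, inv_smul_smul, hfix S0 hS0]
  · rw [mul_smul, mul_smul, hgy, smul_inv_smul]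

theorem Kind.ncard_base (K : Kind) {X : List (List ℕ)} (hX : X.all okSys = true) {k : List ℕ}
    {n : ℕ} (h : (classOf K.E X k).length = n) :
    {Y | Y ∈ K.Ys ∧ Pats (X.map Sys) Y = k}.ncard = n := by
  classical
  have e : {Y | Y ∈ K.Ys ∧ Pats (X.map Sys) Y = k} =
      ((((classOf K.E X k).map Sys).toFinset : Finset _) : Set (Finset (Finset GolayPt))) := by
    ext Y
    simp only [Set.mem_ofPred_eq, List.coe_toFinset, List.mem_map, classOf, keyOf, List.mem_filter,
      beq_iff_eq]
    constructor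
    · rintro ⟨hY, hk⟩
      obtain ⟨y, hy, rfl⟩ := (K.mem Y).1 hY
      rw [Pats_Sys hX (List.all_eq_true.1 K.ok y hy)] at hk
      exact ⟨y, ⟨hy, hk⟩, rfl⟩
    · rintro ⟨y, ⟨hy, hk⟩, rfl⟩
      exact ⟨(K.mem _).2 ⟨y, hy, rfl⟩, by rw [Pats_Sys hX (List.all_eq_true.1 K.ok y hy), hk]⟩
  have hnd : ((classOf K.E X k).map Sys).Nodup :=
    K.nodup.sublist (List.filter_sublist.map _)
  rw [e, Set.ncard_coe_finset, List.toFinset_card_of_nodup hnd, List.length_map, h]

theorem Kind.ncard (K : Kind) {X : List (List ℕ)} (hX : X.all okSys = true) {k : List ℕ}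
    {n : ℕ} (h : (classOf K.E X k).length = n) {a : Equiv.Perm GolayPt} (ha : a ∈ M24)
    {Xs : List (Finset (Finset GolayPt))} (hXs : (X.map Sys).map (a • ·) = Xs) :
    {Y | Y ∈ K.Ys ∧ Pats Xs Y = k}.ncard = n := by
  subst hXs
  rw [← K.ncard_base hX h]
  have e : {Y | Y ∈ K.Ys ∧ Pats ((X.map Sys).map (a • ·)) Y = k} =
      (a • ·) '' {Y | Y ∈ K.Ys ∧ Pats (X.map Sys) Y = k} := by
    ext Y
    simp only [Set.mem_image, Set.mem_ofPred_eq]
    constructor
    · rintro ⟨hY, hk⟩
      refine ⟨a⁻¹ • Y, ⟨K.smul _ (inv_mem ha) Y hY, ?_⟩, smul_inv_smul a Y⟩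
      rw [← Pats_smul a, smul_inv_smul, hk]
    · rintro ⟨Z, ⟨hZ, hk⟩, rfl⟩
      exact ⟨K.smul a ha Z hZ, by rw [Pats_smul, hk]⟩
  rw [e, Set.ncard_image_of_injective _ (MulAction.injective a)]

theorem toSet_singleton_smul (g : Equiv.Perm GolayPt) (s : Finset GolayPt) :
    g • ({s} : Finset (Finset GolayPt)) = {g • s} := Finset.smul_finset_singleton s

theorem Sys_single (m : ℕ) : Sys [m] = {toSet m} := by simp [Sys]

/-- systems coming from single blocks -/
theorem kind_single_mem {L : List ℕ} {B : Set (Finset GolayPt)}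
    (hB : B = toSet '' {m | m ∈ L}) (Y : Finset (Finset GolayPt)) :
    Y ∈ (fun s : Finset GolayPt => ({s} : Finset (Finset GolayPt))) '' B ↔
      ∃ l ∈ L.map (fun m => [m]), Sys l = Y := by
  subst hB
  simp only [Set.image_image, Set.mem_image, Set.mem_ofPred_eq, List.mem_map]
  constructor
  · rintro ⟨m, hm, rfl⟩; exact ⟨[m], ⟨m, hm, rfl⟩, Sys_single m⟩
  · rintro ⟨_, ⟨m, hm, rfl⟩, rfl⟩; exact ⟨m, hm, (Sys_single m).symm⟩

theorem kind_single_nodup {L : List ℕ} (hlt : ∀ m ∈ L, m < 16777216) (h : L.Nodup) :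
    ((L.map fun m => [m]).map Sys).Nodup := by
  rw [List.map_map]
  refine List.Nodup.map_on (fun a ha b hb e => ?_) h
  simp only [Function.comp, Sys_single, Finset.singleton_inj] at e
  exact toSet_inj (hlt a ha) (hlt b hb) e

theorem kind_single_ok {L : List ℕ} (hlt : ∀ m ∈ L, m < 16777216) :
    (L.map fun m => [m]).all okSys = true := by
  simp only [List.all_eq_true, List.mem_map]
  rintro _ ⟨m, hm, rfl⟩
  simp [okSys, hlt m hm]

/-- octads as one-element systems -/
noncomputable def octKind : Kind where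
  E := octList.map fun m => [m]
  Ys := (fun s : Finset GolayPt => ({s} : Finset (Finset GolayPt))) '' octads
  ok := kind_single_ok fun _ => octList_lt
  mem := kind_single_mem octads_eq
  nodup := kind_single_nodup (fun _ => octList_lt) octList_nodup
  smul g hg := by
    rintro _ ⟨s, hs, rfl⟩
    exact ⟨g • s, smul_octad hg hs, (Finset.smul_finset_singleton s).symm⟩

/-- dodecads as one-element systems -/
noncomputable def dodKind : Kind where
  E := dodList.map fun m => [m]
  Ys := (fun s : Finset GolayPt => ({s} : Finset (Finset GolayPt))) '' dodecads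
  ok := kind_single_ok fun _ => dodList_lt
  mem := kind_single_mem dodecads_eq
  nodup := kind_single_nodup (fun _ => dodList_lt) dodList_nodup
  smul g hg := by
    rintro _ ⟨s, hs, rfl⟩
    exact ⟨g • s, smul_dodecad hg hs, (Finset.smul_finset_singleton s).symm⟩

end CfsgLib.Golay
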