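import Cfsg.Prelude.Def_SporadicCombinatorics
import Cfsg.Agent.Lib.Golay.Orbit
import Cfsg.Agent.Lib.Golay.KindData

/-! Sextets and trios as listed families. -/
set_option autoImplicit false
set_option linter.all false
set_option maxRecDepth 8000

namespace CfsgLib.Golay

open Cfsg
open scoped Pointwise

/-- pairwise test on a list -/
def pairB (f : ℕ → ℕ → Bool) : List ℕ → Bool
  | [] => true
  | a :: l => l.all (f a) && pairB f l

theorem pairB_spec {f : ℕ → ℕ → Bool} (hs : ∀ a b, f a b = f b a) : ∀ {l : List ℕ},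
    pairB f l = true → ∀ a ∈ l, ∀ b ∈ l, a ≠ b → f a b = true
  | [], _, a, ha, _, _, _ => by cases ha
  | x :: l, h, a, ha, b, hb, hne => by
    simp only [pairB, Bool.and_eq_true, List.all_eq_true] at h
    rcases List.mem_cons.1 ha with hax | ha <;> rcases List.mem_cons.1 hb with hbx | hb
    · exact absurd (hax.trans hbx.symm) hne
    · rw [hax]; exact h.1 b hb
    · rw [hbx, hs]; exact h.1 a ha
    · exact pairB_spec hs h.2 a ha b hb hne

/-- a sextet in mask form -/
def isSexM (l : List ℕ) : Bool :=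
  okSys l && (l.length == 6) && l.all (fun a => pc a == 4) &&
    pairB (fun a b => inCode (a ||| b) && pc (a ||| b) == 8) l

/-- a trio in mask form -/
def isTrioM (l : List ℕ) : Bool :=
  okSys l && (l.length == 3) && l.all (fun a => inCode a && pc a == 8) &&
    pairB (fun a b => a &&& b == 0) l

theorem card_Sys {l : List ℕ} (h : okSys l = true) : (Sys l).card = l.length := by
  rw [Sys, List.toFinset_card_of_nodup (okSys_nodup h), List.length_map]

theorem isSexM_sound {l : List ℕ} (h : isSexM l = true) : Sys l ∈ sextets := by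
  simp only [isSexM, Bool.and_eq_true, List.all_eq_true, beq_iff_eq] at h
  obtain ⟨⟨⟨hok, hlen⟩, h4⟩, hp⟩ := h
  refine ⟨by rw [card_Sys hok, hlen], fun t ht => ?_, fun t ht u hu hne => ?_⟩
  · obtain ⟨a, ha, rfl⟩ := mem_Sys.1 ht
    rw [card_toSet, h4 a ha]
  · obtain ⟨a, ha, rfl⟩ := mem_Sys.1 ht
    obtain ⟨b, hb, rfl⟩ := mem_Sys.1 hu
    have h2 := pairB_spec (fun a b => by rw [Nat.lor_comm]) hp a ha b hb (fun e => hne (e ▸ rfl))
    simp only [Bool.and_eq_true, beq_iff_eq] at h2
    rw [← toSet_or]
    exact toSet_mem_octads (mem_octList.2 h2)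

theorem isTrioM_sound {l : List ℕ} (h : isTrioM l = true) : Sys l ∈ trios := by
  simp only [isTrioM, Bool.and_eq_true, List.all_eq_true, beq_iff_eq] at h
  obtain ⟨⟨⟨hok, hlen⟩, h8⟩, hp⟩ := h
  refine ⟨by rw [card_Sys hok, hlen], fun t ht => ?_, fun t ht u hu hne => ?_⟩
  · obtain ⟨a, ha, rfl⟩ := mem_Sys.1 ht
    exact toSet_mem_octads (mem_octList.2 (h8 a ha))
  · obtain ⟨a, ha, rfl⟩ := mem_Sys.1 ht
    obtain ⟨b, hb, rfl⟩ := mem_Sys.1 hu
    have h2 := pairB_spec (fun a b => by rw [Nat.land_comm]) hp a ha b hb (fun e => hne (e ▸ rfl))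
    rw [Finset.disjoint_iff_inter_eq_empty, ← toSet_and, eq_of_beq h2, toSet_zero]

theorem sextet_disjoint {S : Finset (Finset GolayPt)} (hS : S ∈ sextets) {t u : Finset GolayPt}
    (ht : t ∈ S) (hu : u ∈ S) (hne : t ≠ u) : Disjoint t u := by
  have h8 := card_octad (hS.2.2 t ht u hu hne)
  have h1 := Finset.card_union_add_card_inter t u
  rw [hS.2.1 t ht, hS.2.1 u hu, h8] at h1
  rw [Finset.disjoint_iff_inter_eq_empty, ← Finset.card_eq_zero]
  omega

theorem sextet_cover {S : Finset (Finset GolayPt)} (hS : S ∈ sextets) (x : GolayPt) :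
    ∃ t ∈ S, x ∈ t := by
  have h : S.biUnion id = Finset.univ := by
    apply Finset.eq_of_subset_of_card_le (Finset.subset_univ _)
    rw [Finset.card_biUnion (t := id) (fun t ht u hu hne => sextet_disjoint hS ht hu hne),
      Finset.sum_congr rfl (fun t ht => show (id t).card = 4 from hS.2.1 t ht), Finset.sum_const,
      hS.1, Finset.card_univ]
    decide
  have hx : x ∈ S.biUnion id := h ▸ Finset.mem_univ x
  simpa using hx

theorem trio_cover {T : Finset (Finset GolayPt)} (hT : T ∈ trios) (x : GolayPt) :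
    ∃ o ∈ T, x ∈ o := by
  have h : T.biUnion id = Finset.univ := by
    apply Finset.eq_of_subset_of_card_le (Finset.subset_univ _)
    rw [Finset.card_biUnion (t := id) (fun t ht u hu hne => hT.2.2 t ht u hu hne),
      Finset.sum_congr rfl (fun t ht => show (id t).card = 8 from card_octad (hT.2.1 t ht)),
      Finset.sum_const, hT.1, Finset.card_univ]
    decide
  have hx : x ∈ T.biUnion id := h ▸ Finset.mem_univ x
  simpa using hx

theorem smul_sextet {g : Equiv.Perm GolayPt} (hg : g ∈ M24) {S : Finset (Finset GolayPt)}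
    (hS : S ∈ sextets) : g • S ∈ sextets := by
  refine ⟨by rw [Finset.card_smul_finset]; exact hS.1, fun t ht => ?_, fun t ht u hu hne => ?_⟩
  · obtain ⟨t', ht', rfl⟩ := Finset.mem_smul_finset.1 ht
    rw [Finset.card_smul_finset]; exact hS.2.1 t' ht'
  · obtain ⟨t', ht', rfl⟩ := Finset.mem_smul_finset.1 ht
    obtain ⟨u', hu', rfl⟩ := Finset.mem_smul_finset.1 hu
    rw [← Finset.smul_finset_union]
    exact smul_octad hg (hS.2.2 t' ht' u' hu' fun e => hne (e ▸ rfl))

theorem smul_trio {g : Equiv.Perm GolayPt} (hg : g ∈ M24) {T : Finset (Finset GolayPt)}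
    (hT : T ∈ trios) : g • T ∈ trios := by
  refine ⟨by rw [Finset.card_smul_finset]; exact hT.1, fun t ht => ?_, fun t ht u hu hne => ?_⟩
  · obtain ⟨t', ht', rfl⟩ := Finset.mem_smul_finset.1 ht
    exact smul_octad hg (hT.2.1 t' ht')
  · obtain ⟨t', ht', rfl⟩ := Finset.mem_smul_finset.1 ht
    obtain ⟨u', hu', rfl⟩ := Finset.mem_smul_finset.1 hu
    have h2 := hT.2.2 t' ht' u' hu' fun e => hne (e ▸ rfl)
    rw [Finset.disjoint_iff_inter_eq_empty] at h2 ⊢
    rw [← smul_inter', h2, Finset.smul_finset_empty]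

/-- the standard tetrad -/
def tet0 : ℕ := 8388615

/-- the sextet of the standard tetrad -/
def sex0 : List ℕ := [8388615, 4268048, 147496, 2621632, 1082880, 268544]

theorem sex0_check : isSexM sex0 = true ∧
    (octList.filter fun o => o &&& tet0 == tet0).all (fun o => sex0.contains (o ^^^ tet0)) = true := by
  decide +kernel

theorem sextet_unique_base {S : Finset (Finset GolayPt)} (hS : S ∈ sextets)
    (h : toSet tet0 ∈ S) : S = Sys sex0 := by
  have hok : okSys sex0 = true := by decide +kernel
  apply Finset.eq_of_subset_of_card_le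
  · intro u hu
    rcases eq_or_ne (toSet tet0) u with rfl | hne
    · exact mem_Sys.2 ⟨tet0, by simp [sex0, tet0], rfl⟩
    obtain ⟨o, ho, e⟩ := exists_mask_octad (hS.2.2 _ h u hu hne)
    have hsub : toSet tet0 ⊆ toSet o := e ▸ Finset.subset_union_left
    rw [toSet_subset_iff (by decide)] at hsub
    have hc := List.all_eq_true.1 sex0_check.2 o (List.mem_filter.2 ⟨ho, by
      rw [beq_iff_eq, Nat.land_comm]; exact hsub⟩)
    rw [List.contains_iff_mem] at hc
    refine mem_Sys.2 ⟨_, hc, ?_⟩
    rw [toSet_xor, e]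
    ext x
    have hd : x ∈ toSet tet0 → x ∉ u := fun hx => Finset.disjoint_left.1 (sextet_disjoint hS h hu hne) hx
    simp only [Finset.mem_symmDiff, Finset.mem_union]
    tauto
  · rw [card_Sys hok, hS.1]; rfl

theorem exists_smul_tet0 {t : Finset GolayPt} (ht : t.card = 4) :
    ∃ g ∈ M24, g • toSet tet0 = t := by
  have h0 : (toSet tet0).card = 4 := by decide +kernel
  let x : Fin 4 ↪ GolayPt := (Finset.equivFinOfCardEq h0).symm.toEmbedding.trans
    (Function.Embedding.subtype _)
  let y : Fin 4 ↪ GolayPt := (Finset.equivFinOfCardEq ht).symm.toEmbedding.trans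
    (Function.Embedding.subtype _)
  obtain ⟨g, hg, h⟩ := exists_map_tuple (k := 4) (by norm_num) x y
  refine ⟨g, hg, Finset.eq_of_subset_of_card_le ?_ (by rw [Finset.card_smul_finset, h0, ht])⟩
  intro z hz
  obtain ⟨w, hw, rfl⟩ := Finset.mem_smul_finset.1 hz
  have hwx : x (Finset.equivFinOfCardEq h0 ⟨w, hw⟩) = w := by simp [x]
  rw [← hwx, Equiv.Perm.smul_def, h]
  exact ((Finset.equivFinOfCardEq ht).symm _).2

theorem sextet_exists_unique (t : Finset GolayPt) (ht : t.card = 4) :
    ∃! S : Finset (Finset GolayPt), S ∈ sextets ∧ t ∈ S := by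
  obtain ⟨g, hg, rfl⟩ := exists_smul_tet0 ht
  refine ⟨g • Sys sex0, ⟨smul_sextet hg (isSexM_sound sex0_check.1),
    Finset.smul_mem_smul_finset (mem_Sys.2 ⟨tet0, by simp [sex0, tet0], rfl⟩)⟩, fun S hS => ?_⟩
  rw [← inv_smul_eq_iff]
  refine sextet_unique_base (smul_sextet (inv_mem hg) hS.1) ?_
  have := Finset.smul_mem_smul_finset (a := g⁻¹) hS.2
  rwa [inv_smul_smul] at this

theorem sexList_check : (sexList.all fun l => isSexM l && (l.headD 0).testBit 23) = true ∧
    incB (sexList.map fun l => l.headD 0) = true ∧ sexList.length = 1771 := by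
  refine ⟨?_, ?_, ?_⟩ <;> decide +kernel

theorem head_spec {l : List ℕ} (h : isSexM l = true) : l.headD 0 ∈ l ∧ l.headD 0 < 16777216 ∧
    pc (l.headD 0) = 4 := by
  simp only [isSexM, okSys, Bool.and_eq_true, List.all_eq_true, beq_iff_eq, decide_eq_true_eq] at h
  obtain ⟨⟨⟨⟨hlt, -⟩, hlen⟩, h4⟩, -⟩ := h
  cases l with
  | nil => simp at hlen
  | cons a l => exact ⟨List.mem_cons_self, hlt a List.mem_cons_self, h4 a List.mem_cons_self⟩

theorem sexList_spec {l : List ℕ} (h : l ∈ sexList) :
    isSexM l = true ∧ (none : GolayPt) ∈ toSet (l.headD 0) := by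
  have := List.all_eq_true.1 sexList_check.1 l h
  simp only [Bool.and_eq_true] at this
  exact ⟨this.1, mem_toSet.2 this.2⟩

theorem sextets_list (S : Finset (Finset GolayPt)) :
    S ∈ sextets ↔ ∃ l ∈ sexList, Sys l = S := by
  classical
  constructor
  · intro hS
    let A : Finset (Finset GolayPt) :=
      ((Finset.univ : Finset GolayPt).powersetCard 4).filter (fun t => none ∈ t)
    let B : Finset (Finset GolayPt) := ((sexList.map fun l => l.headD 0).map toSet).toFinset
    have hlt : ∀ m ∈ sexList.map (fun l => l.headD 0), m < 16777216 := by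
      intro m hm
      obtain ⟨l, hl, rfl⟩ := List.mem_map.1 hm
      exact (head_spec (sexList_spec hl).1).2.1
    have hB : B.card = 1771 := by
      rw [List.toFinset_card_of_nodup, List.length_map, List.length_map, sexList_check.2.2]
      exact List.Nodup.map_on (fun a ha b hb e => toSet_inj (hlt a ha) (hlt b hb) e)
        ((pairwise_of_incB sexList_check.2.1).imp fun h => ne_of_lt h)
    have hA : A.card ≤ 1771 := by
      have hsub : A ⊆ (((Finset.univ : Finset GolayPt).erase none).powersetCard 3).image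
          (insert none) := by
        intro t ht
        simp only [A, Finset.mem_filter, Finset.mem_powersetCard] at ht
        refine Finset.mem_image.2 ⟨t.erase none, Finset.mem_powersetCard.2 ⟨?_, ?_⟩,
          Finset.insert_erase ht.2⟩
        · exact Finset.erase_subset_erase _ ht.1.1
        · rw [Finset.card_erase_of_mem ht.2, ht.1.2]
      refine (Finset.card_le_card hsub).trans (Finset.card_image_le.trans ?_)
      rw [Finset.card_powersetCard, Finset.card_erase_of_mem (Finset.mem_univ _), Finset.card_univ]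
      decide +kernel
    have hBA : B = A := by
      apply Finset.eq_of_subset_of_card_le
      · intro t ht
        simp only [B, List.mem_toFinset, List.mem_map] at ht
        obtain ⟨m, ⟨l, hl, rfl⟩, rfl⟩ := ht
        simp only [A, Finset.mem_filter, Finset.mem_powersetCard]
        exact ⟨⟨Finset.subset_univ _, by rw [card_toSet, (head_spec (sexList_spec hl).1).2.2]⟩,
          (sexList_spec hl).2⟩
      · omega
    obtain ⟨t, htS, hnt⟩ := sextet_cover hS none
    have htB : t ∈ B := by
      rw [hBA]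
      simp only [A, Finset.mem_filter, Finset.mem_powersetCard]
      exact ⟨⟨Finset.subset_univ _, hS.2.1 t htS⟩, hnt⟩
    simp only [B, List.mem_toFinset, List.mem_map] at htB
    obtain ⟨m, ⟨l, hl, rfl⟩, rfl⟩ := htB
    refine ⟨l, hl, ?_⟩
    exact (sextet_exists_unique _ (by rw [card_toSet, (head_spec (sexList_spec hl).1).2.2])).unique
      ⟨isSexM_sound (sexList_spec hl).1, mem_Sys.2 ⟨_, (head_spec (sexList_spec hl).1).1, rfl⟩⟩
      ⟨hS, htS⟩
  · rintro ⟨l, hl, rfl⟩
    exact isSexM_sound (sexList_spec hl).1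

theorem sexList_nodup : (sexList.map Sys).Nodup := by
  refine List.Nodup.map_on (fun a ha b hb e => ?_) ?_
  · have h0 : toSet (a.headD 0) = toSet (b.headD 0) := by
      by_contra hne
      have ha' : toSet (a.headD 0) ∈ Sys b := e ▸ mem_Sys.2 ⟨_, (head_spec (sexList_spec ha).1).1, rfl⟩
      exact Finset.disjoint_left.1 (sextet_disjoint (isSexM_sound (sexList_spec hb).1) ha'
        (mem_Sys.2 ⟨_, (head_spec (sexList_spec hb).1).1, rfl⟩) hne)
        (sexList_spec ha).2 (sexList_spec hb).2
    have h1 := toSet_inj (head_spec (sexList_spec ha).1).2.1 (head_spec (sexList_spec hb).1).2.1 h0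
    have hp := (pairwise_of_incB sexList_check.2.1)
    exact List.inj_on_of_nodup_map (hp.imp fun h => ne_of_lt h) ha hb h1
  · exact List.Nodup.of_map _ ((pairwise_of_incB sexList_check.2.1).imp fun h => ne_of_lt h)

/-- sextets as a listed family -/
noncomputable def sexKind : Kind where
  E := sexList
  Ys := sextets
  ok := List.all_eq_true.2 fun l hl => by
    have := (sexList_spec hl).1
    simp only [isSexM, Bool.and_eq_true] at this
    exact this.1.1.1
  mem := sextets_list
  nodup := sexList_nodup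
  smul g hg S hS := smul_sextet hg hS

theorem ncard_sextets : sextets.ncard = 1771 := by
  classical
  have e : sextets = (((sexList.map Sys).toFinset : Finset _) : Set (Finset (Finset GolayPt))) := by
    ext S; simp [sextets_list, List.mem_map]
  rw [e, Set.ncard_coe_finset, List.toFinset_card_of_nodup sexList_nodup, List.length_map,
    sexList_check.2.2]

/-- generated list of trios -/
def trioGen (L : List ℕ) : List (List ℕ) :=
  (L.filter fun o => o.testBit 23).flatMap fun o =>
    (L.filter fun q => o &&& q == 0 && decide (q < 16777215 ^^^ o ^^^ q)).map fun q =>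
      [o, q, 16777215 ^^^ o ^^^ q]

/-- the increasing key of a listed trio -/
def trioKey : List ℕ → ℕ
  | o :: q :: _ => o % 4096 * 4096 + q % 4096
  | _ => 0

theorem trioList_eq : trioGen octList = trioList := eq_of_beq (by decide +kernel)

theorem trioList_check : (trioList.all fun l => isTrioM l && (l.headD 0).testBit 23) = true ∧
    incB (trioList.map trioKey) = true ∧ trioList.length = 3795 := by
  refine ⟨?_, ?_, ?_⟩ <;> decide +kernel

theorem trioList_spec {l : List ℕ} (h : l ∈ trioList) : isTrioM l = true ∧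
    ∃ o q : ℕ, l = [o, q, 16777215 ^^^ o ^^^ q] ∧ o ∈ octList ∧ q ∈ octList ∧
      (none : GolayPt) ∈ toSet o ∧ q < 16777215 ^^^ o ^^^ q := by
  have h1 := List.all_eq_true.1 trioList_check.1 l h
  simp only [Bool.and_eq_true] at h1
  rw [← trioList_eq] at h
  simp only [trioGen, List.mem_flatMap, List.mem_map, List.mem_filter, Bool.and_eq_true,
    decide_eq_true_eq] at h
  obtain ⟨o, ⟨ho, ho'⟩, q, ⟨hq, -, hlt⟩, rfl⟩ := h
  exact ⟨h1.1, o, q, rfl, ho, hq, mem_toSet.2 ho', hlt⟩

theorem trios_list (T : Finset (Finset GolayPt)) :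
    T ∈ trios ↔ ∃ l ∈ trioList, Sys l = T := by
  classical
  constructor
  · intro hT
    obtain ⟨s, hs, hns⟩ := trio_cover hT none
    obtain ⟨o, ho, rfl⟩ := exists_mask_octad (hT.2.1 s hs)
    obtain ⟨a, b, hab, habT⟩ := Finset.card_eq_two.1
      (show (T.erase (toSet o)).card = 2 by rw [Finset.card_erase_of_mem hs, hT.1])
    have hae : a ∈ T.erase (toSet o) := by rw [habT]; simp
    have hbe : b ∈ T.erase (toSet o) := by rw [habT]; simp
    rw [Finset.mem_erase] at hae hbe
    obtain ⟨q, hq, rfl⟩ := exists_mask_octad (hT.2.1 a hae.2)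
    obtain ⟨r, hr, rfl⟩ := exists_mask_octad (hT.2.1 b hbe.2)
    have key : ∀ q r : ℕ, q ∈ octList → r ∈ octList → toSet q ≠ toSet o → toSet r ≠ toSet o →
        toSet q ≠ toSet r → toSet q ∈ T → toSet r ∈ T →
        r = 16777215 ^^^ o ^^^ q ∧ o &&& q = 0 := by
      intro q r hq hr h1 h2 h3 hqT hrT
      have d1 := hT.2.2 _ hqT _ hs h1
      have d2 := hT.2.2 _ hrT _ hs h2
      have d3 := hT.2.2 _ hqT _ hrT h3
      have hu : toSet o ∪ toSet q ∪ toSet r = Finset.univ := by
        apply Finset.eq_of_subset_of_card_le (Finset.subset_univ _)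
        rw [Finset.card_union_of_disjoint (Finset.disjoint_union_left.2 ⟨d2.symm, d3⟩),
          Finset.card_union_of_disjoint d1.symm, card_toSet, card_toSet, card_toSet,
          (mem_octList.1 ho).2, (mem_octList.1 hq).2, (mem_octList.1 hr).2, Finset.card_univ]
        decide
      refine ⟨toSet_inj (octList_lt hr) ?_ ?_, toSet_inj ?_ (by norm_num) ?_⟩
      · exact Nat.xor_lt_two_pow (n := 24) (Nat.xor_lt_two_pow (n := 24) (by norm_num)
          (octList_lt ho)) (octList_lt hq)
      · rw [toSet_xor, toSet_compl]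
        ext x
        have hx := Finset.ext_iff.mp hu x
        have e1 : x ∈ toSet q → x ∉ toSet o := fun h => Finset.disjoint_left.1 d1 h
        have e2 : x ∈ toSet r → x ∉ toSet o := fun h => Finset.disjoint_left.1 d2 h
        have e3 : x ∈ toSet q → x ∉ toSet r := fun h => Finset.disjoint_left.1 d3 h
        simp only [Finset.mem_union, Finset.mem_univ, iff_true] at hx
        simp only [Finset.mem_symmDiff, Finset.mem_compl]
        tauto
      · exact lt_of_le_of_lt Nat.and_le_left (octList_lt ho)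
      · rw [toSet_and, toSet_zero, ← Finset.disjoint_iff_inter_eq_empty]; exact d1.symm
    have hTeq : T = {toSet o, toSet q, toSet r} := by
      rw [← Finset.insert_erase hs, habT]
    have hne : q ≠ r := fun e => hab (e ▸ rfl)
    obtain ⟨e1, z1⟩ := key q r hq hr hae.1 hbe.1 hab hae.2 hbe.2
    obtain ⟨e2, z2⟩ := key r q hr hq hbe.1 hae.1 hab.symm hbe.2 hae.2
    have hnone : o.testBit 23 = true := mem_toSet.1 hns
    rcases lt_or_gt_of_ne hne with hlt | hlt
    · refine ⟨[o, q, 16777215 ^^^ o ^^^ q], ?_, ?_⟩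
      · rw [← trioList_eq]
        simp only [trioGen, List.mem_flatMap, List.mem_map, List.mem_filter, Bool.and_eq_true,
          decide_eq_true_eq, beq_iff_eq]
        exact ⟨o, ⟨ho, hnone⟩, q, ⟨hq, z1, by rw [← e1]; exact hlt⟩, rfl⟩
      · rw [hTeq, ← e1]; simp [Sys]
    · refine ⟨[o, r, 16777215 ^^^ o ^^^ r], ?_, ?_⟩
      · rw [← trioList_eq]
        simp only [trioGen, List.mem_flatMap, List.mem_map, List.mem_filter, Bool.and_eq_true,
          decide_eq_true_eq, beq_iff_eq]
        exact ⟨o, ⟨ho, hnone⟩, r, ⟨hr, z2, by rw [← e2]; exact hlt⟩, rfl⟩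
      · rw [hTeq, ← e2]
        ext x; simp [Sys]; tauto
  · rintro ⟨l, hl, rfl⟩
    exact isTrioM_sound (trioList_spec hl).1

theorem trioList_nodup : (trioList.map Sys).Nodup := by
  have hp := (pairwise_of_incB trioList_check.2.1).imp fun {a b} h => ne_of_lt h
  refine List.Nodup.map_on (fun a ha b hb e => ?_) (List.Nodup.of_map _ hp)
  obtain ⟨hA, o, q, rfl, ho, hq, hno, hlt⟩ := trioList_spec ha
  obtain ⟨hB, o', q', rfl, ho', hq', hno', hlt'⟩ := trioList_spec hb
  have heq : o = o' := by
    refine toSet_inj (octList_lt ho) (octList_lt ho') ?_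
    by_contra hne
    have h1 : toSet o ∈ Sys [o', q', 16777215 ^^^ o' ^^^ q'] := e ▸ mem_Sys.2 ⟨o, by simp, rfl⟩
    exact Finset.disjoint_left.1 ((isTrioM_sound hB).2.2 _ h1 _ (mem_Sys.2 ⟨o', by simp, rfl⟩) hne)
      hno hno'
  subst heq
  simp only [isTrioM, okSys, Bool.and_eq_true, List.all_eq_true, decide_eq_true_eq] at hA hB
  have hm : ∀ m ∈ [o, q, 16777215 ^^^ o ^^^ q], m ∈ [o, q', 16777215 ^^^ o ^^^ q'] := by
    intro m hm
    have h1 : toSet m ∈ Sys [o, q', 16777215 ^^^ o ^^^ q'] := e ▸ mem_Sys.2 ⟨m, hm, rfl⟩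
    obtain ⟨m', hm', e'⟩ := mem_Sys.1 h1
    rw [← toSet_inj (hB.1.1.1.1 m' hm') (hA.1.1.1.1 m hm) e']
    exact hm'
  have h2 := hm q (by simp)
  have h3 := hm (16777215 ^^^ o ^^^ q) (by simp)
  simp only [List.mem_cons, List.not_mem_nil, or_false] at h2 h3
  have hnd : [o, q, 16777215 ^^^ o ^^^ q].Nodup := hA.1.1.1.2
  simp only [List.nodup_cons, List.mem_cons, List.not_mem_nil, or_false, not_or,
    List.nodup_nil, and_true, not_false_iff] at hnd
  obtain ⟨⟨n1, n2⟩, n3⟩ := hnd
  have : q = q' := by omega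
  rw [this]

/-- trios as a listed family -/
noncomputable def trioKind : Kind where
  E := trioList
  Ys := trios
  ok := List.all_eq_true.2 fun l hl => by
    have := (trioList_spec hl).1
    simp only [isTrioM, Bool.and_eq_true] at this
    exact this.1.1.1
  mem := trios_list
  nodup := trioList_nodup
  smul g hg S hS := smul_trio hg hS

theorem ncard_trios : trios.ncard = 3795 := by
  classical
  have e : trios = (((trioList.map Sys).toFinset : Finset _) : Set (Finset (Finset GolayPt))) := by
    ext S; simp [trios_list, List.mem_map]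
  rw [e, Set.ncard_coe_finset, List.toFinset_card_of_nodup trioList_nodup, List.length_map,
    trioList_check.2.2]

end CfsgLib.Golay
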