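import Cfsg.Prelude.Def_Sporadic_a
import Cfsg.Agent.Lib.Golay.PcTable

/-! Bit-mask encoding of subsets of the 24 points. -/
set_option autoImplicit false
set_option linter.deprecated false

namespace CfsgLib.Golay

open Cfsg
open scoped Pointwise

/-- position of a point: residues keep their value, the extra point gets 23 -/
def idx : GolayPt → ℕ
  | none => 23
  | some x => x.val

/-- the point at a position -/
def pt (i : ℕ) : GolayPt := if i = 23 then none else some (i : ZMod 23)

theorem idx_lt (p : GolayPt) : idx p < 24 := by revert p; decide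
theorem pt_idx (p : GolayPt) : pt (idx p) = p := by revert p; decide
theorem idx_pt {i : ℕ} (h : i < 24) : idx (pt i) = i := by
  revert i; decide
theorem idx_inj {p q : GolayPt} : idx p = idx q ↔ p = q :=
  ⟨fun h => by rw [← pt_idx p, h, pt_idx], fun h => h ▸ rfl⟩

/-- the subset encoded by a mask -/
def toSet (m : ℕ) : Finset GolayPt := Finset.univ.filter fun p => m.testBit (idx p)

theorem mem_toSet {m : ℕ} {p : GolayPt} : p ∈ toSet m ↔ m.testBit (idx p) = true := by
  simp [toSet]

theorem toSet_and (a b : ℕ) : toSet (a &&& b) = toSet a ∩ toSet b := by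
  ext p; simp [mem_toSet]

theorem toSet_or (a b : ℕ) : toSet (a ||| b) = toSet a ∪ toSet b := by
  ext p; simp [mem_toSet]

theorem toSet_xor (a b : ℕ) : toSet (a ^^^ b) = symmDiff (toSet a) (toSet b) := by
  ext p
  simp only [Finset.mem_symmDiff, mem_toSet, Nat.testBit_xor]
  cases a.testBit (idx p) <;> cases b.testBit (idx p) <;> simp

theorem toSet_zero : toSet 0 = ∅ := by
  ext p; simp [mem_toSet]

theorem toSet_full : toSet 16777215 = Finset.univ := by decide +kernel

theorem toSet_pow_idx (p : GolayPt) : toSet (2 ^ idx p) = {p} := by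
  ext q
  simp only [mem_toSet, Finset.mem_singleton, Nat.testBit_two_pow, decide_eq_true_eq]
  exact ⟨fun h => (idx_inj.1 h).symm, fun h => h ▸ rfl⟩

theorem toSet_compl (a : ℕ) : toSet (16777215 ^^^ a) = (toSet a)ᶜ := by
  rw [toSet_xor, toSet_full]
  ext p; simp [Finset.mem_symmDiff]

/-- the mask of a subset -/
def toMask (s : Finset GolayPt) : ℕ := ∑ p ∈ s, 2 ^ idx p

theorem toMask_lt (s : Finset GolayPt) : toMask s < 16777216 := by
  have h : toMask s ≤ toMask (Finset.univ) :=
    Finset.sum_le_sum_of_subset (Finset.subset_univ s)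
  have : toMask Finset.univ = 16777215 := by decide +kernel
  omega

theorem toSet_toMask (s : Finset GolayPt) : toSet (toMask s) = s := by
  classical
  have hinj : Function.Injective idx := fun a b h => idx_inj.1 h
  have h1 : toMask s = ∑ i ∈ s.image idx, 2 ^ i := by
    rw [Finset.sum_image (fun a _ b _ h => hinj h)]; rfl
  ext p
  rw [mem_toSet, h1, ← Nat.mem_bitIndices, ← List.mem_toFinset,
    Finset.toFinset_bitIndices_twoPowSum, Finset.mem_image]
  exact ⟨fun ⟨q, hq, h⟩ => hinj h ▸ hq, fun h => ⟨p, h, rfl⟩⟩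

theorem toSet_inj {a b : ℕ} (ha : a < 16777216) (hb : b < 16777216) (h : toSet a = toSet b) :
    a = b := by
  apply Nat.eq_of_testBit_eq
  intro i
  by_cases hi : i < 24
  · have := congrArg (fun s => pt i ∈ s) h
    simp only [mem_toSet, idx_pt hi, eq_iff_iff] at this
    exact Bool.eq_iff_iff.2 this
  · have hp : (16777216 : ℕ) ≤ 2 ^ i := by
      calc (16777216 : ℕ) = 2 ^ 24 := by norm_num
        _ ≤ 2 ^ i := Nat.pow_le_pow_right (by norm_num) (by omega)
    rw [Nat.testBit_lt_two_pow (by omega), Nat.testBit_lt_two_pow (by omega)]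

theorem toMask_toSet {m : ℕ} (h : m < 16777216) : toMask (toSet m) = m :=
  toSet_inj (toMask_lt _) h (toSet_toMask _)

/-- number of one bits among the first 24 -/
def pc (m : ℕ) : ℕ :=
  Nat.land (Nat.shiftRight pcTable (4 * Nat.land m 4095)) 15 +
    Nat.land (Nat.shiftRight pcTable (4 * Nat.land (Nat.shiftRight m 12) 4095)) 15

/-- loop form of `pc` -/
def pc.go : ℕ → ℕ → ℕ
    | 0, _ => 0
    | k + 1, m => m % 2 + pc.go k (m / 2)

theorem pc_go_succ (k i m : ℕ) :
    pc.go (k + 1) (Nat.shiftRight m i) =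
      Nat.land (Nat.shiftRight m i) 1 + pc.go k (Nat.shiftRight m (i + 1)) := by
  rw [pc.go, Nat.shiftRight, show Nat.land (Nat.shiftRight m i) 1 = Nat.shiftRight m i % 2 from
    Nat.and_one_is_mod _]

theorem pcTable_spec : (List.range 4096).all (fun x =>
    Nat.land (Nat.shiftRight pcTable (4 * x)) 15 == pc.go 12 x) = true := by decide +kernel

theorem pc_go_add : ∀ (k j m : ℕ),
    pc.go (k + j) m = pc.go k (m % 2 ^ k) + pc.go j (Nat.shiftRight m k)
  | 0, j, m => by simp [pc.go]
  | k + 1, j, m => by
    rw [Nat.add_right_comm k 1 j, pc.go, pc.go, pc_go_add k j (m / 2)]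
    have h1 : m % 2 ^ (k + 1) % 2 = m % 2 := Nat.mod_mod_of_dvd _ (dvd_pow_self 2 (by omega))
    have h2 : m % 2 ^ (k + 1) / 2 = m / 2 % 2 ^ k := by
      rw [pow_succ']; exact Nat.mod_mul_right_div_self m 2 (2 ^ k)
    have h3 : Nat.shiftRight (m / 2) k = Nat.shiftRight m (k + 1) := by
      change (m / 2) >>> k = m >>> (k + 1)
      rw [Nat.add_comm, Nat.shiftRight_add, Nat.shiftRight_eq_div_pow m 1, pow_one]
    rw [h1, h2, h3]; ring

theorem pc_eq_go (m : ℕ) : pc m = pc.go 24 m := by
  have hl : ∀ x, Nat.land x 4095 = x % 2 ^ 12 := fun x => Nat.and_two_pow_sub_one_eq_mod x 12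
  have hT : ∀ x, Nat.land (Nat.shiftRight pcTable (4 * (x % 2 ^ 12))) 15 = pc.go 12 (x % 2 ^ 12) :=
    fun x => eq_of_beq (List.all_eq_true.1 pcTable_spec _ (List.mem_range.2 (Nat.mod_lt _ (by norm_num))))
  have hhigh : ∀ (k x : ℕ), pc.go k (x % 2 ^ k) = pc.go k x := by
    intro k x
    have h := pc_go_add k 0 x
    simp only [pc.go, Nat.add_zero] at h
    exact h.symm
  rw [pc, hl, hl, hT, hT, hhigh 12 (Nat.shiftRight m 12)]
  exact (pc_go_add 12 12 m).symm

theorem pc_go_eq (k m : ℕ) : pc.go k m = ((Finset.range k).filter fun i => m.testBit i).card := by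
  induction k generalizing m with
  | zero => simp [pc.go]
  | succ k ih =>
    rw [pc.go, ih, Finset.range_eq_Ico, Finset.range_eq_Ico]
    rw [← Finset.range_eq_Ico, ← Finset.range_eq_Ico]
    have : ((Finset.range (k + 1)).filter fun i => m.testBit i).card
        = (if m.testBit 0 then 1 else 0)
          + ((Finset.range k).filter fun i => (m / 2).testBit i).card := by
      simp only [Finset.card_filter, Finset.sum_range_succ' _ k, Nat.testBit_succ]
      ring
    rw [this, Nat.testBit_zero]
    rcases Nat.mod_two_eq_zero_or_one m with h | h <;> simp [h]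

theorem card_toSet (m : ℕ) : (toSet m).card = pc m := by
  rw [pc_eq_go, pc_go_eq]
  refine Finset.card_nbij' idx pt ?_ ?_ ?_ ?_
  · intro p hp
    simp only [Finset.coe_filter, Finset.mem_range, Set.mem_setOf_eq]
    exact ⟨idx_lt p, mem_toSet.1 hp⟩
  · intro i hi
    simp only [Finset.coe_filter, Finset.mem_range, Set.mem_setOf_eq] at hi
    exact mem_toSet.2 (by rw [idx_pt hi.1]; exact hi.2)
  · intro p _; exact pt_idx p
  · intro i hi
    simp only [Finset.coe_filter, Finset.mem_range, Set.mem_setOf_eq] at hi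
    exact idx_pt hi.1

theorem toSet_subset_iff {a b : ℕ} (ha : a < 16777216) : toSet a ⊆ toSet b ↔ a &&& b = a := by
  rw [← Finset.inter_eq_left, ← toSet_and]
  exact ⟨fun h => toSet_inj (lt_of_le_of_lt Nat.and_le_left ha) ha h, fun h => by rw [h]⟩

/-- the word with a given support mask -/
def toWord (m : ℕ) : GolayPt → ZMod 2 := fun p => if m.testBit (idx p) then 1 else 0

theorem toWord_xor (a b : ℕ) : toWord (a ^^^ b) = toWord a + toWord b := by
  funext p
  simp only [toWord, Pi.add_apply, Nat.testBit_xor]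
  cases a.testBit (idx p) <;> cases b.testBit (idx p) <;> decide

theorem support₂_toWord (m : ℕ) : support₂ (toWord m) = toSet m := by
  ext p
  show p ∈ Finset.univ.filter (fun a => toWord m a ≠ 0) ↔ _
  rw [Finset.mem_filter, mem_toSet, toWord]
  cases m.testBit (idx p) <;> simp

theorem support₂_inj {v w : GolayPt → ZMod 2} (h : support₂ v = support₂ w) : v = w := by
  funext p
  have : v p ≠ 0 ↔ w p ≠ 0 := by
    have := congrArg (fun s => p ∈ s) h
    simpa [support₂, eq_iff_iff] using this
  revert this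
  generalize v p = x
  generalize w p = y
  revert x y
  decide

theorem toWord_toMask_support₂ (w : GolayPt → ZMod 2) : toWord (toMask (support₂ w)) = w :=
  support₂_inj (by rw [support₂_toWord, toSet_toMask])

theorem hammingNorm_toWord (m : ℕ) : hammingNorm (toWord m) = pc m := by
  rw [← card_toSet, ← support₂_toWord]; rfl

end CfsgLib.Golay
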