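import Cfsg.Agent.Lib.Golay.Kinds

/-! Orbits of stabilisers in `M24` from certificates, and maximality. -/
set_option autoImplicit false
set_option linter.all false

namespace CfsgLib.Golay

open Cfsg
open scoped Pointwise

/-- the root of the i-th class, moved by `a` -/
def rootOf (c : Cert) (a : Equiv.Perm GolayPt) (i : ℕ) : Finset (Finset GolayPt) :=
  a • Sys (rootAt c i)

theorem Kind.orbit_eq (K : Kind) {X : List ℕ} {cls : Cert}
    (h : chkOrbits K.E [X] cls = true) {a : Equiv.Perm GolayPt} (ha : a ∈ M24)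
    {S : Finset (Finset GolayPt)} (hS : a • Sys X = S) {i : ℕ} (hi : i < cls.1.length) :
    rootOf cls a i ∈ K.Ys ∧
    MulAction.orbit ↥(MulAction.stabilizer M24 S) (rootOf cls a i) =
      {Y | Y ∈ K.Ys ∧ Pats [S] Y = keyOf [X] (rootAt cls i)} ∧
    (MulAction.orbit ↥(MulAction.stabilizer M24 S) (rootOf cls a i)).ncard = sizeAt cls i := by
  obtain ⟨hX, hr, hnd, hz⟩ := K.cert_spec h
  have hroot := hr _ (rootAt_mem hi)
  have hXs : ([X].map Sys).map (a • ·) = [S] := by simp [hS]
  have hmem : rootOf cls a i ∈ K.Ys := K.smul a ha _ ((K.mem _).2 ⟨_, hroot, rfl⟩)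
  have hkey : Pats [S] (rootOf cls a i) = keyOf [X] (rootAt cls i) := by
    rw [← hXs, rootOf, Pats_smul, Pats_Sys hX (List.all_eq_true.1 K.ok _ hroot)]
    rfl
  have heq : MulAction.orbit ↥(MulAction.stabilizer M24 S) (rootOf cls a i) =
      {Y | Y ∈ K.Ys ∧ Pats [S] Y = keyOf [X] (rootAt cls i)} := by
    ext Y
    rw [MulAction.mem_orbit_iff, Set.mem_ofPred_eq]
    constructor
    · rintro ⟨g, rfl⟩
      have hfix : ((g : M24) : Equiv.Perm GolayPt) • S = S := g.2
      refine ⟨K.smul _ (g : M24).2 _ hmem, ?_⟩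
      rw [← hkey]
      conv_lhs => rw [show [S] = [S].map (((g : M24) : Equiv.Perm GolayPt) • ·) by simp [hfix]]
      exact Pats_smul _ _ _
    · rintro ⟨hY, hk⟩
      obtain ⟨g, hg, hfix, hgy⟩ := K.trans h ha hXs hmem hY (hkey.trans hk.symm)
      exact ⟨⟨⟨g, hg⟩, hfix S (List.mem_singleton.2 rfl)⟩, hgy⟩
  refine ⟨hmem, heq, ?_⟩
  rw [heq]
  exact K.ncard hX (K.classOf_length h hi) ha hXs

theorem Kind.cover (K : Kind) {X : List ℕ} {cls : Cert}
    (h : chkOrbits K.E [X] cls = true) {a : Equiv.Perm GolayPt} (ha : a ∈ M24)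
    {S : Finset (Finset GolayPt)} (hS : a • Sys X = S) {Y : Finset (Finset GolayPt)}
    (hY : Y ∈ K.Ys) :
    ∃ i < cls.1.length, Y ∈ MulAction.orbit ↥(MulAction.stabilizer M24 S) (rootOf cls a i) := by
  obtain ⟨hX, hr, hnd, hz⟩ := K.cert_spec h
  obtain ⟨y, hy, e⟩ := (K.mem _).1 (K.smul a⁻¹ (inv_mem ha) Y hY)
  obtain ⟨i, hi, p, hp⟩ := chkZip_mem hz y hy
  refine ⟨i, hi, ?_⟩
  rw [(K.orbit_eq h ha hS hi).2.1]
  refine ⟨hY, ?_⟩
  rw [← show keyOf [X] y = keyOf [X] (rootAt cls i) from
      keyOf_item K.ok hX (hr _ (rootAt_mem hi)) hy hp, keyOf,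
    ← Pats_Sys hX (List.all_eq_true.1 K.ok y hy), e,
    show [S] = ([X].map Sys).map (a • ·) by simp [hS]]
  conv_lhs => rw [← smul_inv_smul a Y]
  exact Pats_smul _ _ _

/-- numerical test for maximality: `sizes` has the fixed class first -/
def coatomOk (n : ℕ) (sizes : List ℕ) : Bool :=
  sizes.tail.sublists.all fun l => l.isEmpty || l.sum + 1 == n || n % (l.sum + 1) != 0

theorem stab_single (s : Finset GolayPt) :
    MulAction.stabilizer M24 ({s} : Finset (Finset GolayPt)) = MulAction.stabilizer M24 s := by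
  ext g
  simp only [MulAction.mem_stabilizer_iff, Finset.smul_finset_singleton, Finset.singleton_inj]

theorem orbit_single (H : Subgroup M24) (s : Finset GolayPt) :
    MulAction.orbit H ({s} : Finset (Finset GolayPt)) =
      (fun t : Finset GolayPt => ({t} : Finset (Finset GolayPt))) '' MulAction.orbit H s := by
  simp only [MulAction.orbit, ← Set.range_comp]
  simp only [Function.comp_def, Finset.smul_finset_singleton]

theorem Kind.card_stabilizer (K : Kind)
    (htr : ∀ Y ∈ K.Ys, ∀ Y' ∈ K.Ys, ∃ g ∈ M24, g • Y = Y') {Y : Finset (Finset GolayPt)}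
    (hY : Y ∈ K.Ys) : K.Ys.ncard * Nat.card (MulAction.stabilizer M24 Y) = 244823040 := by
  rw [← card_M24, Subgroup.card_eq_card_quotient_mul_card_subgroup (MulAction.stabilizer M24 Y),
    ← Nat.card_congr (MulAction.orbitEquivQuotientStabilizer M24 Y), Nat.card_coe_set_eq]
  congr 2
  ext Z
  rw [MulAction.mem_orbit_iff]
  constructor
  · intro hZ
    obtain ⟨g, hg, e⟩ := htr Y hY Z hZ
    exact ⟨⟨g, hg⟩, e⟩
  · rintro ⟨g, rfl⟩
    exact K.smul _ g.2 Y hY

theorem Kind.isCoatom (K : Kind) {X : List ℕ} {cls : Cert}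
    (h : chkOrbits K.E [X] cls = true) {a : Equiv.Perm GolayPt} (ha : a ∈ M24)
    {S : Finset (Finset GolayPt)} (hS : a • Sys X = S) (hSY : S ∈ K.Ys)
    (htr : ∀ Y ∈ K.Ys, ∀ Y' ∈ K.Ys, ∃ g ∈ M24, g • Y = Y')
    (h0 : rootOf cls a 0 = S) (hs0 : sizeAt cls 0 = 1) (hlen : 0 < cls.1.length)
    (hnum : coatomOk K.Ys.ncard ((List.range cls.1.length).map (sizeAt cls)) = true)
    (htwo : 1 < K.Ys.ncard) :
    IsCoatom (MulAction.stabilizer M24 S) := by
  classical
  have horbS : MulAction.orbit M24 S = K.Ys := by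
    ext Z
    rw [MulAction.mem_orbit_iff]
    constructor
    · rintro ⟨g, rfl⟩; exact K.smul _ g.2 S hSY
    · intro hZ; obtain ⟨g, hg, e⟩ := htr S hSY Z hZ; exact ⟨⟨g, hg⟩, e⟩
  refine ⟨fun htop => ?_, fun H hH => ?_⟩
  · have h1 := MulAction.index_stabilizer M24 S
    rw [horbS, htop, Subgroup.index_top] at h1
    omega
  · by_contra hne
    set B : Set (Finset (Finset GolayPt)) := MulAction.orbit H S with hB
    have hBsub : B ⊆ K.Ys := by
      rintro _ ⟨g, rfl⟩; exact K.smul _ (g : M24).2 S hSY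
    -- B is a union of classes
    have hclosed : ∀ i < cls.1.length, (∃ Z ∈ B,
        Z ∈ MulAction.orbit ↥(MulAction.stabilizer M24 S) (rootOf cls a i)) →
        MulAction.orbit ↥(MulAction.stabilizer M24 S) (rootOf cls a i) ⊆ B := by
      rintro i - ⟨_, ⟨h0', rfl⟩, hZ⟩ W hW
      rw [← MulAction.orbit_eq_iff.2 hZ, MulAction.mem_orbit_iff] at hW
      obtain ⟨k, rfl⟩ := hW
      exact ⟨⟨(k : M24) * (h0' : M24), mul_mem (hH.le k.2) h0'.2⟩, mul_smul (k : M24) (h0' : M24) S⟩
    let I : List ℕ := (List.range cls.1.length).filter fun i => decide (rootOf cls a i ∈ B)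
    have hBeq : B = ↑((I.toFinset).biUnion fun i =>
        (Set.toFinite (MulAction.orbit ↥(MulAction.stabilizer M24 S) (rootOf cls a i))).toFinset) := by
      ext W
      simp only [Finset.coe_biUnion, Set.mem_iUnion, Finset.mem_coe, List.mem_toFinset,
        Set.Finite.coe_toFinset, exists_prop, I, List.mem_filter, List.mem_range, decide_eq_true_eq]
      constructor
      · intro hW
        obtain ⟨i, hi, hWi⟩ := K.cover h ha hS (hBsub hW)
        exact ⟨i, ⟨hi, hclosed i hi ⟨W, hW, hWi⟩ (MulAction.mem_orbit_self _)⟩, hWi⟩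
      · rintro ⟨i, ⟨hi, hr⟩, hWi⟩
        exact hclosed i hi ⟨_, hr, MulAction.mem_orbit_self _⟩ hWi
    have hcard : B.ncard = (I.map (sizeAt cls)).sum := by
      rw [hBeq, Set.ncard_coe_finset, Finset.card_biUnion, List.sum_toFinset _
        (List.nodup_range.filter _)]
      · refine congrArg List.sum (List.map_congr_left fun i hi => ?_)
        simp only [I, List.mem_filter, List.mem_range] at hi
        rw [← Set.ncard_eq_toFinset_card _, (K.orbit_eq h ha hS hi.1).2.2]
      · intro i hi j hj hij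
        simp only [I, Finset.mem_coe, List.mem_toFinset, List.mem_filter, List.mem_range] at hi hj
        simp only [Function.onFun, Finset.disjoint_left, Set.Finite.mem_toFinset]
        intro W hWi hWj
        rw [(K.orbit_eq h ha hS hi.1).2.1] at hWi
        rw [(K.orbit_eq h ha hS hj.1).2.1] at hWj
        have e := hWi.2.symm.trans hWj.2
        rw [rootAt, rootAt, List.getD_eq_getElem?_getD, List.getElem?_eq_getElem hi.1, Option.getD_some,
          List.getD_eq_getElem?_getD, List.getElem?_eq_getElem hj.1, Option.getD_some] at e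
        exact hij (((K.cert_spec h).2.2.1.getElem_inj_iff (hi := by simpa using hi.1)
          (hj := by simpa using hj.1)).1 (by simpa using e))
    -- counting
    obtain ⟨t, ht⟩ : B.ncard ∣ K.Ys.ncard := by
      rw [← horbS, ← MulAction.index_stabilizer M24 S]
      have h2 := MulAction.index_stabilizer H S
      rw [← hB] at h2
      refine ⟨H.index, ?_⟩
      rw [← h2, ← Subgroup.relIndex_mul_index hH.le]
      congr 1
    have h0B : rootOf cls a 0 ∈ B := h0 ▸ MulAction.mem_orbit_self S
    have hI : ∃ l, I = 0 :: l ∧ l.Sublist (List.range cls.1.length).tail := by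
      obtain ⟨n, hn⟩ := Nat.exists_eq_succ_of_ne_zero hlen.ne'
      refine ⟨((List.range cls.1.length).tail).filter fun i => decide (rootOf cls a i ∈ B), ?_,
        List.filter_sublist⟩
      simp only [I, hn, List.range_succ_eq_map, List.filter_cons, h0B, decide_true, if_true,
        List.tail_cons]
    obtain ⟨l, hl, hsl⟩ := hI
    rw [hl, List.map_cons, List.sum_cons, hs0] at hcard
    have hmem : l.map (sizeAt cls) ∈ ((List.range cls.1.length).map (sizeAt cls)).tail.sublists := by
      rw [List.mem_sublists, ← List.map_tail]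
      exact hsl.map _
    have hnum' := List.all_eq_true.1 hnum _ hmem
    simp only [Bool.or_eq_true, List.isEmpty_iff, List.map_eq_nil_iff, beq_iff_eq, bne_iff_ne,
      ne_eq] at hnum'
    rcases hnum' with (hnil | hall) | hdiv
    · subst hnil
      simp only [List.map_nil, List.sum_nil, Nat.add_zero] at hcard
      apply hH.not_ge
      intro g hg
      obtain ⟨Z, hZ⟩ := Set.ncard_eq_one.1 hcard
      have h1 : S = Z := by
        have : S ∈ B := MulAction.mem_orbit_self S
        rw [hZ] at this; exact this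
      have h2 : g • S = Z := by
        have : g • S ∈ B := ⟨⟨g, hg⟩, rfl⟩
        rw [hZ] at this; exact this
      exact MulAction.mem_stabilizer_iff.2 (h2.trans h1.symm)
    · apply hne
      have hBY : B = K.Ys := Set.eq_of_subset_of_ncard_le hBsub (by rw [hcard]; omega)
      rw [Subgroup.eq_top_iff']
      intro g
      have : g • S ∈ B := hBY ▸ K.smul _ g.2 S hSY
      obtain ⟨k, hk⟩ := this
      have h3 : (k : M24)⁻¹ * g ∈ MulAction.stabilizer M24 S := by
        rw [MulAction.mem_stabilizer_iff, mul_smul, inv_smul_eq_iff]; exact hk.symm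
      simpa using mul_mem k.2 (hH.le h3)
    · apply hdiv
      rw [ht, hcard, Nat.add_comm 1]
      exact Nat.mul_mod_right _ _

end CfsgLib.Golay
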