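import Cfsg.Prelude.Def_Sporadic_a

/-! Simplicity criteria for 2-transitive permutation groups. -/
set_option autoImplicit false
set_option linter.all false

namespace CfsgLib.Golay

variable {Ω : Type*} [DecidableEq Ω]

/-- two-transitivity of a subgroup of permutations on a finite set of points -/
structure TwoTrans (G : Subgroup (Equiv.Perm Ω)) (s : Finset Ω) : Prop where
  maps : ∀ g ∈ G, ∀ x ∈ s, g x ∈ s
  faithful : ∀ g ∈ G, (∀ x ∈ s, g x = x) → g = 1
  trans : ∀ x ∈ s, ∀ y ∈ s, ∀ x' ∈ s, ∀ y' ∈ s, x ≠ y → x' ≠ y' →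
    ∃ g ∈ G, g x = x' ∧ g y = y'
  two : 1 < s.card

theorem TwoTrans.one {G : Subgroup (Equiv.Perm Ω)} {s : Finset Ω} (h : TwoTrans G s) {x : Ω}
    (hx : x ∈ s) {x' : Ω} (hx' : x' ∈ s) : ∃ g ∈ G, g x = x' := by
  obtain ⟨y, hy, hne⟩ := Finset.exists_mem_ne h.two x
  obtain ⟨y', hy', hne'⟩ := Finset.exists_mem_ne h.two x'
  obtain ⟨g, hg, e, -⟩ := h.trans x hx y hy x' hx' y' hy' hne.symm hne'.symm
  exact ⟨g, hg, e⟩

/-- a nontrivial normal subgroup is transitive -/
theorem TwoTrans.normal_trans {G : Subgroup (Equiv.Perm Ω)} {s : Finset Ω} (h : TwoTrans G s)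
    {N : Subgroup G} (hN : N.Normal) (hne : N ≠ ⊥) {x : Ω} (hx : x ∈ s) {z : Ω} (hz : z ∈ s) :
    ∃ n ∈ N, ((n : G) : Equiv.Perm Ω) x = z := by
  rcases eq_or_ne x z with rfl | hxz
  · exact ⟨1, one_mem _, rfl⟩
  obtain ⟨n, hn, hmove⟩ : ∃ n ∈ N, ((n : G) : Equiv.Perm Ω) x ≠ x := by
    by_contra hcon
    push Not at hcon
    apply hne
    rw [eq_bot_iff]
    intro n hn
    rw [Subgroup.mem_bot]
    refine Subtype.ext (h.faithful n n.2 fun y hy => ?_)
    obtain ⟨g, hg, e⟩ := h.one hx hy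
    have h1 := hcon _ (hN.conj_mem n hn ⟨g, hg⟩⁻¹)
    simp only [inv_inv, Subgroup.coe_mul, Subgroup.coe_inv, Equiv.Perm.mul_apply] at h1
    rw [e, Equiv.Perm.inv_eq_iff_eq, e] at h1
    exact h1
  obtain ⟨g, hg, e1, e2⟩ := h.trans x hx _ (h.maps n n.2 x hx) x hx z hz (Ne.symm hmove) hxz
  refine ⟨⟨g, hg⟩ * n * ⟨g, hg⟩⁻¹, hN.conj_mem n hn _, ?_⟩
  have : g⁻¹ x = x := by rw [Equiv.Perm.inv_eq_iff_eq, e1]
  simp only [Subgroup.coe_mul, Subgroup.coe_inv, Equiv.Perm.mul_apply, this, e2]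

theorem TwoTrans.card_dvd {G : Subgroup (Equiv.Perm Ω)} {s : Finset Ω} (h : TwoTrans G s)
    {N : Subgroup G} (hN : N.Normal) (hne : N ≠ ⊥) {x : Ω} (hx : x ∈ s) :
    s.card * Nat.card (MulAction.stabilizer N x) = Nat.card N := by
  have horb : MulAction.orbit N x = (s : Set Ω) := by
    ext z
    constructor
    · rintro ⟨n, rfl⟩; exact h.maps _ (n : G).2 x hx
    · intro hz
      obtain ⟨n, hn, e⟩ := h.normal_trans hN hne hx hz
      exact ⟨⟨n, hn⟩, e⟩
  have h2 := MulAction.index_stabilizer N x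
  rw [horb, Set.ncard_coe_finset] at h2
  rw [← h2, Subgroup.index_mul_card]

theorem simple_prime_gen {G : Subgroup (Equiv.Perm Ω)} [Finite G] {s : Finset Ω}
    (h : TwoTrans G s) {q : ℕ} (hq : q.Prime) (hqs : q ∣ s.card) (hqG : q ∣ Nat.card G)
    (hq2 : ¬ q ^ 2 ∣ Nat.card G) {S : Set (Equiv.Perm Ω)} (hgen : Subgroup.closure S = G)
    (hord : ∀ x ∈ S, x ^ q = 1) : IsSimpleGroup G := by
  haveI : Fact q.Prime := ⟨hq⟩
  haveI : Nontrivial G :=
    Finite.one_lt_card_iff_nontrivial.1 (lt_of_lt_of_le hq.one_lt (Nat.le_of_dvd Nat.card_pos hqG))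
  refine ⟨fun N hN => ?_⟩
  by_cases hne : N = ⊥
  · exact Or.inl hne
  right
  obtain ⟨x, hx⟩ := Finset.card_pos.1 (show 0 < s.card by have := h.two; omega)
  have hqN : q ∣ Nat.card N := by
    rw [← h.card_dvd hN hne hx]; exact Dvd.dvd.mul_right hqs _
  obtain ⟨n, hn⟩ := exists_prime_orderOf_dvd_card' (G := N) q hqN
  have hn' : orderOf (n : G) = q := by rw [Subgroup.orderOf_coe]; exact hn
  have hcardP : Nat.card (Subgroup.zpowers (n : G)) = q ^ (Nat.card G).factorization q := by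
    rw [Nat.card_zpowers, hn']
    have h1 : 1 ≤ (Nat.card G).factorization q :=
      (hq.pow_dvd_iff_le_factorization Nat.card_pos.ne').1 (by rwa [pow_one])
    have h2 : ¬ 2 ≤ (Nat.card G).factorization q := fun h2 =>
      hq2 ((hq.pow_dvd_iff_le_factorization Nat.card_pos.ne').2 h2)
    rw [show (Nat.card G).factorization q = 1 by omega, pow_one]
  let P : Sylow q G := Sylow.ofCard _ hcardP
  rw [Subgroup.eq_top_iff']
  suffices hS : ∀ y : G, (y : Equiv.Perm Ω) ∈ S → y ∈ N by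
    have hle : G ≤ N.map G.subtype := by
      conv_lhs => rw [← hgen]
      rw [Subgroup.closure_le]
      intro y hy
      exact ⟨⟨y, hgen ▸ Subgroup.subset_closure hy⟩, hS _ hy, rfl⟩
    intro y
    obtain ⟨z, hz, e⟩ := hle y.2
    rwa [← Subtype.ext (show (z : Equiv.Perm Ω) = y from e)]
  intro y hy
  rcases eq_or_ne y 1 with rfl | hy1
  · exact one_mem _
  have hyo : orderOf y = q := by
    refine orderOf_eq_prime ?_ hy1
    exact Subtype.ext (by simpa using hord _ hy)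
  obtain ⟨g, hg⟩ := MulAction.exists_smul_eq G P (Sylow.ofCard (Subgroup.zpowers y) (by
    rw [Nat.card_zpowers]; exact hyo.trans (hn'.symm.trans ((Nat.card_zpowers _).symm.trans hcardP))))
  have hy2 : y ∈ ((g • P : Sylow q G) : Subgroup G) := by
    rw [hg, Sylow.coe_ofCard]; exact Subgroup.mem_zpowers y
  rw [Sylow.coe_subgroup_smul, Subgroup.mem_pointwise_smul_iff_inv_smul_mem] at hy2
  have hy3 : (MulAut.conj g)⁻¹ • y ∈ N := by
    refine (Subgroup.zpowers_le.2 n.2) ?_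
    simpa [P, Sylow.coe_ofCard] using hy2
  have := hN.conj_mem _ hy3 g
  simpa [MulAut.smul_def, mul_assoc] using this

/-- extension of a simple point stabiliser -/
theorem simple_of_stab {G : Subgroup (Equiv.Perm Ω)} [Finite G] {s : Finset Ω} (h : TwoTrans G s)
    {x : Ω} (hx : x ∈ s) (hS : IsSimpleGroup (MulAction.stabilizer G x)) {p q : ℕ} (hp : p.Prime)
    (hq : q.Prime) (hpq : p ≠ q) (hps : p ∣ s.card) (hqs : q ∣ s.card) : IsSimpleGroup G := by
  haveI : Nontrivial G := by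
    obtain ⟨y, hy, hne⟩ := Finset.exists_mem_ne h.two x
    obtain ⟨g, hg, e⟩ := h.one hx hy
    refine ⟨⟨g, hg⟩, 1, fun h1 => hne ?_⟩
    rw [← e, show g = 1 from congrArg Subtype.val h1]; rfl
  refine ⟨fun N hN => ?_⟩
  by_cases hne : N = ⊥
  · exact Or.inl hne
  right
  rcases hS.eq_bot_or_eq_top_of_normal (N.subgroupOf (MulAction.stabilizer G x))
    (Subgroup.Normal.comap hN _) with hb | ht
  · exfalso
    rw [Subgroup.subgroupOf_eq_bot] at hb
    have hfix : ∀ m ∈ N, ((m : G) : Equiv.Perm Ω) x = x → m = 1 := fun m hm e =>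
      (Subgroup.disjoint_def.1 hb) hm (MulAction.mem_stabilizer_iff.2 e)
    have hcard : Nat.card N = s.card := by
      rw [← h.card_dvd hN hne hx]
      have : Nat.card (MulAction.stabilizer N x) = 1 := by
        rw [Nat.card_eq_one_iff_unique]
        refine ⟨⟨fun a b => ?_⟩, inferInstance⟩
        have h1 : ∀ a : MulAction.stabilizer N x, a = 1 := fun a =>
          Subtype.ext (Subtype.ext (hfix _ a.1.2 a.2))
        rw [h1 a, h1 b]
      rw [this, mul_one]
    haveI : Fact p.Prime := ⟨hp⟩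
    haveI : Fact q.Prime := ⟨hq⟩
    obtain ⟨a, ha⟩ := exists_prime_orderOf_dvd_card' (G := N) p (hcard ▸ hps)
    obtain ⟨b, hb'⟩ := exists_prime_orderOf_dvd_card' (G := N) q (hcard ▸ hqs)
    have hax : ((a : G) : Equiv.Perm Ω) x ≠ x := fun e => hp.ne_one (by
      rw [← ha, show a = 1 from Subtype.ext (hfix _ a.2 e), orderOf_one])
    have hbx : ((b : G) : Equiv.Perm Ω) x ≠ x := fun e => hq.ne_one (by
      rw [← hb', show b = 1 from Subtype.ext (hfix _ b.2 e), orderOf_one])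
    obtain ⟨g, hg, e1, e2⟩ := h.trans x hx _ (h.maps _ (a : G).2 x hx) x hx _
      (h.maps _ (b : G).2 x hx) hax.symm hbx.symm
    have hm := hN.conj_mem _ a.2 ⟨g, hg⟩
    have hgx : g⁻¹ x = x := by rw [Equiv.Perm.inv_eq_iff_eq, e1]
    have hc : (⟨g, hg⟩ : G) * a * (⟨g, hg⟩ : G)⁻¹ = b := by
      refine inv_mul_eq_one.1 (hfix _ (mul_mem (inv_mem hm) b.2) ?_)
      simp only [Subgroup.coe_mul, Subgroup.coe_inv, Equiv.Perm.mul_apply, mul_inv_rev, inv_inv]
      rw [← e2]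
      simp [Equiv.Perm.inv_def, e1]
    have hord : orderOf (b : G) = orderOf (a : G) := by
      rw [← hc]
      exact (MulAut.conj (⟨g, hg⟩ : G)).orderOf_eq (a : G)
    rw [Subgroup.orderOf_coe, Subgroup.orderOf_coe, ha, hb'] at hord
    exact hpq hord.symm
  · rw [Subgroup.subgroupOf_eq_top] at ht
    rw [Subgroup.eq_top_iff']
    intro y
    obtain ⟨n, hn, e⟩ := h.normal_trans hN hne hx (h.maps _ y.2 x hx)
    have : n⁻¹ * y ∈ N := ht (by
      rw [MulAction.mem_stabilizer_iff, mul_smul, inv_smul_eq_iff]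
      exact e.symm)
    simpa using mul_mem hn this

end CfsgLib.Golay
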