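import Cfsg.Agent.Lib.Golay.Transitive
import Cfsg.Agent.Lib.Golay.GenChain
import Cfsg.Agent.Lib.Golay.SimpleCrit
import Cfsg.Agent.Lib.Golay.SmallData
import Cfsg.Prelude.Def_Spor_Mathieu

/-! The five Mathieu groups inside `Perm GolayPt`: transitivity, orders, simplicity. -/
set_option autoImplicit false
set_option linter.all false
set_option maxRecDepth 8000

namespace CfsgLib.Golay

open Cfsg
open scoped Pointwise

/-- the standard dodecad stabiliser -/
def S12 : Subgroup (Equiv.Perm GolayPt) :=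
  M24 ⊓ MulAction.stabilizer (Equiv.Perm GolayPt) (toSet dodD)

/-- the standard dodecad and point stabiliser -/
def S11 : Subgroup (Equiv.Perm GolayPt) :=
  S12 ⊓ MulAction.stabilizer (Equiv.Perm GolayPt) (pt 0)

theorem mem_stab_pt {g : Equiv.Perm GolayPt} {x : GolayPt} :
    g ∈ MulAction.stabilizer (Equiv.Perm GolayPt) x ↔ g x = x := Iff.rfl

theorem S12_maps {g : Equiv.Perm GolayPt} (hg : g ∈ S12) {x : GolayPt} (hx : x ∈ toSet dodD) :
    g x ∈ toSet dodD := by
  have := Finset.smul_mem_smul_finset (a := g) hx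
  rwa [MulAction.mem_stabilizer_iff.1 hg.2] at this

theorem card_S12 : Nat.card S12 = 95040 := by
  rw [← card_stab_dodecad toSet_dodD]
  exact Nat.card_congr ⟨fun g => ⟨⟨g.1, g.2.1⟩, g.2.2⟩, fun g => ⟨g.1.1, g.1.2, g.2⟩,
    fun _ => rfl, fun _ => rfl⟩

theorem S12_check : chkCover dodD [] baseG12 trsG12 = true ∧
    trsG12.flatten.all (fun p => inM24 p && (pmask p dodD == dodD)) = true := by
  constructor <;> decide +kernel

theorem S12_trs : ∀ p ∈ trsG12.flatten, toPerm p ∈ S12 := by
  intro p hp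
  have h := List.all_eq_true.1 S12_check.2 p hp
  simp only [Bool.and_eq_true, beq_iff_eq] at h
  refine ⟨toPerm_mem_M24 h.1, ?_⟩
  change toPerm p • toSet dodD = toSet dodD
  rw [smul_toSet (okPerm_of_M h.1), h.2]
where
  okPerm_of_M {p : ℕ} (h : inM24 p = true) : okPerm p = true := by
    simp only [inM24, Bool.and_eq_true] at h; exact h.1

theorem S12_tuple (x y : Fin 5 ↪ GolayPt) (hx : ∀ i, x i ∈ toSet dodD) (hy : ∀ i, y i ∈ toSet dodD) :
    ∃ g ∈ S12, ∀ i, g (x i) = y i := by
  have key : ∀ z : Fin 5 ↪ GolayPt, (∀ i, z i ∈ toSet dodD) →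
      ∃ g ∈ S12, ∀ i : Fin 5, g (z i) = pt (([] ++ baseG12).getD i 0) := fun z hz =>
    cover_to_base S12_check.1 S12_trs (fun g hg x hx => S12_maps hg hx) z z.injective hz 1
      (one_mem _) (fun i hi => absurd hi (Nat.not_lt_zero _)) (by decide)
  obtain ⟨a, ha, hax⟩ := key x hx
  obtain ⟨b, hb, hby⟩ := key y hy
  exact ⟨b⁻¹ * a, mul_mem (inv_mem hb) ha, fun i => by
    rw [Equiv.Perm.mul_apply, hax i, ← hby i]; exact b.symm_apply_apply (y i)⟩

theorem S12_sharp (x : Fin 5 ↪ GolayPt) (hx : ∀ i, x i ∈ toSet dodD) {g h : Equiv.Perm GolayPt}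
    (hg : g ∈ S12) (hh : h ∈ S12) (e : ∀ i, g (x i) = h (x i)) : g = h := by
  classical
  let f : S12 → (Fin 5 ↪ {p // p ∈ toSet dodD}) := fun g =>
    ⟨fun i => ⟨(g : Equiv.Perm GolayPt) (x i), S12_maps g.2 (hx i)⟩, fun i j hij =>
      x.injective ((g : Equiv.Perm GolayPt).injective (congrArg Subtype.val hij))⟩
  have hsurj : Function.Surjective f := by
    intro y
    obtain ⟨g, hg, hgy⟩ := S12_tuple x (y.trans (Function.Embedding.subtype _)) hx (fun i => (y i).2)
    exact ⟨⟨g, hg⟩, Function.Embedding.ext fun i => Subtype.ext (hgy i)⟩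
  have hcard : Nat.card (Fin 5 ↪ {p // p ∈ toSet dodD}) = Nat.card S12 := by
    rw [card_S12, Nat.card_eq_fintype_card, Fintype.card_embedding_eq, Fintype.card_fin,
      Fintype.card_coe, card_toSet]
    decide +kernel
  have hinj : Function.Injective f :=
    ((Nat.bijective_iff_surjective_and_card f).2 ⟨hsurj, hcard.symm⟩).1
  exact congrArg Subtype.val (@hinj ⟨g, hg⟩ ⟨h, hh⟩ (Function.Embedding.ext fun i => Subtype.ext (e i)))

theorem card_S11 : Nat.card S11 = 7920 := by
  have h0 : pt 0 ∈ toSet dodD := by decide +kernel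
  have horb : MulAction.orbit S12 (pt 0) = (toSet dodD : Set GolayPt) := by
    ext z
    constructor
    · rintro ⟨g, rfl⟩; exact S12_maps g.2 h0
    · intro hz
      obtain ⟨p, hp, e⟩ := (by decide +kernel : ∀ z ∈ toSet dodD,
        ∃ p ∈ trsG12.headD [], pfun p (pt 0) = z) z hz
      have hp' : p ∈ trsG12.flatten :=
        List.mem_flatten.2 ⟨_, (by decide +kernel : trsG12.headD [] ∈ trsG12), hp⟩
      have hok : okPerm p = true := by
        have h := List.all_eq_true.1 S12_check.2 p hp'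
        simp only [Bool.and_eq_true, inM24] at h; exact h.1.1
      refine ⟨⟨toPerm p, S12_trs p hp'⟩, ?_⟩
      change toPerm p (pt 0) = z
      rw [toPerm_apply hok]; exact e
  have h := MulAction.index_stabilizer S12 (pt 0)
  rw [horb, Set.ncard_coe_finset, card_toSet, show pc dodD = 12 by decide +kernel] at h
  have h2 := Subgroup.index_mul_card (MulAction.stabilizer S12 (pt 0))
  rw [h, card_S12] at h2
  have e : Nat.card S11 = Nat.card (MulAction.stabilizer S12 (pt 0)) :=
    Nat.card_congr ⟨fun g => ⟨⟨g.1, g.2.1⟩, g.2.2⟩, fun g => ⟨g.1.1, g.1.2, g.2⟩,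
      fun _ => rfl, fun _ => rfl⟩
  omega

theorem exists_vec {k : ℕ} {v : Fin k → GolayPt} (h : Function.Injective v) :
    ∃ x : Fin k ↪ GolayPt, ∀ i, x i = v i := ⟨⟨v, h⟩, fun _ => rfl⟩

theorem twoTrans_M24 : TwoTrans M24 (Finset.univ : Finset GolayPt) where
  maps _ _ _ _ := Finset.mem_univ _
  faithful g _ h := Equiv.ext fun x => h x (Finset.mem_univ _)
  trans x _ y _ x' _ y' _ hne hne' := by
    obtain ⟨a, ha⟩ := exists_vec (v := ![x, y]) (by
      intro i j; fin_cases i <;> fin_cases j <;> simp [hne, hne.symm])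
    obtain ⟨b, hb⟩ := exists_vec (v := ![x', y']) (by
      intro i j; fin_cases i <;> fin_cases j <;> simp [hne', hne'.symm])
    obtain ⟨g, hg, h⟩ := exists_map_tuple (k := 2) (by norm_num) a b
    refine ⟨g, hg, ?_, ?_⟩
    · simpa [ha, hb] using h 0
    · simpa [ha, hb] using h 1
  two := by decide

theorem twoTrans_M23 : TwoTrans (fixB 1) ((Finset.univ : Finset GolayPt).erase (bp 0)) where
  maps g hg x hx := by
    simp only [Finset.mem_erase, Finset.mem_univ, and_true, ne_eq] at hx ⊢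
    intro e
    exact hx (g.injective (e.trans (hg.2 0 (by norm_num)).symm))
  faithful g hg h := Equiv.ext fun x => by
    rcases eq_or_ne x (bp 0) with rfl | hx
    · exact hg.2 0 (by norm_num)
    · exact h x (Finset.mem_erase.2 ⟨hx, Finset.mem_univ _⟩)
  trans x hx y hy x' hx' y' hy' hne hne' := by
    simp only [Finset.mem_erase, Finset.mem_univ, and_true, ne_eq] at hx hy hx' hy'
    obtain ⟨a, ha⟩ := exists_vec (v := ![bp 0, x, y]) (by
      intro i j; fin_cases i <;> fin_cases j <;>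
        simp [hne, Ne.symm hne, hx, hy, Ne.symm hx, Ne.symm hy])
    obtain ⟨b, hb⟩ := exists_vec (v := ![bp 0, x', y']) (by
      intro i j; fin_cases i <;> fin_cases j <;>
        simp [hne', Ne.symm hne', hx', hy', Ne.symm hx', Ne.symm hy'])
    obtain ⟨g, hg, h⟩ := exists_map_tuple (k := 3) (by norm_num) a b
    refine ⟨g, ⟨hg, fun i hi => ?_⟩, ?_, ?_⟩
    · obtain rfl : i = 0 := by omega
      simpa [ha, hb] using h 0
    · simpa [ha, hb] using h 1
    · simpa [ha, hb] using h 2
  two := by rw [Finset.card_erase_of_mem (Finset.mem_univ _), Finset.card_univ]; decide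

theorem twoTrans_M22 :
    TwoTrans (fixB 2) (((Finset.univ : Finset GolayPt).erase (bp 0)).erase (bp 1)) where
  maps g hg x hx := by
    simp only [Finset.mem_erase, Finset.mem_univ, and_true, ne_eq] at hx ⊢
    exact ⟨fun e => hx.1 (g.injective (e.trans (hg.2 1 (by norm_num)).symm)),
      fun e => hx.2 (g.injective (e.trans (hg.2 0 (by norm_num)).symm))⟩
  faithful g hg h := Equiv.ext fun x => by
    rcases eq_or_ne x (bp 0) with rfl | hx
    · exact hg.2 0 (by norm_num)
    rcases eq_or_ne x (bp 1) with rfl | hx1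
    · exact hg.2 1 (by norm_num)
    · exact h x (Finset.mem_erase.2 ⟨hx1, Finset.mem_erase.2 ⟨hx, Finset.mem_univ _⟩⟩)
  trans x hx y hy x' hx' y' hy' hne hne' := by
    simp only [Finset.mem_erase, Finset.mem_univ, and_true, ne_eq] at hx hy hx' hy'
    have h01 : bp 0 ≠ bp 1 := fun e => by
      have := bp_inj 0 (by norm_num) 1 (by norm_num) e; omega
    obtain ⟨a, ha⟩ := exists_vec (v := ![bp 0, bp 1, x, y]) (by
      intro i j; fin_cases i <;> fin_cases j <;>
        simp [hne, Ne.symm hne, hx, hy, Ne.symm hx.1, Ne.symm hy.1, Ne.symm hx.2, Ne.symm hy.2,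
          h01, h01.symm])
    obtain ⟨b, hb⟩ := exists_vec (v := ![bp 0, bp 1, x', y']) (by
      intro i j; fin_cases i <;> fin_cases j <;>
        simp [hne', Ne.symm hne', hx', hy', Ne.symm hx'.1, Ne.symm hy'.1, Ne.symm hx'.2,
          Ne.symm hy'.2, h01, h01.symm])
    obtain ⟨g, hg, h⟩ := exists_map_tuple (k := 4) (by norm_num) a b
    refine ⟨g, ⟨hg, fun i hi => ?_⟩, ?_, ?_⟩
    · obtain rfl | rfl : i = 0 ∨ i = 1 := by omega
      · simpa [ha, hb] using h 0
      · simpa [ha, hb] using h 1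
    · simpa [ha, hb] using h 2
    · simpa [ha, hb] using h 3
  two := by decide +kernel

theorem exists_extend {s : Finset GolayPt} : ∀ {n k : ℕ} (v : Fin k → GolayPt),
    Function.Injective v → (∀ i, v i ∈ s) → k + n ≤ s.card →
      ∃ x : Fin (k + n) ↪ GolayPt, (∀ i, x i ∈ s) ∧ ∀ i : Fin k, x (Fin.castAdd n i) = v i := by
  intro n
  induction n with
  | zero => intro k v hv hs _; exact ⟨⟨v, hv⟩, hs, fun i => rfl⟩
  | succ n ih =>
    intro k v hv hs hk
    obtain ⟨x, hxs, hx⟩ := ih v hv hs (by omega)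
    obtain ⟨y, hy, hyn⟩ : ∃ y ∈ s, y ∉ Finset.univ.map x := by
      apply Finset.exists_mem_notMem_of_card_lt_card
      simp; omega
    refine ⟨⟨Fin.snoc x y, Fin.snoc_injective_iff.2 ⟨x.injective,
      fun ⟨i, e⟩ => hyn (Finset.mem_map.2 ⟨i, Finset.mem_univ _, e⟩)⟩⟩, ?_, fun i => ?_⟩
    · intro i
      show Fin.snoc (α := fun _ => GolayPt) x y i ∈ s
      induction i using Fin.lastCases with
      | last => simpa using hy
      | cast i => simpa using hxs i
    · show Fin.snoc (α := fun _ => GolayPt) x y (Fin.castAdd (n + 1) i) = v i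
      rw [← hx i, show Fin.castAdd (n + 1) i = (Fin.castAdd n i).castSucc from rfl,
        Fin.snoc_castSucc]

theorem twoTrans_S12 : TwoTrans S12 (toSet dodD) where
  maps g hg x hx := S12_maps hg hx
  faithful g hg h := by
    obtain ⟨a, ha, -⟩ := exists_extend (s := toSet dodD) (n := 5) (k := 0) ![]
      (fun i => i.elim0) (fun i => i.elim0) (by rw [card_toSet]; decide +kernel)
    exact S12_sharp a ha hg (one_mem _) fun i => by
      rw [h _ (ha i)]; rfl
  trans x hx y hy x' hx' y' hy' hne hne' := by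
    obtain ⟨a, ha, ha'⟩ := exists_extend (s := toSet dodD) (n := 3) ![x, y]
      (by intro i j; fin_cases i <;> fin_cases j <;> simp [hne, Ne.symm hne])
      (by intro i; fin_cases i <;> simp [hx, hy]) (by rw [card_toSet]; decide +kernel)
    obtain ⟨b, hb, hb'⟩ := exists_extend (s := toSet dodD) (n := 3) ![x', y']
      (by intro i j; fin_cases i <;> fin_cases j <;> simp [hne', Ne.symm hne'])
      (by intro i; fin_cases i <;> simp [hx', hy']) (by rw [card_toSet]; decide +kernel)
    obtain ⟨g, hg, h⟩ := S12_tuple a b ha hb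
    refine ⟨g, hg, ?_, ?_⟩
    · have := h (Fin.castAdd 3 (0 : Fin 2))
      rw [ha', hb'] at this; exact this
    · have := h (Fin.castAdd 3 (1 : Fin 2))
      rw [ha', hb'] at this; exact this
  two := by rw [card_toSet]; decide +kernel

theorem twoTrans_S11 : TwoTrans S11 ((toSet dodD).erase (pt 0)) where
  maps g hg x hx := by
    rw [Finset.mem_erase] at hx ⊢
    exact ⟨fun e => hx.1 (g.injective (e.trans (mem_stab_pt.1 hg.2).symm)), S12_maps hg.1 hx.2⟩
  faithful g hg h := twoTrans_S12.faithful g hg.1 fun x hx => by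
    rcases eq_or_ne x (pt 0) with rfl | hne
    · exact hg.2
    · exact h x (Finset.mem_erase.2 ⟨hne, hx⟩)
  trans x hx y hy x' hx' y' hy' hne hne' := by
    rw [Finset.mem_erase] at hx hy hx' hy'
    have h0 : pt 0 ∈ toSet dodD := by decide +kernel
    obtain ⟨a, ha, ha'⟩ := exists_extend (s := toSet dodD) (n := 2) ![pt 0, x, y]
      (by intro i j; fin_cases i <;> fin_cases j <;>
        simp [hne, Ne.symm hne, hx, hy, Ne.symm hx.1, Ne.symm hy.1])
      (by intro i; fin_cases i <;> simp [h0, hx, hy]) (by rw [card_toSet]; decide +kernel)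
    obtain ⟨b, hb, hb'⟩ := exists_extend (s := toSet dodD) (n := 2) ![pt 0, x', y']
      (by intro i j; fin_cases i <;> fin_cases j <;>
        simp [hne', Ne.symm hne', hx', hy', Ne.symm hx'.1, Ne.symm hy'.1])
      (by intro i; fin_cases i <;> simp [h0, hx', hy']) (by rw [card_toSet]; decide +kernel)
    obtain ⟨g, hg, h⟩ := S12_tuple a b ha hb
    refine ⟨g, ⟨hg, ?_⟩, ?_, ?_⟩
    · have := h (Fin.castAdd 2 (0 : Fin 3))
      rw [ha', hb'] at this; exact this
    · have := h (Fin.castAdd 2 (1 : Fin 3))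
      rw [ha', hb'] at this; exact this
    · have := h (Fin.castAdd 2 (2 : Fin 3))
      rw [ha', hb'] at this; exact this
  two := by decide +kernel

theorem gen_checks :
    slpPosOk genG23 slpG23 587 posG23 trsG23 = true ∧ chkLv baseG23 trsG23 = true ∧
    slpPosOk genG22 slpG22 429 posG22 trsG22 = true ∧ chkLv baseG22 trsG22 = true ∧
    slpPosOk genG11 slpG11 207 posG11 trsG11 = true ∧ chkLv baseG11 trsG11 = true := by
  refine ⟨?_, ?_, ?_, ?_, ?_, ?_⟩ <;> decide +kernel

theorem gen_props :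
    genG23.all (fun p => inM24 p && (img p 23 == 23)) = true ∧
    genG22.all (fun p => inM24 p && (img p 23 == 23) && (img p 0 == 0)) = true ∧
    genG11.all (fun p => inM24 p && (pmask p dodD == dodD) && (img p 0 == 0)) = true := by
  refine ⟨?_, ?_, ?_⟩ <;> decide +kernel

/-- the n-th iterate of a packed permutation -/
def powP (p : ℕ) : ℕ → ℕ
  | 0 => idp
  | n + 1 => comp p (powP p n)

theorem powP_spec {p : ℕ} (h : okPerm p = true) : ∀ n,
    okPerm (powP p n) = true ∧ toPerm (powP p n) = toPerm p ^ n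
  | 0 => ⟨by simp only [powP]; decide +kernel, by rw [powP, toPerm_idp, pow_zero]⟩
  | n + 1 => by
    obtain ⟨h1, h2⟩ := powP_spec h n
    exact ⟨okPerm_comp h h1, by
      rw [powP, comp_spec h h1 (okPerm_comp h h1), h2, pow_succ']⟩

theorem gen_orders : genG23.all (fun p => okPerm p && (powP p 23 == idp)) = true ∧
    genG22.all (fun p => okPerm p && (powP p 11 == idp)) = true ∧
    genG11.all (fun p => okPerm p && (powP p 11 == idp)) = true := by
  refine ⟨?_, ?_, ?_⟩ <;> decide +kernel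

theorem pow_eq_one_of {gs : List ℕ} {n : ℕ}
    (h : gs.all (fun p => okPerm p && (powP p n == idp)) = true) :
    ∀ x ∈ {x | ∃ g ∈ gs, toPerm g = x}, x ^ n = 1 := by
  rintro _ ⟨g, hg, rfl⟩
  have := List.all_eq_true.1 h g hg
  simp only [Bool.and_eq_true, beq_iff_eq] at this
  rw [← (powP_spec this.1 n).2, this.2, toPerm_idp]

theorem mem_stab_img {p i : ℕ} (hi : i < 24) (hok : okPerm p = true) (h : img p i = i) :
    toPerm p (pt i) = pt i := by rw [toPerm_apply hok, idx_pt hi, h]

theorem bp_zero : bp 0 = pt 23 := rfl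

theorem bp_one : bp 1 = pt 0 := rfl

theorem gens_S23 : Subgroup.closure {x | ∃ g ∈ genG23, toPerm g = x} = fixB 1 := by
  refine closure_eq gen_checks.1 gen_checks.2.1 (fun g hg => ?_) ?_
  · have h := List.all_eq_true.1 gen_props.1 g hg
    simp only [Bool.and_eq_true, beq_iff_eq] at h
    have hok : okPerm g = true := by
      have := h.1; simp only [inM24, Bool.and_eq_true] at this; exact this.1
    refine ⟨toPerm_mem_M24 h.1, fun i hi => ?_⟩
    obtain rfl : i = 0 := by omega
    exact mem_stab_img (i := 23) (by norm_num) hok h.2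
  · rw [card_fixB_two.1]; decide +kernel

theorem gens_S22 : Subgroup.closure {x | ∃ g ∈ genG22, toPerm g = x} = fixB 2 := by
  refine closure_eq gen_checks.2.2.1 gen_checks.2.2.2.1 (fun g hg => ?_) ?_
  · have h := List.all_eq_true.1 gen_props.2.1 g hg
    simp only [Bool.and_eq_true, beq_iff_eq] at h
    have hok : okPerm g = true := by
      have := h.1.1; simp only [inM24, Bool.and_eq_true] at this; exact this.1
    refine ⟨toPerm_mem_M24 h.1.1, fun i hi => ?_⟩
    obtain rfl | rfl : i = 0 ∨ i = 1 := by omega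
    · exact mem_stab_img (i := 23) (by norm_num) hok h.1.2
    · exact mem_stab_img (i := 0) (by norm_num) hok h.2
  · rw [card_fixB_two.2.1]; decide +kernel

theorem gens_S11 : Subgroup.closure {x | ∃ g ∈ genG11, toPerm g = x} = S11 := by
  refine closure_eq gen_checks.2.2.2.2.1 gen_checks.2.2.2.2.2 (fun g hg => ?_) ?_
  · have h := List.all_eq_true.1 gen_props.2.2 g hg
    simp only [Bool.and_eq_true, beq_iff_eq] at h
    have hok : okPerm g = true := by
      have := h.1.1; simp only [inM24, Bool.and_eq_true] at this; exact this.1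
    exact ⟨⟨toPerm_mem_M24 h.1.1, MulAction.mem_stabilizer_iff.2 (by rw [smul_toSet hok, h.1.2])⟩,
      mem_stab_img (by norm_num) hok h.2⟩
  · rw [card_S11]; decide +kernel

theorem simple_S23 : IsSimpleGroup (fixB 1) := by
  refine simple_prime_gen twoTrans_M23 (q := 23) (by norm_num) ?_ ?_ ?_ gens_S23
    (pow_eq_one_of gen_orders.1)
  · rw [Finset.card_erase_of_mem (Finset.mem_univ _), Finset.card_univ]; decide
  · rw [card_fixB_two.1]; norm_num
  · rw [card_fixB_two.1]; norm_num

theorem simple_S22 : IsSimpleGroup (fixB 2) := by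
  refine simple_prime_gen twoTrans_M22 (q := 11) (by norm_num) ?_ ?_ ?_ gens_S22
    (pow_eq_one_of gen_orders.2.1)
  · decide +kernel
  · rw [card_fixB_two.2.1]; norm_num
  · rw [card_fixB_two.2.1]; norm_num

theorem simple_S11 : IsSimpleGroup S11 := by
  refine simple_prime_gen twoTrans_S11 (q := 11) (by norm_num) ?_ ?_ ?_ gens_S11
    (pow_eq_one_of gen_orders.2.2)
  · decide +kernel
  · rw [card_S11]; norm_num
  · rw [card_S11]; norm_num

theorem simple_M24 : IsSimpleGroup M24 := by
  let e : ↥(fixB 1) ≃* ↥(MulAction.stabilizer M24 (bp 0)) :=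
    { toFun := fun g => ⟨⟨g.1, g.2.1⟩, g.2.2 0 (by norm_num)⟩
      invFun := fun g => ⟨g.1.1, g.1.2, fun i hi => by obtain rfl : i = 0 := by omega
                                                       exact g.2⟩
      left_inv := fun _ => rfl
      right_inv := fun _ => rfl
      map_mul' := fun _ _ => rfl }
  exact simple_of_stab twoTrans_M24 (Finset.mem_univ (bp 0))
    (e.isSimpleGroup_congr.1 simple_S23) Nat.prime_two Nat.prime_three (by norm_num)
    (by decide) (by decide)

theorem simple_S12 : IsSimpleGroup S12 := by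
  let e : ↥S11 ≃* ↥(MulAction.stabilizer S12 (pt 0)) :=
    { toFun := fun g => ⟨⟨g.1, g.2.1⟩, g.2.2⟩
      invFun := fun g => ⟨g.1.1, g.1.2, g.2⟩
      left_inv := fun _ => rfl
      right_inv := fun _ => rfl
      map_mul' := fun _ _ => rfl }
  exact simple_of_stab twoTrans_S12 (show pt 0 ∈ toSet dodD by decide +kernel)
    (e.isSimpleGroup_congr.1 simple_S11) Nat.prime_two Nat.prime_three (by norm_num)
    (by rw [card_toSet]; decide +kernel) (by rw [card_toSet]; decide +kernel)

/-- conjugation between a subgroup of `M24` and a subgroup of `Perm` -/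
def conjEquiv {H : Subgroup M24} {K : Subgroup (Equiv.Perm GolayPt)} {a : Equiv.Perm GolayPt}
    (ha : a ∈ M24) (hK : K ≤ M24) (h : ∀ g : M24, g ∈ H ↔ a⁻¹ * (g : Equiv.Perm GolayPt) * a ∈ K) :
    ↥H ≃* ↥K where
  toFun g := ⟨_, (h g.1).1 g.2⟩
  invFun k := ⟨⟨a * k.1 * a⁻¹, mul_mem (mul_mem ha (hK k.2)) (inv_mem ha)⟩,
    (h _).2 (by simp [mul_assoc])⟩
  left_inv g := by ext1; ext1; simp [mul_assoc]
  right_inv k := by ext1; simp [mul_assoc]
  map_mul' g g' := by ext1; simp [mul_assoc]

theorem fixB_le (k : ℕ) : fixB k ≤ M24 := fun _ h => h.1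

theorem S12_le : S12 ≤ M24 := inf_le_left

theorem S11_le : S11 ≤ M24 := inf_le_left.trans inf_le_left

theorem exists_point (p : GolayPt) : ∃ a ∈ M24, a (bp 0) = p := by
  obtain ⟨g, hg, h⟩ := exists_map_tuple (k := 1) (by norm_num)
    ⟨![bp 0], fun i j _ => Subsingleton.elim i j⟩ ⟨![p], fun i j _ => Subsingleton.elim i j⟩
  exact ⟨g, hg, h 0⟩

theorem conj_fix {a g : Equiv.Perm GolayPt} {x : GolayPt} :
    (a⁻¹ * g * a) x = x ↔ g (a x) = a x := by
  rw [Equiv.Perm.mul_apply, Equiv.Perm.mul_apply, Equiv.Perm.inv_eq_iff_eq]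

theorem conj_smul {a g : Equiv.Perm GolayPt} {s : Finset GolayPt} :
    (a⁻¹ * g * a) • s = s ↔ g • a • s = a • s := by
  rw [mul_smul, mul_smul, inv_smul_eq_iff]

theorem equiv_stab_pt (p : GolayPt) : Nonempty (↥(MulAction.stabilizer M24 p) ≃* ↥(fixB 1)) := by
  obtain ⟨a, ha, e⟩ := exists_point p
  refine ⟨conjEquiv ha (fixB_le 1) fun g => ?_⟩
  rw [MulAction.mem_stabilizer_iff, mem_fixB]
  constructor
  · intro h
    refine ⟨mul_mem (mul_mem (inv_mem ha) g.2) ha, fun i hi => ?_⟩
    obtain rfl : i = 0 := by omega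
    rw [conj_fix, e]; exact h
  · intro h
    have := conj_fix.1 (h.2 0 (by norm_num))
    rw [e] at this; exact this

theorem equiv_stab_two (p q : GolayPt) (hpq : p ≠ q) :
    Nonempty (↥(MulAction.stabilizer M24 p ⊓ MulAction.stabilizer M24 q) ≃* ↥(fixB 2)) := by
  obtain ⟨a, ha, h⟩ := exists_map_tuple (k := 2) (by norm_num)
    ⟨![bp 0, bp 1], by decide +kernel⟩ ⟨![p, q], by
      intro i j; fin_cases i <;> fin_cases j <;> simp [hpq, Ne.symm hpq]⟩
  have e0 : a (bp 0) = p := h 0
  have e1 : a (bp 1) = q := h 1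
  refine ⟨conjEquiv ha (fixB_le 2) fun g => ?_⟩
  rw [Subgroup.mem_inf, MulAction.mem_stabilizer_iff, MulAction.mem_stabilizer_iff, mem_fixB]
  constructor
  · intro h'
    refine ⟨mul_mem (mul_mem (inv_mem ha) g.2) ha, fun i hi => ?_⟩
    obtain rfl | rfl : i = 0 ∨ i = 1 := by omega
    · rw [conj_fix, e0]; exact h'.1
    · rw [conj_fix, e1]; exact h'.2
  · intro h'
    have a0 := conj_fix.1 (h'.2 0 (by norm_num))
    have a1 := conj_fix.1 (h'.2 1 (by norm_num))
    rw [e0] at a0; rw [e1] at a1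
    exact ⟨a0, a1⟩

theorem equiv_stab_dod {d : Finset GolayPt} (hd : d ∈ dodecads) :
    Nonempty (↥(MulAction.stabilizer M24 d) ≃* ↥S12) := by
  obtain ⟨a, ha, e⟩ := exists_dodD hd
  refine ⟨conjEquiv ha S12_le fun g => ?_⟩
  constructor
  · intro h
    refine Subgroup.mem_inf.2 ⟨mul_mem (mul_mem (inv_mem ha) g.2) ha, conj_smul.2 ?_⟩
    rw [e]; exact h
  · intro h
    have := conj_smul.1 h.2
    rw [e] at this; exact this

theorem exists_dod_pt {d : Finset GolayPt} (hd : d ∈ dodecads) {p : GolayPt} (hp : p ∈ d) :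
    ∃ a ∈ M24, a • toSet dodD = d ∧ a (pt 0) = p := by
  obtain ⟨a, ha, e⟩ := exists_dodD hd
  have h1 : a⁻¹ p ∈ toSet dodD := by
    subst e
    have := Finset.smul_mem_smul_finset (a := a⁻¹) hp
    rwa [inv_smul_smul, Equiv.Perm.smul_def] at this
  obtain ⟨b, hb, hb'⟩ := twoTrans_S12.one (show pt 0 ∈ toSet dodD by decide +kernel) h1
  refine ⟨a * b, mul_mem ha hb.1, ?_, ?_⟩
  · rw [mul_smul, MulAction.mem_stabilizer_iff.1 hb.2, e]
  · rw [Equiv.Perm.mul_apply, hb']; simp

theorem equiv_stab_dod_pt {d : Finset GolayPt} (hd : d ∈ dodecads) {p : GolayPt} (hp : p ∈ d) :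
    Nonempty (↥(MulAction.stabilizer M24 d ⊓ MulAction.stabilizer M24 p) ≃* ↥S11) := by
  obtain ⟨a, ha, e, e0⟩ := exists_dod_pt hd hp
  refine ⟨conjEquiv ha S11_le fun g => ?_⟩
  constructor
  · intro h
    refine Subgroup.mem_inf.2 ⟨Subgroup.mem_inf.2 ⟨mul_mem (mul_mem (inv_mem ha) g.2) ha, conj_smul.2 ?_⟩, conj_fix.2 ?_⟩
    · rw [e]; exact h.1
    · rw [e0]; exact h.2
  · intro h
    have h1 := conj_smul.1 h.1.2
    have h2 := conj_fix.1 h.2
    rw [e] at h1; rw [e0] at h2
    exact ⟨h1, h2⟩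

end CfsgLib.Golay
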