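import Cfsg.Agent.Lib.Golay.Octads

/-! Permutations of the 24 points packed into one natural number (5 bits per image). -/
set_option autoImplicit false
set_option linter.deprecated false

namespace CfsgLib.Golay

open Cfsg
open scoped Pointwise

/-- image of position `i` under the packed permutation `p` -/
def img (p i : ℕ) : ℕ := (p >>> (5 * i)) &&& 31

/-- image mask of a mask, scanning from position `i` -/
def pmGo : ℕ → ℕ → ℕ → ℕ
  | 0, _, _ => 0
  | k + 1, p, m => (if m % 2 = 1 then 2 ^ (p % 32) else 0) ||| pmGo k (p / 32) (m / 2)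

/-- image of a mask -/
def pmask (p m : ℕ) : ℕ :=
  (Nat.lor (Nat.shiftLeft (Nat.land (Nat.shiftRight m 0) 1) (Nat.land (Nat.shiftRight p 0) 31)) (Nat.lor (Nat.shiftLeft (Nat.land (Nat.shiftRight m 1) 1) (Nat.land (Nat.shiftRight p 5) 31)) (Nat.lor (Nat.shiftLeft (Nat.land (Nat.shiftRight m 2) 1) (Nat.land (Nat.shiftRight p 10) 31)) (Nat.lor (Nat.shiftLeft (Nat.land (Nat.shiftRight m 3) 1) (Nat.land (Nat.shiftRight p 15) 31)) (Nat.lor (Nat.shiftLeft (Nat.land (Nat.shiftRight m 4) 1) (Nat.land (Nat.shiftRight p 20) 31)) (Nat.lor (Nat.shiftLeft (Nat.land (Nat.shiftRight m 5) 1) (Nat.land (Nat.shiftRight p 25) 31)) (Nat.lor (Nat.shiftLeft (Nat.land (Nat.shiftRight m 6) 1) (Nat.land (Nat.shiftRight p 30) 31)) (Nat.lor (Nat.shiftLeft (Nat.land (Nat.shiftRight m 7) 1) (Nat.land (Nat.shiftRight p 35) 31)) (Nat.lor (Nat.shiftLeft (Nat.land (Nat.shiftRight m 8) 1) (Nat.land (Nat.shiftRight p 40) 31)) (Nat.lor (Nat.shiftLeft (Nat.land (Nat.shiftRight m 9) 1) (Nat.land (Nat.shiftRight p 45) 31)) (Nat.lor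 (Nat.shiftLeft (Nat.land (Nat.shiftRight m 10) 1) (Nat.land (Nat.shiftRight p 50) 31)) (Nat.lor (Nat.shiftLeft (Nat.land (Nat.shiftRight m 11) 1) (Nat.land (Nat.shiftRight p 55) 31)) (Nat.lor (Nat.shiftLeft (Nat.land (Nat.shiftRight m 12) 1) (Nat.land (Nat.shiftRight p 60) 31)) (Nat.lor (Nat.shiftLeft (Nat.land (Nat.shiftRight m 13) 1) (Nat.land (Nat.shiftRight p 65) 31)) (Nat.lor (Nat.shiftLeft (Nat.land (Nat.shiftRight m 14) 1) (Nat.land (Nat.shiftRight p 70) 31)) (Nat.lor (Nat.shiftLeft (Nat.land (Nat.shiftRight m 15) 1) (Nat.land (Nat.shiftRight p 75) 31)) (Nat.lor (Nat.shiftLeft (Nat.land (Nat.shiftRight m 16) 1) (Nat.land (Nat.shiftRight p 80) 31)) (Nat.lor (Nat.shiftLeft (Nat.land (Nat.shiftRight m 17) 1) (Nat.land (Nat.shiftRight p 85) 31)) (Nat.lor (Nat.shiftLeft (Nat.land (Nat.shiftRight m 18) 1) (Nat.land (Nat.shiftRight p 90) 31)) (Nat.lor (Nat.shiftLeft (Nat.land (Nat.shiftRight m 19) 1) (Nat.land (Nat.shiftRight p 95) 31)) (Nat.lor (Nat.shiftLeft (Nat.land (Nat.shiftRight m 20)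 1) (Nat.land (Nat.shiftRight p 100) 31)) (Nat.lor (Nat.shiftLeft (Nat.land (Nat.shiftRight m 21) 1) (Nat.land (Nat.shiftRight p 105) 31)) (Nat.lor (Nat.shiftLeft (Nat.land (Nat.shiftRight m 22) 1) (Nat.land (Nat.shiftRight p 110) 31)) (Nat.lor (Nat.shiftLeft (Nat.land (Nat.shiftRight m 23) 1) (Nat.land (Nat.shiftRight p 115) 31)) 0))))))))))))))))))))))))

theorem pmGo_succ (k i p m : ℕ) :
    pmGo (k + 1) (Nat.shiftRight p (5 * i)) (Nat.shiftRight m i) =
      Nat.lor (Nat.shiftLeft (Nat.land (Nat.shiftRight m i) 1)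
        (Nat.land (Nat.shiftRight p (5 * i)) 31))
        (pmGo k (Nat.shiftRight p (5 * (i + 1))) (Nat.shiftRight m (i + 1))) := by
  rw [pmGo]
  have h1 : Nat.shiftRight p (5 * i) / 32 = Nat.shiftRight p (5 * (i + 1)) := by
    change (p >>> (5 * i)) / 32 = p >>> (5 * (i + 1))
    rw [Nat.mul_succ, Nat.shiftRight_add, Nat.shiftRight_eq_div_pow (p >>> (5 * i))]
  have h2 : Nat.shiftRight m i / 2 = Nat.shiftRight m (i + 1) := rfl
  have h3 : (if Nat.shiftRight m i % 2 = 1 then 2 ^ (Nat.shiftRight p (5 * i) % 32) else 0) =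
      Nat.shiftLeft (Nat.land (Nat.shiftRight m i) 1) (Nat.land (Nat.shiftRight p (5 * i)) 31) := by
    change _ = ((m >>> i) &&& 1) <<< ((p >>> (5 * i)) &&& 31)
    rw [Nat.shiftLeft_eq, Nat.and_one_is_mod,
      show (p >>> (5 * i)) &&& 31 = (p >>> (5 * i)) % 32 from Nat.and_two_pow_sub_one_eq_mod _ 5]
    rcases Nat.mod_two_eq_zero_or_one (m >>> i) with h | h
    · rw [h, if_neg]
      · simp
      · change ¬ (m >>> i) % 2 = 1
        omega
    · rw [h, if_pos, one_mul]
      · rfl
      · exact h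
  rw [h1, h2, h3]
  rfl

theorem pmask_eq (p m : ℕ) : pmask p m = pmGo 24 p m := by
  conv_rhs => rw [show p = Nat.shiftRight p (5 * 0) from rfl, show m = Nat.shiftRight m 0 from rfl]
  iterate 24 rw [pmGo_succ]
  rfl

/-- the packed code is a permutation of the 24 positions -/
def okPerm (p : ℕ) : Bool := pmask p 16777215 == 16777215

/-- the function on points -/
def pfun (p : ℕ) (x : GolayPt) : GolayPt := pt (img p (idx x))

/-- the permutation with packed code `p` (identity if the code is invalid) -/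
noncomputable def toPerm (p : ℕ) : Equiv.Perm GolayPt :=
  haveI := Classical.propDecidable (Function.Bijective (pfun p))
  if h : Function.Bijective (pfun p) then Equiv.ofBijective (pfun p) h else 1

theorem testBit_pmGo : ∀ (k p m j : ℕ), (pmGo k p m).testBit j = true ↔
    ∃ i < k, m.testBit i = true ∧ img p i = j
  | 0, p, m, j => by simp [pmGo]
  | k + 1, p, m, j => by
    have himg : ∀ i, img p (i + 1) = img (p / 32) i := by
      intro i
      simp only [img, Nat.shiftRight_eq_div_pow]
      rw [show 5 * (i + 1) = 5 + 5 * i by ring, pow_add, Nat.div_div_eq_div_mul]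
      norm_num
    have h0 : img p 0 = p % 32 := by
      simp only [img, Nat.mul_zero, Nat.shiftRight_zero]
      exact Nat.and_two_pow_sub_one_eq_mod p 5
    simp only [pmGo, Nat.testBit_or, Bool.or_eq_true, testBit_pmGo k]
    constructor
    · rintro (h | ⟨i, hi, h1, h2⟩)
      · split_ifs at h with hm
        · refine ⟨0, by omega, by simp [Nat.testBit_zero, hm], ?_⟩
          rw [h0]
          simpa [Nat.testBit_two_pow] using h
        · simp at h
      · exact ⟨i + 1, by omega, by rwa [Nat.testBit_succ], by rw [himg]; exact h2⟩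
    · rintro ⟨i, hi, h1, h2⟩
      cases i with
      | zero =>
        left
        rw [Nat.testBit_zero, decide_eq_true_eq] at h1
        rw [if_pos h1, ← h2, h0]
        exact Nat.testBit_two_pow_self
      | succ i =>
        right
        exact ⟨i, by omega, by rwa [Nat.testBit_succ] at h1, by rw [← himg]; exact h2⟩

theorem testBit_full {j : ℕ} : (16777215 : ℕ).testBit j = decide (j < 24) := by
  rw [show (16777215 : ℕ) = 2 ^ 24 - 1 by norm_num, Nat.testBit_two_pow_sub_one]

theorem img_lt {p i : ℕ} (h : okPerm p = true) (hi : i < 24) : img p i < 24 := by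
  simp only [okPerm, pmask_eq, beq_iff_eq] at h
  have h1 := (testBit_pmGo 24 p 16777215 (img p i)).2 ⟨i, hi, by simp [testBit_full, hi], rfl⟩
  rw [h, testBit_full, decide_eq_true_eq] at h1
  exact h1

theorem pfun_bijective {p : ℕ} (h : okPerm p = true) : Function.Bijective (pfun p) := by
  apply Finite.surjective_iff_bijective.1
  intro y
  have h' : pmGo 24 p 16777215 = 16777215 := by simpa [okPerm, pmask_eq] using h
  have h1 : (pmGo 24 p 16777215).testBit (idx y) = true := by
    rw [h', testBit_full]; simp [idx_lt y]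
  obtain ⟨i, hi, -, h2⟩ := (testBit_pmGo _ _ _ _).1 h1
  exact ⟨pt i, by rw [pfun, idx_pt hi, h2, pt_idx]⟩

theorem toPerm_apply {p : ℕ} (h : okPerm p = true) (x : GolayPt) :
    toPerm p x = pt (img p (idx x)) := by
  rw [toPerm, dif_pos (pfun_bijective h)]; rfl

theorem idx_toPerm {p : ℕ} (h : okPerm p = true) (x : GolayPt) :
    idx (toPerm p x) = img p (idx x) := by
  rw [toPerm_apply h, idx_pt (img_lt h (idx_lt x))]

theorem smul_toSet {p : ℕ} (h : okPerm p = true) (m : ℕ) :
    toPerm p • toSet m = toSet (pmask p m) := by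
  ext y
  simp only [Finset.smul_finset_def, Finset.mem_image, mem_toSet, Equiv.Perm.smul_def, pmask_eq,
    testBit_pmGo]
  constructor
  · rintro ⟨x, hx, rfl⟩
    exact ⟨idx x, idx_lt x, hx, (idx_toPerm h x).symm⟩
  · rintro ⟨i, hi, h1, h2⟩
    exact ⟨pt i, by rwa [idx_pt hi], by rw [toPerm_apply h, idx_pt hi, h2, pt_idx]⟩

/-- packing of a list of images -/
def packL : List ℕ → ℕ
  | [] => 0
  | a :: l => a + 32 * packL l

/-- composition `a * b` (apply `b` first) -/
def comp (a b : ℕ) : ℕ := go 24 b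
where
  /-- loop of `comp` -/
  go : ℕ → ℕ → ℕ
    | 0, _ => 0
    | k + 1, b => img a (b % 32) + 32 * go k (b / 32)

theorem img_comp_go (a : ℕ) : ∀ (k b i : ℕ), i < k →
    img (comp.go a k b) i = img a (img b i)
  | 0, b, i, h => by omega
  | k + 1, b, i, h => by
    have hlt : img a (b % 32) < 32 := Nat.lt_succ_of_le Nat.and_le_right
    cases i with
    | zero =>
      have e0 : ∀ x, img x 0 = x % 32 := fun x => by
        simp only [img, Nat.mul_zero, Nat.shiftRight_zero]
        exact Nat.and_two_pow_sub_one_eq_mod x 5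
      rw [comp.go, e0, e0 b, Nat.add_mul_mod_self_left, Nat.mod_eq_of_lt hlt]
    | succ i =>
      have e : ∀ x, img x (i + 1) = img (x / 32) i := by
        intro x
        simp only [img, Nat.shiftRight_eq_div_pow]
        rw [show 5 * (i + 1) = 5 + 5 * i by ring, pow_add, Nat.div_div_eq_div_mul]
        norm_num
      rw [comp.go, e, e b, show (img a (b % 32) + 32 * comp.go a k (b / 32)) / 32
          = comp.go a k (b / 32) by omega]
      exact img_comp_go a k _ i (by omega)

theorem comp_spec {a b : ℕ} (ha : okPerm a = true) (hb : okPerm b = true)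
    (hc : okPerm (comp a b) = true) : toPerm (comp a b) = toPerm a * toPerm b := by
  ext x
  rw [Equiv.Perm.mul_apply, toPerm_apply hc, toPerm_apply ha, idx_toPerm hb]
  rw [show img (comp a b) (idx x) = img a (img b (idx x)) from img_comp_go a 24 b _ (idx_lt x)]

theorem okPerm_comp {a b : ℕ} (ha : okPerm a = true) (hb : okPerm b = true) :
    okPerm (comp a b) = true := by
  have e : ∀ i < 24, img (comp a b) i = img a (img b i) := fun i hi => img_comp_go a 24 b i hi
  simp only [okPerm, pmask_eq, beq_iff_eq]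
  apply Nat.eq_of_testBit_eq
  intro j
  rw [Bool.eq_iff_iff, testBit_pmGo, testBit_full, decide_eq_true_eq]
  constructor
  · rintro ⟨i, hi, -, rfl⟩
    rw [e i hi]; exact img_lt ha (img_lt hb hi)
  · intro hj
    obtain ⟨y, hy⟩ := (pfun_bijective ha).2 (pt j)
    obtain ⟨x, hx⟩ := (pfun_bijective hb).2 y
    refine ⟨idx x, idx_lt x, by simp [testBit_full, idx_lt x], ?_⟩
    rw [e _ (idx_lt x)]
    have h1 : idx y = img b (idx x) := by rw [← hx, pfun, idx_pt (img_lt hb (idx_lt x))]
    rw [← h1]
    have h2 := congrArg idx hy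
    rwa [pfun, idx_pt (img_lt ha (idx_lt y)), idx_pt hj] at h2

/-- the packed code agrees with a given function -/
theorem toPerm_eq_of_forall {p : ℕ} (h : okPerm p = true) {g : Equiv.Perm GolayPt}
    (hg : ∀ x, pt (img p (idx x)) = g x) : toPerm p = g :=
  Equiv.ext fun x => by rw [toPerm_apply h]; exact hg x

/-- test for membership in `M24` -/
def inM24 (p : ℕ) : Bool := okPerm p && gens.all (fun g => inCode (pmask p g))

theorem smul_symmDiff' (g : Equiv.Perm GolayPt) (s t : Finset GolayPt) :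
    g • symmDiff s t = symmDiff (g • s) (g • t) := by
  simp only [Finset.smul_finset_def]
  exact Finset.image_symmDiff s t (MulAction.injective g)

theorem inCode_pmask_spanList {p : ℕ} (h : okPerm p = true) :
    ∀ (l : List ℕ), (∀ g ∈ l, inCode (pmask p g) = true) → ∀ m ∈ spanList l,
      inCode (toMask (toPerm p • toSet m)) = true
  | [], _, m, hm => by
    simp only [spanList, List.mem_singleton] at hm
    subst hm
    rw [toSet_zero, Finset.smul_finset_empty]; decide
  | g :: l, hl, m, hm => by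
    simp only [spanList, List.mem_flatMap, List.mem_cons, List.not_mem_nil, or_false] at hm
    have ih := inCode_pmask_spanList h l fun x hx => hl x (List.mem_cons_of_mem _ hx)
    obtain ⟨x, hx, rfl | rfl⟩ := hm
    · exact ih _ hx
    · rw [toSet_xor, smul_symmDiff', toMask_symmDiff]
      refine inCode_xor ?_ (ih x hx)
      rw [smul_toSet h, toMask_toSet (lt_of_inCode (hl g List.mem_cons_self))]
      exact hl g List.mem_cons_self

theorem toPerm_mem_M24 {p : ℕ} (h : inM24 p = true) : toPerm p ∈ M24 := by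
  simp only [inM24, Bool.and_eq_true, List.all_eq_true] at h
  have hsub : toPerm p • supports (golayCode : Set (GolayPt → ZMod 2)) ⊆
      supports (golayCode : Set (GolayPt → ZMod 2)) := by
    rintro _ ⟨s, hs, rfl⟩
    rw [mem_supports_iff] at hs ⊢
    have := inCode_pmask_spanList h.1 gens h.2 _ (mem_codeList.2 hs)
    rwa [toSet_toMask] at this
  exact Set.eq_of_subset_of_ncard_le hsub
    (by rw [Set.ncard_smul_set]) (Set.toFinite _)

theorem smul_supports_mem {g : Equiv.Perm GolayPt} (hg : g ∈ M24) {s : Finset GolayPt}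
    (hs : s ∈ supports (golayCode : Set (GolayPt → ZMod 2))) :
    g • s ∈ supports (golayCode : Set (GolayPt → ZMod 2)) := by
  rw [← (MulAction.mem_stabilizer_iff.1 hg)]
  exact Set.smul_mem_smul_set hs

theorem smul_wordsOfWeight_mem {g : Equiv.Perm GolayPt} (hg : g ∈ M24) {s : Finset GolayPt}
    {n : ℕ} (hs : s ∈ wordsOfWeight (golayCode : Set (GolayPt → ZMod 2)) n) :
    g • s ∈ wordsOfWeight (golayCode : Set (GolayPt → ZMod 2)) n :=
  ⟨smul_supports_mem hg hs.1, by rw [Finset.card_smul_finset]; exact hs.2⟩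

theorem smul_octad {g : Equiv.Perm GolayPt} (hg : g ∈ M24) {s : Finset GolayPt}
    (hs : s ∈ octads) : g • s ∈ octads := smul_wordsOfWeight_mem hg hs

theorem smul_dodecad {g : Equiv.Perm GolayPt} (hg : g ∈ M24) {s : Finset GolayPt}
    (hs : s ∈ dodecads) : g • s ∈ dodecads := smul_wordsOfWeight_mem hg hs

end CfsgLib.Golay
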