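import Cfsg.Agent.Lib.Golay.Chain
import Cfsg.Agent.Lib.Fusion.Certificate

/-! Certificates for the 2-fusion systems of Mathieu groups. -/

set_option autoImplicit false

namespace CfsgLib.Golay.TwoFusion

open Cfsg CfsgLib.Golay
open scoped Pointwise

/-- Binary search trees of packed permutations. -/
inductive Tr where
  | leaf : Tr
  | node : Tr → ℕ → Tr → Tr

/-- Lookup. -/
def Tr.has : Tr → ℕ → Bool
  | .leaf, _ => false
  | .node l v r, x => if x == v then true else if x < v then l.has x else r.has x

/-- Elements of a tree. -/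
def Tr.toList : Tr → List ℕ
  | .leaf => []
  | .node l v r => v :: (l.toList ++ r.toList)

theorem Tr.has_mem : ∀ {t : Tr} {x : ℕ}, t.has x = true → x ∈ t.toList
  | .leaf, x, h => by simp [Tr.has] at h
  | .node l v r, x, h => by
    simp only [Tr.has] at h
    split_ifs at h with h1 h2
    · simp [Tr.toList, eq_of_beq h1]
    · simp [Tr.toList, l.has_mem h]
    · simp [Tr.toList, r.has_mem h]

/-- Product of listed elements along a word of indices. -/
def word (L : List ℕ) (w : List ℕ) : ℕ := (w.map fun i => L.getD i idp).foldr comp idp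

/-- Repeated squaring. -/
def sqs : ℕ → ℕ → ℕ
  | 0, p => p
  | n + 1, p => sqs n (comp p p)

/-- Conjugation test `g x = y g`. -/
def conjB (g x y : ℕ) : Bool := (List.range 24).all fun i => img g (img x i) == img y (img g i)

theorem okPerm_idp : okPerm idp = true := by decide +kernel

theorem foldr_spec {L : List ℕ} {H : Subgroup (Equiv.Perm GolayPt)} {d : ℕ}
    (hd : okPerm d = true ∧ toPerm d ∈ H) (hL : ∀ p ∈ L, okPerm p = true ∧ toPerm p ∈ H) :
    ∀ w : List ℕ, okPerm ((w.map fun i => L.getD i d).foldr comp d) = true ∧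
      toPerm ((w.map fun i => L.getD i d).foldr comp d) ∈ H := by
  intro w
  induction w with
  | nil => simpa using hd
  | cons i w ih =>
    have hi : okPerm (L.getD i d) = true ∧ toPerm (L.getD i d) ∈ H := by
      rw [List.getD_eq_getElem?_getD]
      cases h : L[i]? with
      | none => simpa using hd
      | some v => simpa using hL v (List.mem_of_getElem? h)
    rw [List.map_cons, List.foldr_cons]
    have hc := okPerm_comp hi.1 ih.1
    refine ⟨hc, ?_⟩
    rw [comp_spec hi.1 ih.1 hc]
    exact mul_mem hi.2 ih.2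

theorem word_spec {L : List ℕ} {H : Subgroup (Equiv.Perm GolayPt)}
    (hL : ∀ p ∈ L, okPerm p = true ∧ toPerm p ∈ H) (w : List ℕ) :
    okPerm (word L w) = true ∧ toPerm (word L w) ∈ H :=
  foldr_spec ⟨okPerm_idp, by rw [toPerm_idp]; exact one_mem _⟩ hL w

theorem sqs_spec : ∀ (n : ℕ) {p : ℕ}, okPerm p = true → okPerm (sqs n p) = true ∧ toPerm (sqs n p) = toPerm p ^ 2 ^ n
  | 0, p, h => ⟨h, by simp [sqs]⟩
  | n + 1, p, h => by
    obtain ⟨h1, h2⟩ := sqs_spec n (okPerm_comp h h)
    refine ⟨h1, ?_⟩
    show toPerm (sqs n (comp p p)) = _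
    rw [h2, comp_spec h h (okPerm_comp h h), ← sq, ← pow_mul, pow_succ']

theorem conjB_iff {g x y : ℕ} (hg : okPerm g = true) (hx : okPerm x = true) (hy : okPerm y = true) :
    conjB g x y = true ↔ toPerm g * toPerm x = toPerm y * toPerm g := by
  simp only [conjB, List.all_eq_true, List.mem_range, beq_iff_eq]
  constructor
  · intro h
    ext q
    rw [Equiv.Perm.mul_apply, Equiv.Perm.mul_apply, toPerm_apply hg, idx_toPerm hx, toPerm_apply hy,
      idx_toPerm hg, h _ (idx_lt q)]
  · intro h i hi
    have h1 := congrArg (fun f : Equiv.Perm GolayPt => idx (f (pt i))) h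
    simpa [Equiv.Perm.mul_apply, idx_toPerm hg, idx_toPerm hx, idx_toPerm hy, idx_pt hi] using h1

/-- Orbit mask of position `y` under listed elements. -/
def mOrb (S : List ℕ) (y : ℕ) : ℕ := (S.map fun e => 2 ^ img e y).foldr (fun a b => a ||| b) 0

theorem mem_toSet_mOrb {S : List ℕ} (hS : ∀ e ∈ S, okPerm e = true) (y q : GolayPt) :
    q ∈ toSet (mOrb S (idx y)) ↔ ∃ e ∈ S, toPerm e y = q := by
  rw [mem_toSet, mOrb]
  induction S with
  | nil => simp
  | cons a S ih =>
    rw [List.map_cons, List.foldr_cons, Nat.testBit_or, Bool.or_eq_true,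
      ih fun e he => hS e (List.mem_cons_of_mem _ he), Nat.testBit_two_pow, decide_eq_true_eq]
    simp only [List.mem_cons, exists_eq_or_imp]
    rw [toPerm_apply (hS a List.mem_cons_self)]
    refine or_congr ⟨fun h => by rw [h, pt_idx], fun h => ?_⟩ Iff.rfl
    rw [← h, idx_pt (img_lt (hS a List.mem_cons_self) (idx_lt y))]

/-- Data checked at one normalizer step. -/
def stepOk (M : List ℕ) (Ss : List (List ℕ)) (f : List ℕ) (b : ℕ) : Bool :=
  decide (b < 24) &&
  (Ss.getLastD []).all (fun e => M.all fun o => pmask e o == o) &&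
  (force f (M.foldr refine [16777215])).isSome &&
  (List.range 24).all fun y =>
    (mOrb (Ss.getLastD []) b).testBit y ||
    ((force f (M.foldr refine [16777215])).getD []).any (fun a => a.testBit y != a.testBit b) ||
    Ss.any (fun S => pc (mOrb S y) != pc (mOrb S b))

/-- Certificate for the normalizer of the listed group. -/
def normOk : List ℕ → List (List ℕ) → List (List ℕ × ℕ) → List ℕ → Bool
  | M, _, [], ff => match force ff (M.foldr refine [16777215]) with
    | some fin => (List.range 24).all fun i => fin.contains (2 ^ i)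
    | none => false
  | M, Ss, (f, b) :: rest, ff =>
    stepOk M Ss f b &&
      (let S' := (Ss.getLastD []).filter fun e => img e b == b
       normOk (M ++ (2 ^ b :: (Ss ++ [S']).map fun S => mOrb S b)) (Ss ++ [S']) rest ff)

/-- What is known about a normalizing element. -/
structure Good (M : List ℕ) (Ss : List (List ℕ)) (g : Equiv.Perm GolayPt) : Prop where
  mem : g ∈ M24
  fix : ∀ o ∈ M, g • toSet o = toSet o
  conj : ∀ S ∈ Ss, ∀ e ∈ S, ∃ e' ∈ S, g * toPerm e * g⁻¹ = toPerm e'
  conj' : ∀ S ∈ Ss, ∀ e ∈ S, ∃ e' ∈ S, g⁻¹ * toPerm e * g = toPerm e'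

theorem fix_refine {g : Equiv.Perm GolayPt} {o : ℕ} (ho : g • toSet o = toSet o) :
    ∀ {l : List ℕ}, (∀ a ∈ l, g • toSet a = toSet a) → ∀ a ∈ refine o l, g • toSet a = toSet a
  | [], _, a, ha => by simp [refine] at ha
  | b :: l, hl, a, ha => by
    simp only [refine, List.mem_append, List.mem_filter, List.mem_cons, List.not_mem_nil, or_false] at ha
    have hb := hl b List.mem_cons_self
    rcases ha with ⟨rfl | rfl, -⟩ | ha
    · rw [toSet_and, smul_inter', ho, hb]
    · rw [toSet_xor, smul_symmDiff', toSet_and, smul_inter', ho, hb]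
    · exact fix_refine ho (fun x hx => hl x (List.mem_cons_of_mem _ hx)) a ha

theorem fix_foldr {g : Equiv.Perm GolayPt} : ∀ {M : List ℕ}, (∀ o ∈ M, g • toSet o = toSet o) →
    ∀ a ∈ M.foldr refine [16777215], g • toSet a = toSet a
  | [], _, a, ha => by
    rw [List.foldr_nil, List.mem_singleton] at ha
    subst ha
    rw [toSet_full, Finset.smul_finset_univ]
  | o :: M, h, a, ha => fix_refine (h o List.mem_cons_self)
      (fix_foldr fun x hx => h x (List.mem_cons_of_mem _ hx)) a ha

theorem smul_mOrb {S : List ℕ} (hS : ∀ e ∈ S, okPerm e = true) {g : Equiv.Perm GolayPt}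
    (h : ∀ e ∈ S, ∃ e' ∈ S, g * toPerm e * g⁻¹ = toPerm e')
    (h' : ∀ e ∈ S, ∃ e' ∈ S, g⁻¹ * toPerm e * g = toPerm e') (y : GolayPt) :
    g • toSet (mOrb S (idx y)) = toSet (mOrb S (idx (g y))) := by
  ext q
  simp only [Finset.mem_smul_finset, mem_toSet_mOrb hS, Equiv.Perm.smul_def]
  constructor
  · rintro ⟨_, ⟨e, he, rfl⟩, rfl⟩
    obtain ⟨e', he', hee⟩ := h e he
    exact ⟨e', he', by rw [← hee]; simp⟩
  · rintro ⟨e, he, rfl⟩
    obtain ⟨e', he', hee⟩ := h' e he
    exact ⟨_, ⟨e', he', rfl⟩, by rw [← hee]; simp⟩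

theorem mem_of_normOk {H : Subgroup (Equiv.Perm GolayPt)} :
    ∀ (steps : List (List ℕ × ℕ)) (M : List ℕ) (Ss : List (List ℕ)) (ff : List ℕ),
      normOk M Ss steps ff = true → (∀ S ∈ Ss, ∀ e ∈ S, okPerm e = true ∧ inM24 e = true ∧ toPerm e ∈ H) →
      (∀ S ∈ Ss, ∀ a ∈ S, ∀ b ∈ Ss.getLastD [], ∃ c ∈ S, toPerm b * toPerm a * (toPerm b)⁻¹ = toPerm c) →
      (∀ S ∈ Ss, ∀ a ∈ S, ∀ b ∈ Ss.getLastD [], ∃ c ∈ S, (toPerm b)⁻¹ * toPerm a * toPerm b = toPerm c) →
      ∀ g, Good M Ss g → g ∈ H
  | [], M, Ss, ff, hok, hel, hc, hc', g, hg => by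
    rw [normOk] at hok
    cases hf : force ff (M.foldr refine [16777215]) with
    | none => simp [hf] at hok
    | some fin =>
      rw [hf] at hok
      have hfin := smul_force_sound hg.mem _ _ _ hf (fix_foldr hg.fix)
      have hg1 : g = 1 := by
        refine Equiv.ext fun x => ?_
        have := List.all_eq_true.1 hok (idx x) (List.mem_range.2 (idx_lt x))
        have hx := hfin _ (by simpa using this)
        rw [toSet_pow_idx, Finset.smul_finset_singleton, Equiv.Perm.smul_def, Finset.singleton_inj] at hx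
        simpa using hx
      rw [hg1]; exact one_mem _
  | (f, b) :: rest, M, Ss, ff, hok, hel, hc, hc', g, hg => by
    rw [normOk, Bool.and_eq_true] at hok
    obtain ⟨hst, hrest⟩ := hok
    simp only [stepOk, Bool.and_eq_true, decide_eq_true_eq, List.all_eq_true, beq_iff_eq] at hst
    obtain ⟨⟨⟨hb, hM⟩, hsome⟩, hy⟩ := hst
    obtain ⟨fin, hfin⟩ := Option.isSome_iff_exists.mp hsome
    rw [hfin, Option.getD_some] at hy
    have hfix := smul_force_sound hg.mem _ _ _ hfin (fix_foldr hg.fix)
    set L := Ss.getLastD [] with hLdef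
    have hLok : ∀ e ∈ L, okPerm e = true ∧ inM24 e = true ∧ toPerm e ∈ H := by
      intro e he
      cases hSs : Ss.getLast? with
      | none => simp [hLdef, List.getLastD_eq_getLast?, hSs] at he
      | some S =>
        refine hel S (List.mem_of_getLast? hSs) e ?_
        simpa [hLdef, List.getLastD_eq_getLast?, hSs] using he
    have hLmem : L = [] ∨ L ∈ Ss := by
      cases hSs : Ss.getLast? with
      | none => left; simp [hLdef, List.getLastD_eq_getLast?, hSs]
      | some S => right; simpa [hLdef, List.getLastD_eq_getLast?, hSs] using List.mem_of_getLast? hSs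
    have hbq : idx (pt b) = b := idx_pt hb
    obtain ⟨s, hs, hsb⟩ : ∃ s ∈ L, toPerm s (pt b) = g (pt b) := by
      have h0 := hy (idx (g (pt b))) (List.mem_range.2 (idx_lt _))
      simp only [Bool.or_eq_true, List.any_eq_true, bne_iff_ne, ne_eq] at h0
      rcases h0 with (h0 | ⟨a, ha, hne⟩) | ⟨S, hS, hne⟩
      · have := (mem_toSet_mOrb (fun e he => (hLok e he).1) (pt b) (g (pt b))).mp (by rw [mem_toSet, hbq]; exact h0)
        exact this
      · exfalso
        apply hne
        have hiff : g (pt b) ∈ toSet a ↔ pt b ∈ toSet a := by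
          conv_lhs => rw [← hfix a ha]
          rw [← Equiv.Perm.smul_def]
          exact Finset.smul_mem_smul_finset_iff g
        rw [mem_toSet, mem_toSet, hbq] at hiff
        exact Bool.eq_iff_iff.mpr hiff
      · exfalso
        apply hne
        have he := smul_mOrb (fun e he => (hel S hS e he).1) (hg.conj S hS) (hg.conj' S hS) (pt b)
        have h1 := congrArg Finset.card he
        rw [Finset.card_smul_finset, card_toSet, card_toSet, hbq] at h1
        exact h1.symm
    set S' := L.filter fun e => img e b == b with hS'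
    have hmemS' : ∀ e, e ∈ S' ↔ e ∈ L ∧ img e b = b := fun e => by simp [hS']
    have hsok := hLok s hs
    set g' := (toPerm s)⁻¹ * g with hg'
    have hg'b : g' (pt b) = pt b := by
      rw [hg', Equiv.Perm.mul_apply, Equiv.Perm.inv_eq_iff_eq, hsb]
    have hinv : ∀ e ∈ L, (img e b = b ↔ toPerm e (pt b) = pt b) := by
      intro e he
      rw [toPerm_apply (hLok e he).1, hbq]
      exact ⟨fun h => by rw [h], fun h => by
        have := congrArg idx h
        rwa [idx_pt (img_lt (hLok e he).1 hb), hbq] at this⟩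
    have hgo : ∀ S ∈ Ss, ∀ e ∈ S, ∃ e' ∈ S, g' * toPerm e * g'⁻¹ = toPerm e' := by
      intro S hS e he
      obtain ⟨e1, he1, h1⟩ := hg.conj S hS e he
      obtain ⟨e2, he2, h2⟩ := hc' S hS e1 he1 s hs
      refine ⟨e2, he2, ?_⟩
      rw [← h2, ← h1, hg']; group
    have hgo' : ∀ S ∈ Ss, ∀ e ∈ S, ∃ e' ∈ S, g'⁻¹ * toPerm e * g' = toPerm e' := by
      intro S hS e he
      obtain ⟨e1, he1, h1⟩ := hc S hS e he s hs
      obtain ⟨e2, he2, h2⟩ := hg.conj' S hS e1 he1
      refine ⟨e2, he2, ?_⟩
      rw [← h2, ← h1, hg']; group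
    have hlast : (Ss ++ [S']).getLastD [] = S' := by simp [List.getLastD_eq_getLast?]
    have hstab : ∀ h : Equiv.Perm GolayPt, h (pt b) = pt b →
        ∀ e ∈ S', ∀ e' ∈ L, h * toPerm e * h⁻¹ = toPerm e' → e' ∈ S' := by
      intro h hh e he e' he' heq
      refine (hmemS' e').mpr ⟨he', (hinv e' he').mpr ?_⟩
      rw [← heq, Equiv.Perm.mul_apply, Equiv.Perm.mul_apply, Equiv.Perm.inv_eq_iff_eq.mpr hh.symm,
        (hinv e ((hmemS' e).mp he).1).mp ((hmemS' e).mp he).2, hh]
    have hG : Good (M ++ (2 ^ b :: (Ss ++ [S']).map fun S => mOrb S b)) (Ss ++ [S']) g' := by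
      have hconj : ∀ S ∈ Ss ++ [S'], ∀ e ∈ S, ∃ e' ∈ S, g' * toPerm e * g'⁻¹ = toPerm e' := by
        intro S hS e he
        rcases List.mem_append.mp hS with h | h
        · exact hgo S h e he
        · rw [List.mem_singleton] at h; subst h
          rcases hLmem with h0 | h0
          · simp [hS', h0] at he
          obtain ⟨e', he', heq⟩ := hgo L h0 e ((hmemS' e).mp he).1
          exact ⟨e', hstab g' hg'b e he e' he' heq, heq⟩
      have hconj' : ∀ S ∈ Ss ++ [S'], ∀ e ∈ S, ∃ e' ∈ S, g'⁻¹ * toPerm e * g' = toPerm e' := by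
        intro S hS e he
        rcases List.mem_append.mp hS with h | h
        · exact hgo' S h e he
        · rw [List.mem_singleton] at h; subst h
          rcases hLmem with h0 | h0
          · simp [hS', h0] at he
          obtain ⟨e', he', heq⟩ := hgo' L h0 e ((hmemS' e).mp he).1
          exact ⟨e', hstab g'⁻¹ (Equiv.Perm.inv_eq_iff_eq.mpr hg'b.symm) e he e' he' (by rwa [inv_inv]), heq⟩
      refine ⟨mul_mem (inv_mem (toPerm_mem_M24 hsok.2.1)) hg.mem, ?_, hconj, hconj'⟩
      intro o ho
      rcases List.mem_append.mp ho with h | h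
      · rw [hg', mul_smul, hg.fix o h, inv_smul_eq_iff, smul_toSet hsok.1, hM s hs o h]
      rcases List.mem_cons.mp h with h | h
      · rw [h]; exact smul_toSet_singleton hb hg'b
      obtain ⟨S, hS, rfl⟩ := List.mem_map.mp h
      have hokS : ∀ e ∈ S, okPerm e = true := by
        intro e he
        rcases List.mem_append.mp hS with h' | h'
        · exact (hel S h' e he).1
        · rw [List.mem_singleton] at h'; subst h'
          exact (hLok e ((hmemS' e).mp he).1).1
      have := smul_mOrb hokS (hconj S hS) (hconj' S hS) (pt b)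
      rwa [hg'b, hbq] at this
    have hg'H : g' ∈ H := by
      refine mem_of_normOk rest _ _ ff hrest ?_ ?_ ?_ g' hG
      · intro S hS e he
        rcases List.mem_append.mp hS with h | h
        · exact hel S h e he
        · rw [List.mem_singleton] at h; subst h
          exact hLok e ((hmemS' e).mp he).1
      · intro S hS a ha c hc0
        rw [hlast] at hc0
        have hcL := ((hmemS' c).mp hc0).1
        rcases List.mem_append.mp hS with h | h
        · exact hc S h a ha c hcL
        · rw [List.mem_singleton] at h; subst h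
          rcases hLmem with h0 | h0
          · simp [hS', h0] at ha
          obtain ⟨d, hd, hde⟩ := hc L h0 a ((hmemS' a).mp ha).1 c hcL
          exact ⟨d, hstab (toPerm c) ((hinv c hcL).mp ((hmemS' c).mp hc0).2) a ha d hd hde, hde⟩
      · intro S hS a ha c hc0
        rw [hlast] at hc0
        have hcL := ((hmemS' c).mp hc0).1
        rcases List.mem_append.mp hS with h | h
        · exact hc' S h a ha c hcL
        · rw [List.mem_singleton] at h; subst h
          rcases hLmem with h0 | h0
          · simp [hS', h0] at ha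
          obtain ⟨d, hd, hde⟩ := hc' L h0 a ((hmemS' a).mp ha).1 c hcL
          exact ⟨d, hstab (toPerm c)⁻¹
            (Equiv.Perm.inv_eq_iff_eq.mpr ((hinv c hcL).mp ((hmemS' c).mp hc0).2).symm) a ha d hd
            (by rwa [inv_inv]), hde⟩
    have : g = toPerm s * g' := by rw [hg']; group
    rw [this]
    exact mul_mem hsok.2.2 hg'H

/-- Membership test for the group cut out of `M24` by invariant masks. -/
def inG (masks : List ℕ) (p : ℕ) : Bool := inM24 p && masks.all fun o => pmask p o == o

/-- All data. -/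
structure Cert where
  /-- invariant sets -/
  masks : List ℕ
  /-- generators of the 2-subgroup -/
  gs : List ℕ
  /-- its elements: generator index and index of an earlier element -/
  par : List (ℕ × ℕ)
  /-- its elements -/
  es : List ℕ
  /-- search tree of the elements -/
  tree : Tr
  /-- the central involution -/
  z : ℕ
  /-- normalizer steps -/
  steps : List (List ℕ × ℕ)
  /-- final forcing -/
  ff : List ℕ
  /-- fusion chain: word, conjugator, new element -/
  chain : List (List ℕ × ℕ × ℕ)
  /-- generators as words in the chain -/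
  gw : List (List ℕ)

/-- Elements known to lie in a strongly closed subgroup. -/
def known (z : ℕ) (chain : List (List ℕ × ℕ × ℕ)) : List ℕ := z :: chain.map fun c => c.2.2

/-- Check of the subgroup. -/
def grpOk (c : Cert) : Bool :=
  c.gs.all (fun g => inG c.masks g) &&
  (c.es.head? == some idp) &&
  (decide (c.par.length + 1 = c.es.length)) &&
  (List.range c.par.length).all (fun k =>
    decide ((c.par.getD k (0, 0)).2 ≤ k) && decide ((c.par.getD k (0, 0)).1 < c.gs.length)) &&
  (((c.par.map fun w => comp (c.gs.getD w.1 idp) (c.es.getD w.2 idp))) == c.es.tail) &&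
  c.tree.toList.all (fun x => c.es.contains x) &&
  c.gs.all (fun g => c.es.all fun e => c.tree.has (comp g e)) &&
  c.es.all (fun e => sqs 11 e == idp) &&
  c.es.all (fun e => inG c.masks e) &&
  c.es.all (fun e => (e == idp) || (e == c.z) || c.gs.any fun g => !(conjB g e e)) &&
  c.es.any (fun e => (List.range 24).any fun i => img e i != i)

/-- Check of the normalizer. -/
def nrmOk (c : Cert) : Bool := normOk c.masks [c.es] c.steps c.ff

/-- Check of the fusion chain. -/
def chnOk (c : Cert) : Bool :=
  (c.tree.has c.z) &&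
  (List.range c.chain.length).all (fun k =>
    let d := c.chain.getD k ([], 0, 0)
    inG c.masks d.2.1 && c.tree.has d.2.2 &&
      conjB d.2.1 (word ((known c.z c.chain).take (k + 1)) d.1) d.2.2) &&
  (decide (c.gw.length = c.gs.length)) &&
  (c.gw.map (word (known c.z c.chain)) == c.gs)

theorem sound (c : Cert) (G : Subgroup (Equiv.Perm GolayPt))
    (hG : ∀ g, g ∈ G ↔ g ∈ M24 ∧ ∀ o ∈ c.masks, g • toSet o = toSet o)
    (h1 : grpOk c = true) (h2 : nrmOk c = true) (h3 : chnOk c = true) (S : Sylow 2 ↥G) :
    (groupFusionSystem (S : Subgroup ↥G)).IsSimple 2 := by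
  haveI : Fact (Nat.Prime 2) := ⟨Nat.prime_two⟩
  simp only [grpOk, Bool.and_eq_true, decide_eq_true_eq, List.all_eq_true, List.mem_range, beq_iff_eq,
    List.any_eq_true, Bool.or_eq_true, Bool.not_eq_true', bne_iff_ne, ne_eq] at h1
  obtain ⟨⟨⟨⟨⟨⟨⟨⟨⟨⟨hgs, hhead⟩, hlen⟩, hpar⟩, hes⟩, htree⟩, hclosed⟩, hsq⟩, hin⟩, hcen⟩, hnt⟩ := h1
  have hinG : ∀ p, inG c.masks p = true → okPerm p = true ∧ inM24 p = true ∧ toPerm p ∈ G := by
    intro p hp
    simp only [inG, Bool.and_eq_true, List.all_eq_true, beq_iff_eq] at hp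
    have hok : okPerm p = true := by
      have := hp.1; simp only [inM24, Bool.and_eq_true] at this; exact this.1
    exact ⟨hok, hp.1, (hG _).mpr ⟨toPerm_mem_M24 hp.1, fun o ho => by rw [smul_toSet hok, hp.2 o ho]⟩⟩
  have htree' : ∀ x, c.tree.has x = true → x ∈ c.es := fun x hx => by
    simpa using htree x (Tr.has_mem hx)
  have hidp : idp ∈ c.es := List.mem_of_mem_head? (by rw [hhead]; rfl)
  set A : Subgroup (Equiv.Perm GolayPt) := Subgroup.closure {x | ∃ g ∈ c.gs, toPerm g = x}
  have hAlist : ∀ x ∈ A, ∃ e ∈ c.es, toPerm e = x := by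
    intro x hx
    have hx' : x ∈ Submonoid.closure {x | ∃ g ∈ c.gs, toPerm g = x} := by
      rw [← Subgroup.mem_toSubmonoid, Subgroup.closure_toSubmonoid_of_finite] at hx
      exact hx
    induction hx' using Submonoid.closure_induction_left with
    | one => exact ⟨idp, hidp, toPerm_idp⟩
    | mul_left y hy w hw ih =>
      obtain ⟨g, hg, rfl⟩ := hy
      obtain ⟨e, he, rfl⟩ := ih (by
        rw [← Subgroup.mem_toSubmonoid, Subgroup.closure_toSubmonoid_of_finite]; exact hw)
      refine ⟨_, htree' _ (hclosed g hg e he), comp_spec (hinG g (hgs g hg)).1 (hinG e (hin e he)).1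
        (okPerm_comp (hinG g (hgs g hg)).1 (hinG e (hin e he)).1)⟩
  have hlistA : ∀ k, ∀ hk : k < c.es.length, toPerm (c.es[k]) ∈ A := by
    intro k
    induction k using Nat.strong_induction_on with
    | _ k ih =>
      intro hk
      rcases k with _ | k
      · have : c.es[0] = idp := by
          rw [List.head?_eq_getElem?, List.getElem?_eq_getElem hk] at hhead
          exact Option.some.inj hhead
        rw [this, toPerm_idp]; exact one_mem _
      · have hk' : k < c.par.length := by omega
        obtain ⟨hle, hlt⟩ := hpar k hk'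
        have he : c.es[k + 1] = comp (c.gs.getD (c.par.getD k (0, 0)).1 idp)
            (c.es.getD (c.par.getD k (0, 0)).2 idp) := by
          have h := congrArg (fun l : List ℕ => l[k]?) hes
          simp only [List.getElem?_map, List.getElem?_tail, List.getElem?_eq_getElem hk'] at h
          rw [List.getElem?_eq_getElem hk, Option.map_some, Option.some.injEq] at h
          rw [List.getD_eq_getElem _ _ hk']
          exact h.symm
        rw [he, List.getD_eq_getElem c.gs _ hlt, List.getD_eq_getElem c.es _ (show (c.par.getD k (0, 0)).2 < c.es.length by omega)]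
        rw [comp_spec (hinG _ (hgs _ (List.getElem_mem _))).1 (hinG _ (hin _ (List.getElem_mem _))).1
          (okPerm_comp (hinG _ (hgs _ (List.getElem_mem _))).1 (hinG _ (hin _ (List.getElem_mem _))).1)]
        exact mul_mem (Subgroup.subset_closure ⟨_, List.getElem_mem _, rfl⟩) (ih _ (by omega) _)
  have hlistA' : ∀ e ∈ c.es, toPerm e ∈ A := by
    intro e he
    obtain ⟨k, hk, rfl⟩ := List.mem_iff_getElem.mp he
    exact hlistA k hk
  have hAG : A ≤ G := fun x hx => by
    obtain ⟨e, he, rfl⟩ := hAlist x hx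
    exact (hinG e (hin e he)).2.2
  set H : Subgroup ↥G := A.subgroupOf G with hH
  have hHp : IsPGroup 2 ↥H := by
    rintro ⟨⟨x, hxG⟩, hx⟩
    obtain ⟨e, he, hex⟩ := hAlist x hx
    refine ⟨11, Subtype.ext (Subtype.ext ?_)⟩
    show x ^ 2 ^ 11 = 1
    rw [← hex, ← (sqs_spec 11 (hinG e (hin e he)).1).2, hsq e he, toPerm_idp]
  have hHN : Subgroup.normalizer (H : Set ↥G) ≤ H := by
    intro g hg
    refine mem_of_normOk (H := A) c.steps c.masks [c.es] c.ff h2 ?_ ?_ ?_ (g : Equiv.Perm GolayPt) ?_
    · intro T hT e he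
      rw [List.mem_singleton] at hT; subst hT
      exact ⟨(hinG e (hin e he)).1, (hinG e (hin e he)).2.1, hlistA' e he⟩
    · intro T hT a ha b hb
      rw [List.mem_singleton] at hT; subst hT
      simp only [List.getLastD_eq_getLast?, List.getLast?_singleton, Option.getD_some] at hb
      obtain ⟨d, hd, hde⟩ := hAlist _ (mul_mem (mul_mem (hlistA' b hb) (hlistA' a ha)) (inv_mem (hlistA' b hb)))
      exact ⟨d, hd, hde.symm⟩
    · intro T hT a ha b hb
      rw [List.mem_singleton] at hT; subst hT
      simp only [List.getLastD_eq_getLast?, List.getLast?_singleton, Option.getD_some] at hb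
      obtain ⟨d, hd, hde⟩ := hAlist _ (mul_mem (mul_mem (inv_mem (hlistA' b hb)) (hlistA' a ha)) (hlistA' b hb))
      exact ⟨d, hd, hde.symm⟩
    · have hgG := (hG (g : Equiv.Perm GolayPt)).mp g.2
      refine ⟨hgG.1, hgG.2, ?_, ?_⟩
      · intro T hT e he
        rw [List.mem_singleton] at hT; subst hT
        have := CfsgLib.Fusion.conj_mem_of_normalizer hg
          (show (⟨toPerm e, hAG (hlistA' e he)⟩ : ↥G) ∈ H from hlistA' e he)
        obtain ⟨d, hd, hde⟩ := hAlist _ this
        exact ⟨d, hd, hde.symm⟩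
      · intro T hT e he
        rw [List.mem_singleton] at hT; subst hT
        have := CfsgLib.Fusion.conj_mem_of_normalizer (inv_mem hg)
          (show (⟨toPerm e, hAG (hlistA' e he)⟩ : ↥G) ∈ H from hlistA' e he)
        rw [inv_inv] at this
        obtain ⟨d, hd, hde⟩ := hAlist _ this
        exact ⟨d, hd, hde.symm⟩
  obtain ⟨P, hP⟩ := CfsgLib.Fusion.exists_sylow_eq_of_normalizer_eq hHp hHN
  simp only [chnOk, Bool.and_eq_true, decide_eq_true_eq, List.all_eq_true, List.mem_range, beq_iff_eq] at h3
  obtain ⟨⟨⟨hzT, hchain⟩, hgwlen⟩, hgw⟩ := h3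
  have hz := htree' _ hzT
  refine CfsgLib.Fusion.isSimple_of_chain S P ⟨toPerm c.z, hAG (hlistA' _ hz)⟩ ?_ ?_ (by rw [hP]; exact hHN) ?_
  · rw [hP]
    intro h0
    obtain ⟨e, he, i, hi, hne⟩ := hnt
    have h2 : (⟨toPerm e, hAG (hlistA' e he)⟩ : ↥G) ∈ H := hlistA' e he
    rw [h0, Subgroup.mem_bot] at h2
    have h1 : toPerm e = 1 := congrArg Subtype.val h2
    have := congrArg (fun f : Equiv.Perm GolayPt => idx (f (pt i))) h1
    simp [idx_toPerm (hinG e (hin e he)).1, idx_pt hi] at this
    exact absurd this (by simpa using hne)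
  · intro x hx hcomm hx1
    rw [hP] at hx hcomm
    obtain ⟨e, he, hex⟩ := hAlist _ hx
    replace hex : toPerm e = (x : Equiv.Perm GolayPt) := hex
    rcases hcen e he with (h | h) | ⟨g, hg, hgc⟩
    · exact absurd (show x = 1 from Subtype.ext (show (x : Equiv.Perm GolayPt) = 1 by rw [← hex, h, toPerm_idp])) hx1
    · rw [show x = (⟨toPerm c.z, hAG (hlistA' _ hz)⟩ : ↥G) from Subtype.ext (by rw [← hex, h])]
      exact Subgroup.mem_zpowers _
    · have hgA : toPerm g ∈ A := Subgroup.subset_closure ⟨g, hg, rfl⟩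
      have hcg := congrArg Subtype.val (hcomm ⟨toPerm g, hAG hgA⟩ hgA)
      simp only [Subgroup.coe_mul] at hcg
      rw [← hex] at hcg
      rw [(conjB_iff (hinG g (hgs g hg)).1 (hinG e (hin e he)).1 (hinG e (hin e he)).1).mpr hcg.symm] at hgc
      cases hgc
  · intro T hT hzT' hTc
    rw [hP] at hT hTc ⊢
    set K := known c.z c.chain
    have hK : ∀ k ≤ c.chain.length, ∀ p ∈ K.take (k + 1), okPerm p = true ∧ toPerm p ∈ T.map G.subtype := by
      intro k
      induction k with
      | zero =>
        intro _ p hp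
        simp only [K, known, List.take_succ_cons, List.take_zero, List.mem_singleton] at hp
        subst hp
        exact ⟨(hinG _ (hin _ hz)).1, ⟨_, hzT', rfl⟩⟩
      | succ k ih =>
        intro hk p hp
        rw [List.take_succ (i := k + 1)] at hp
        rcases List.mem_append.mp hp with h | h
        · exact ih (by omega) p h
        obtain ⟨⟨hgin, hyT⟩, hconj⟩ := hchain k (by omega)
        set d := c.chain.getD k ([], 0, 0) with hd
        have hp' : p = d.2.2 := by
          simp only [K, known, List.getElem?_cons_succ, List.getElem?_map,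
            List.getElem?_eq_getElem (show k < c.chain.length by omega), Option.map_some, Option.toList_some,
            List.mem_singleton] at h
          rw [h, hd, List.getD_eq_getElem _ _ (show k < c.chain.length by omega)]
        obtain ⟨hwok, hwT⟩ := word_spec (fun q hq => ih (by omega) q hq) d.1
        obtain ⟨x, hx, hxe⟩ := hwT
        have hy := htree' _ hyT
        have hgG := hinG _ hgin
        have hyok := (hinG _ (hin _ hy)).1
        have heq := (conjB_iff hgG.1 hwok hyok).mp hconj
        rw [hp']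
        refine ⟨hyok, ⟨⟨toPerm d.2.1, hgG.2.2⟩ * x * ⟨toPerm d.2.1, hgG.2.2⟩⁻¹, hTc x hx _ ?_, ?_⟩⟩
        · show toPerm d.2.1 * (x : Equiv.Perm GolayPt) * (toPerm d.2.1)⁻¹ ∈ A
          rw [show (x : Equiv.Perm GolayPt) = _ from hxe, heq, mul_inv_cancel_right]
          exact hlistA' _ hy
        · show toPerm d.2.1 * (x : Equiv.Perm GolayPt) * (toPerm d.2.1)⁻¹ = _
          rw [show (x : Equiv.Perm GolayPt) = _ from hxe, heq, mul_inv_cancel_right]
    have hAT : A ≤ T.map G.subtype := by
      refine (Subgroup.closure_le _).mpr ?_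
      rintro _ ⟨g, hg, rfl⟩
      rw [← hgw] at hg
      obtain ⟨w, hw, rfl⟩ := List.mem_map.mp hg
      refine (word_spec (fun q hq => hK c.chain.length le_rfl q ?_) w).2
      rw [List.take_of_length_le]
      · exact hq
      · simp [K, known]
    intro x hx
    obtain ⟨y, hy, hye⟩ := hAT hx
    rwa [show x = y from Subtype.ext hye.symm]

end CfsgLib.Golay.TwoFusion
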