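import Cfsg.Agent.Lib.Golay.Kinds
import Cfsg.Agent.Lib.Golay.TwoFusion

/-! Enumeration of the elements of `M24` conjugating one given permutation into another. -/
set_option autoImplicit false
set_option linter.all false
set_option maxRecDepth 8000

namespace CfsgLib.Golay.Search

open Cfsg CfsgLib.Golay CfsgLib.Golay.TwoFusion
open scoped Pointwise

/-- compatibility of a new image with the earlier ones -/
def okStep (x y k : ℕ) (l : List ℕ) (v : ℕ) : Bool :=
  (List.range (k + 1)).all fun i =>
    (!(img x (base.getD i 0) == base.getD k 0) || img y ((l ++ [v]).getD i 0) == v) &&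
    (!(img x (base.getD k 0) == base.getD i 0) || img y v == (l ++ [v]).getD i 0)

/-- backtracking over the transversals -/
noncomputable def srch (x y : ℕ) : ℕ → ℕ → ℕ → List ℕ → List ℕ
  | 0, _, q, _ => [q]
  | j + 1, k, q, l =>
    ((tr k).filter fun p => okStep x y k l (img q (img p (base.getD k 0)))).flatMap fun p =>
      srch x y j (k + 1) (comp q p) (l ++ [img q (img p (base.getD k 0))])

/-- the elements carrying `x` to `y` -/
noncomputable def sols (x y : ℕ) : List ℕ := (srch x y 7 0 idp []).filter fun q => conjB q x y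

theorem tr_nodup : (List.range 7).all (fun k =>
    decide ((tr k).map fun p => img p (base.getD k 0)).Nodup) = true := by decide +kernel

theorem tr_ok {k : ℕ} (hk : k < 7) {p : ℕ} (hp : p ∈ tr k) : okPerm p = true := by
  have h := List.all_eq_true.1 tr_check k (List.mem_range.2 hk)
  simp only [Bool.and_eq_true, List.all_eq_true] at h
  exact okPerm_of_inM24 (h.1 p hp).1

theorem fixB_succ {k : ℕ} {g : Equiv.Perm GolayPt} (h : g ∈ fixB (k + 1)) : g ∈ fixB k :=
  ⟨h.1, fun i hi => h.2 i (by omega)⟩

theorem srch_spec (x y : ℕ) : ∀ (j k q : ℕ) (l : List ℕ), k + j = 7 → okPerm q = true →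
    ∀ r ∈ srch x y j k q l, okPerm r = true ∧ ∃ h ∈ fixB k, toPerm r = toPerm q * h
  | 0, k, q, l, hk, hq, r, hr => by
    simp only [srch, List.mem_singleton] at hr
    subst hr
    exact ⟨hq, 1, one_mem _, (mul_one _).symm⟩
  | j + 1, k, q, l, hk, hq, r, hr => by
    simp only [srch, List.mem_flatMap, List.mem_filter] at hr
    obtain ⟨p, ⟨hp, -⟩, hr⟩ := hr
    have hpo := tr_ok (by omega) hp
    have hc := okPerm_comp hq hpo
    obtain ⟨h1, h, hh, e⟩ := srch_spec x y j (k + 1) _ _ (by omega) hc r hr
    refine ⟨h1, toPerm p * h, mul_mem (toPerm_tr_mem (by omega) hp) (fixB_succ hh), ?_⟩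
    rw [e, comp_spec hq hpo hc, mul_assoc]

theorem srch_nodup (x y : ℕ) : ∀ (j k q : ℕ) (l : List ℕ), k + j = 7 → okPerm q = true →
    ((srch x y j k q l).map toPerm).Nodup
  | 0, k, q, l, hk, hq => by simp [srch]
  | j + 1, k, q, l, hk, hq => by
    have hnd := List.all_eq_true.1 tr_nodup k (List.mem_range.2 (by omega))
    rw [decide_eq_true_eq] at hnd
    simp only [srch, List.map_flatMap]
    rw [List.nodup_flatMap]
    refine ⟨fun p hp => ?_, ?_⟩
    · have hp' := (List.mem_filter.1 hp).1
      exact srch_nodup x y j (k + 1) _ _ (by omega) (okPerm_comp hq (tr_ok (by omega) hp'))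
    · have h2 := (List.Nodup.of_map _ hnd)
      have key : ∀ p ∈ tr k, ∀ p' ∈ tr k, p ≠ p' → ∀ r ∈ srch x y j (k + 1) (comp q p)
          (l ++ [img q (img p (base.getD k 0))]), ∀ r' ∈ srch x y j (k + 1) (comp q p')
          (l ++ [img q (img p' (base.getD k 0))]), toPerm r ≠ toPerm r' := by
        intro p hp p' hp' hne r hr r' hr' he
        have hpo := tr_ok (show k < 7 by omega) hp
        have hpo' := tr_ok (show k < 7 by omega) hp'
        have hc := okPerm_comp hq hpo
        have hc' := okPerm_comp hq hpo'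
        obtain ⟨-, h, hh, e⟩ := srch_spec x y j (k + 1) _ _ (by omega) hc r hr
        obtain ⟨-, h', hh', e'⟩ := srch_spec x y j (k + 1) _ _ (by omega) hc' r' hr'
        rw [e, e', comp_spec hq hpo hc, comp_spec hq hpo' hc', mul_assoc, mul_assoc] at he
        have := congrArg (fun g : Equiv.Perm GolayPt => idx (g (bp k))) (mul_left_cancel he)
        simp only [Equiv.Perm.mul_apply, hh.2 k (Nat.lt_succ_self k), hh'.2 k (Nat.lt_succ_self k),
          idx_toPerm hpo, idx_toPerm hpo'] at this
        rw [bp, idx_pt (base_lt k (by omega))] at this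
        exact hne (List.inj_on_of_nodup_map hnd hp hp' this)
      refine List.Pairwise.imp_of_mem ?_ (h2.filter fun p => okStep x y k l (img q (img p (base.getD k 0))))
      intro p p' hp hp' hne g hg hg'
      rw [List.mem_map] at hg hg'
      obtain ⟨r, hr, rfl⟩ := hg
      obtain ⟨r', hr', e⟩ := hg'
      exact key p (List.mem_filter.1 hp).1 p' (List.mem_filter.1 hp').1 hne r hr r' hr' e.symm

theorem srch_complete (x y : ℕ) (hx : okPerm x = true) (hy : okPerm y = true)
    {g : Equiv.Perm GolayPt} (hg : g ∈ M24) (e : g * toPerm x = toPerm y * g) :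
    ∀ (j k q : ℕ), k + j = 7 → okPerm q = true → (toPerm q)⁻¹ * g ∈ fixB k →
      ∃ r ∈ srch x y j k q ((List.range k).map fun i => idx (g (bp i))), toPerm r = g
  | 0, k, q, hk, hq, hm => by
    obtain rfl : k = 7 := by omega
    exact ⟨q, by simp [srch], inv_mul_eq_one.1 (fixB_seven hm)⟩
  | j + 1, k, q, hk, hq, hm => by
    have hk7 : k < 7 := by omega
    obtain ⟨p, hp, ep⟩ := exists_tr hk7 (apply_bp_mem_allow hk7 hm)
    have hpo := tr_ok hk7 hp
    have hb : idx (bp k) = base.getD k 0 := idx_pt (base_lt k hk7)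
    have hv : img q (img p (base.getD k 0)) = idx (g (bp k)) := by
      rw [← hb, ← idx_toPerm hpo, ← idx_toPerm hq, ep, Equiv.Perm.mul_apply,
        Equiv.Perm.inv_def, Equiv.apply_symm_apply]
    have hc := okPerm_comp hq hpo
    have hm' : (toPerm (comp q p))⁻¹ * g ∈ fixB (k + 1) := by
      have h2 := mul_mem (inv_mem (toPerm_tr_mem hk7 hp)) hm
      rw [comp_spec hq hpo hc, mul_inv_rev, mul_assoc]
      refine ⟨h2.1, fun i hi => ?_⟩
      rcases Nat.lt_succ_iff_lt_or_eq.1 hi with h' | h'
      · exact h2.2 i h'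
      · subst h'
        rw [Equiv.Perm.mul_apply, Equiv.Perm.inv_eq_iff_eq, ep]
    obtain ⟨r, hr, er⟩ := srch_complete x y hx hy hg e j (k + 1) (comp q p) (by omega) hc hm'
    refine ⟨r, ?_, er⟩
    simp only [srch, List.mem_flatMap, List.mem_filter]
    rw [List.range_succ, List.map_append, List.map_cons, List.map_nil, ← hv] at hr
    refine ⟨p, ⟨hp, ?_⟩, hr⟩
    have hl : ∀ i ≤ k, (((List.range k).map fun i => idx (g (bp i))) ++
        [img q (img p (base.getD k 0))]).getD i 0 = idx (g (bp i)) := fun i hi => by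
      rw [hv, show [idx (g (bp k))] = [k].map (fun i => idx (g (bp i))) from rfl, ← List.map_append,
        ← List.range_succ]
      rw [List.getD_eq_getElem _ _ (by simp; omega), List.getElem_map, List.getElem_range]
    simp only [okStep, List.all_eq_true, List.mem_range, Bool.and_eq_true, Bool.or_eq_true,
      Bool.not_eq_true', beq_eq_false_iff_ne, beq_iff_eq]
    intro i hi
    rw [hl i (by omega), hv]
    have hbi : idx (bp i) = base.getD i 0 := idx_pt (base_lt i (by omega))
    have key : ∀ a b : GolayPt, img x (idx a) = idx b → img y (idx (g a)) = idx (g b) := fun a b h => by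
      have h1 : toPerm x a = b := idx_inj.1 (by rw [idx_toPerm hx, h])
      rw [← idx_toPerm hy, idx_inj, ← Equiv.Perm.mul_apply, ← e, Equiv.Perm.mul_apply, h1]
    constructor
    · by_cases h : img x (base.getD i 0) = base.getD k 0
      · exact Or.inr (key _ _ (by rw [hbi, hb, h]))
      · exact Or.inl h
    · by_cases h : img x (base.getD k 0) = base.getD i 0
      · exact Or.inr (key _ _ (by rw [hbi, hb, h]))
      · exact Or.inl h

theorem sols_spec {x y : ℕ} (hx : okPerm x = true) (hy : okPerm y = true) {r : ℕ}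
    (hr : r ∈ sols x y) : okPerm r = true ∧ toPerm r ∈ M24 ∧
      toPerm r * toPerm x = toPerm y * toPerm r := by
  rw [sols, List.mem_filter] at hr
  obtain ⟨h1, h, hh, e⟩ := srch_spec x y 7 0 idp [] rfl okPerm_idp r hr.1
  refine ⟨h1, ?_, (conjB_iff h1 hx hy).1 hr.2⟩
  rw [e, toPerm_idp, one_mul]
  exact hh.1

theorem mem_sols {x y : ℕ} (hx : okPerm x = true) (hy : okPerm y = true) (g : Equiv.Perm GolayPt) :
    (∃ q ∈ sols x y, toPerm q = g) ↔ g ∈ M24 ∧ g * toPerm x = toPerm y * g := by
  constructor
  · rintro ⟨q, hq, rfl⟩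
    exact (sols_spec hx hy hq).2
  · rintro ⟨hg, e⟩
    obtain ⟨r, hr, er⟩ := srch_complete x y hx hy hg e 7 0 idp rfl okPerm_idp (by
      rw [toPerm_idp, inv_one, one_mul, fixB_zero]; exact hg)
    refine ⟨r, List.mem_filter.2 ⟨by simpa using hr, ?_⟩, er⟩
    exact (conjB_iff (srch_spec x y 7 0 idp [] rfl okPerm_idp r (by simpa using hr)).1 hx hy).2 (er ▸ e)

theorem card_sols {x y : ℕ} (hx : okPerm x = true) (hy : okPerm y = true) :
    Nat.card {g : Equiv.Perm GolayPt // g ∈ M24 ∧ g * toPerm x = toPerm y * g} =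
      (sols x y).length := by
  classical
  have hnd : ((sols x y).map toPerm).Nodup :=
    (srch_nodup x y 7 0 idp [] rfl okPerm_idp).sublist (List.filter_sublist.map _)
  rw [← List.length_map (as := sols x y) toPerm, ← List.toFinset_card_of_nodup hnd,
    ← Nat.card_eq_finsetCard]
  refine Nat.card_congr (Equiv.subtypeEquivRight fun g => ?_)
  rw [List.mem_toFinset, List.mem_map]
  exact (mem_sols hx hy g).symm

/-- recognition of the identity -/
def isIdB (q : ℕ) : Bool := (List.range 24).all fun i => img q i == i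

theorem isIdB_iff {q : ℕ} (hq : okPerm q = true) : isIdB q = true ↔ toPerm q = 1 := by
  simp only [isIdB, List.all_eq_true, List.mem_range, beq_iff_eq]
  constructor
  · intro h
    refine Equiv.ext fun p => idx_inj.1 ?_
    rw [idx_toPerm hq, h _ (idx_lt p)]
    rfl
  · intro h i hi
    have := congrArg (fun g : Equiv.Perm GolayPt => idx (g (pt i))) h
    simpa [idx_toPerm hq, idx_pt hi] using this

/-- a normal form of packed permutations -/
def pkOf (q : ℕ) : ℕ := packL ((List.range 24).map (img q))

theorem pkOf_eq {a b : ℕ} (ha : okPerm a = true) (hb : okPerm b = true) (h : toPerm a = toPerm b) :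
    pkOf a = pkOf b := by
  refine congrArg packL (List.map_congr_left fun i hi => ?_)
  rw [List.mem_range] at hi
  have := congrArg (fun g : Equiv.Perm GolayPt => idx (g (pt i))) h
  simpa [idx_toPerm ha, idx_toPerm hb, idx_pt hi] using this

/-- the fixed points as a mask -/
def fixMask (q : ℕ) : ℕ :=
  (List.range 24).foldr (fun i a => if img q i == i then 2 ^ i ||| a else a) 0

theorem mem_fixMask {q : ℕ} {p : GolayPt} :
    p ∈ toSet (fixMask q) ↔ img q (idx p) = idx p := by
  rw [mem_toSet, fixMask]
  have key : ∀ L : List ℕ, (L.foldr (fun i a => if img q i == i then 2 ^ i ||| a else a) 0).testBit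
      (idx p) = true ↔ idx p ∈ L ∧ img q (idx p) = idx p := by
    intro L
    induction L with
    | nil => simp
    | cons i L ih =>
      rw [List.foldr_cons]
      by_cases h : img q i = i
      · simp only [h, beq_self_eq_true, if_true, Nat.testBit_or, Bool.or_eq_true, ih,
          Nat.testBit_two_pow, decide_eq_true_eq, List.mem_cons]
        constructor
        · rintro (h' | ⟨h', h''⟩)
          · exact ⟨Or.inl h'.symm, by rw [← h']; exact h⟩
          · exact ⟨Or.inr h', h''⟩
        · rintro ⟨h' | h', h''⟩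
          · exact Or.inl h'.symm
          · exact Or.inr ⟨h', h''⟩
      · simp only [show (img q i == i) = false by simpa using h, Bool.false_eq_true, if_false, ih,
          List.mem_cons]
        constructor
        · rintro ⟨h', h''⟩; exact ⟨Or.inr h', h''⟩
        · rintro ⟨h' | h', h''⟩
          · exact absurd (h' ▸ h'') h
          · exact ⟨h', h''⟩
  rw [key]
  exact and_iff_right (List.mem_range.2 (idx_lt p))

theorem fix_toPerm {q : ℕ} (hq : okPerm q = true) :
    (Finset.univ.filter fun p => toPerm q p = p) = toSet (fixMask q) := by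
  ext p
  rw [Finset.mem_filter, mem_fixMask, ← idx_toPerm hq, idx_inj]
  simp

theorem fix_conj {a g h : Equiv.Perm GolayPt} (e : a * g * a⁻¹ = h) :
    (Finset.univ.filter fun p => h p = p) = a • Finset.univ.filter fun p => g p = p := by
  ext p
  rw [← Finset.inv_smul_mem_iff, Finset.mem_filter, Finset.mem_filter, ← e]
  simp [Equiv.Perm.smul_def, Equiv.Perm.mul_apply, Equiv.eq_symm_apply]

end CfsgLib.Golay.Search
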