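import Cfsg.Agent.Lib.Golay.Orbit2

/-! Standard objects and the family of complementary dodecad pairs. -/
set_option autoImplicit false
set_option linter.all false
set_option maxRecDepth 8000

namespace CfsgLib.Golay

open Cfsg
open scoped Pointwise

/-- the dodecad of squares -/
def dodD : ℕ := 340831

/-- the standard pair of complementary dodecads -/
def pair0 : List ℕ := [16436384, 340831]

/-- the standard trio -/
def trio0 : List ℕ := [13062145, 1613974, 2101096]

theorem toSet_octO : toSet octO ∈ octads := toSet_mem_octads octO_check.1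

theorem toSet_dodD : toSet dodD ∈ dodecads :=
  toSet_mem_dodecads (mem_dodList.2 (by decide +kernel))

theorem sex0_mem : Sys sex0 ∈ sextets := isSexM_sound sex0_check.1

theorem trio0_mem : Sys trio0 ∈ trios := isTrioM_sound (by decide +kernel)

theorem compl_dodecad {d : Finset GolayPt} (hd : d ∈ dodecads) : dᶜ ∈ dodecads := by
  obtain ⟨m, hm, rfl⟩ := exists_mask_dodecad hd
  rw [← toSet_compl]
  refine toSet_mem_dodecads (mem_dodList.2 ⟨inCode_xor (by decide) (mem_dodList.1 hm).1, ?_⟩)
  rw [← card_toSet, toSet_compl, Finset.card_compl, card_toSet, (mem_dodList.1 hm).2]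
  decide

theorem smul_compl' (g : Equiv.Perm GolayPt) (s : Finset GolayPt) : g • sᶜ = (g • s)ᶜ := by
  ext x
  simp only [Finset.mem_compl, ← Finset.inv_smul_mem_iff]

/-- listed pairs of complementary dodecads -/
def pairList (L : List ℕ) : List (List ℕ) :=
  (L.filter fun d => d.testBit 23).map fun d => [d, 16777215 ^^^ d]

theorem Sys_pair {m : ℕ} : Sys [m, 16777215 ^^^ m] = {toSet m, (toSet m)ᶜ} := by
  simp [Sys, toSet_compl]

theorem pair_ne_compl (s : Finset GolayPt) : s ≠ sᶜ := fun h => by
  have h1 : (none : GolayPt) ∈ s ↔ (none : GolayPt) ∉ s := by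
    conv_lhs => rw [h, Finset.mem_compl]
  exact iff_not_self h1

theorem pairs_list (Y : Finset (Finset GolayPt)) :
    Y ∈ (fun d : Finset GolayPt => ({d, dᶜ} : Finset (Finset GolayPt))) '' dodecads ↔
      ∃ l ∈ pairList dodList, Sys l = Y := by
  simp only [Set.mem_image, pairList, List.mem_map, List.mem_filter]
  constructor
  · rintro ⟨d, hd, rfl⟩
    by_cases hn : (none : GolayPt) ∈ d
    · obtain ⟨m, hm, rfl⟩ := exists_mask_dodecad hd
      exact ⟨_, ⟨m, ⟨hm, mem_toSet.1 hn⟩, rfl⟩, Sys_pair⟩
    · obtain ⟨m, hm, e⟩ := exists_mask_dodecad (compl_dodecad hd)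
      have hn' : (none : GolayPt) ∈ toSet m := by rw [e]; exact Finset.mem_compl.2 hn
      refine ⟨_, ⟨m, ⟨hm, mem_toSet.1 hn'⟩, rfl⟩, ?_⟩
      rw [Sys_pair, e, compl_compl, Finset.pair_comm]
  · rintro ⟨_, ⟨m, ⟨hm, -⟩, rfl⟩, rfl⟩
    exact ⟨toSet m, toSet_mem_dodecads hm, Sys_pair.symm⟩

theorem pairList_check : incB (((dodList.filter fun d => d.testBit 23)).map (· % 4096)) = true ∧
    (pairList dodList).all okSys = true ∧ (pairList dodList).length = 1288 := by
  refine ⟨?_, ?_, ?_⟩ <;> decide +kernel

/-- complementary pairs of dodecads as a listed family -/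
noncomputable def pairKind : Kind where
  E := pairList dodList
  Ys := (fun d : Finset GolayPt => ({d, dᶜ} : Finset (Finset GolayPt))) '' dodecads
  ok := pairList_check.2.1
  mem := pairs_list
  nodup := by
    rw [pairList, List.map_map]
    refine List.Nodup.map_on (fun a ha b hb e => ?_) (dodList_nodup.filter _)
    rw [List.mem_filter] at ha hb
    simp only [Function.comp, Sys_pair] at e
    have h1 : toSet a ∈ ({toSet b, (toSet b)ᶜ} : Finset _) := by rw [← e]; simp
    simp only [Finset.mem_insert, Finset.mem_singleton] at h1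
    rcases h1 with h1 | h1
    · exact toSet_inj (dodList_lt ha.1) (dodList_lt hb.1) h1
    · have := mem_toSet (p := none).2 ha.2
      rw [h1, Finset.mem_compl] at this
      exact absurd (mem_toSet.2 hb.2) this
  smul g hg := by
    rintro _ ⟨d, hd, rfl⟩
    refine ⟨g • d, smul_dodecad hg hd, ?_⟩
    simp only [Finset.smul_finset_insert, Finset.smul_finset_singleton, smul_compl']

end CfsgLib.Golay
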