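import Cfsg.Agent.Lib.Golay.Chain

/-! Transitivity consequences of the stabiliser chain. -/
set_option autoImplicit false
set_option linter.all false

namespace CfsgLib.Golay

open Cfsg
open scoped Pointwise

theorem mem_allow_of_ne : ∀ k < 5, ∀ y : GolayPt, (∀ i < k, y ≠ bp i) → y ∈ toSet (allow k) := by
  decide +kernel

theorem bp_inj : ∀ i < 7, ∀ j < 7, bp i = bp j → i = j := by decide +kernel

theorem exists_to_base : ∀ k, k ≤ 5 → ∀ x : Fin k ↪ GolayPt,
    ∃ g ∈ M24, ∀ i : Fin k, g (x i) = bp i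
  | 0, _, _ => ⟨1, one_mem _, fun i => i.elim0⟩
  | k + 1, hk, x => by
    obtain ⟨g, hg, hgx⟩ := exists_to_base k (by omega) (Fin.castSuccEmb.trans x)
    have hy : g (x (Fin.last k)) ∈ toSet (allow k) := by
      refine mem_allow_of_ne k (by omega) _ fun i hi e => ?_
      have h1 : g (x (Fin.castSucc ⟨i, hi⟩)) = bp i := hgx ⟨i, hi⟩
      have := x.injective (g.injective (h1.trans e.symm))
      exact (Fin.castSucc_lt_last _).ne this
    obtain ⟨p, hp, e⟩ := exists_tr (show k < 7 by omega) hy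
    have hp' := toPerm_tr_mem (show k < 7 by omega) hp
    refine ⟨(toPerm p)⁻¹ * g, mul_mem (inv_mem hp'.1) hg, fun i => ?_⟩
    rw [Equiv.Perm.mul_apply, Equiv.Perm.inv_eq_iff_eq]
    refine Fin.lastCases ?_ (fun j => ?_) i
    · rw [Fin.val_last]; exact e.symm
    · rw [Fin.val_castSucc, hp'.2 j j.isLt]
      exact hgx j

theorem exists_map_tuple {k : ℕ} (hk : k ≤ 5) (x y : Fin k ↪ GolayPt) :
    ∃ g ∈ M24, ∀ i, g (x i) = y i := by
  obtain ⟨a, ha, hax⟩ := exists_to_base k hk x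
  obtain ⟨b, hb, hby⟩ := exists_to_base k hk y
  exact ⟨b⁻¹ * a, mul_mem (inv_mem hb) ha, fun i => by
    rw [Equiv.Perm.mul_apply, hax i, ← hby i]; exact b.symm_apply_apply (y i)⟩

theorem five_transitive : MulAction.IsMultiplyPretransitive M24 GolayPt 5 := by
  refine ⟨fun x y => ?_⟩
  obtain ⟨g, hg, h⟩ := exists_map_tuple le_rfl x y
  exact ⟨⟨g, hg⟩, Function.Embedding.ext fun i => h i⟩

theorem octad_unique {o o' : Finset GolayPt} (ho : o ∈ octads) (ho' : o' ∈ octads)
    (h : 5 ≤ (o ∩ o').card) : o = o' := by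
  obtain ⟨a, ha, rfl⟩ := exists_mask_octad ho
  obtain ⟨b, hb, rfl⟩ := exists_mask_octad ho'
  rw [← toSet_and, card_toSet] at h
  rw [octad_eq_of_five ha hb h]

theorem card_octad {o : Finset GolayPt} (ho : o ∈ octads) : o.card = 8 := by
  obtain ⟨a, ha, rfl⟩ := exists_mask_octad ho
  rw [card_toSet, (mem_octList.1 ha).2]

theorem card_dodecad {o : Finset GolayPt} (ho : o ∈ dodecads) : o.card = 12 := by
  obtain ⟨a, ha, rfl⟩ := exists_mask_dodecad ho
  rw [card_toSet, (mem_dodList.1 ha).2]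

theorem octad_transitive {o o' : Finset GolayPt} (ho : o ∈ octads) (ho' : o' ∈ octads) :
    ∃ g ∈ M24, g • o = o' := by
  have key : ∀ s : Finset GolayPt, s ∈ octads → ∃ f : Fin 5 ↪ GolayPt, ∀ i, f i ∈ s := by
    intro s hs
    obtain ⟨t, hts, ht⟩ := Finset.exists_subset_card_eq (s := s) (n := 5) (by rw [card_octad hs]; norm_num)
    exact ⟨(Finset.equivFinOfCardEq ht).symm.toEmbedding.trans (Function.Embedding.subtype _),
      fun i => hts ((Finset.equivFinOfCardEq ht).symm i).2⟩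
  obtain ⟨x, hx⟩ := key o ho
  obtain ⟨y, hy⟩ := key o' ho'
  obtain ⟨g, hg, h⟩ := exists_map_tuple le_rfl x y
  refine ⟨g, hg, octad_unique (smul_octad hg ho) ho' ?_⟩
  calc 5 = (Finset.univ.map y).card := by simp
    _ ≤ _ := Finset.card_le_card fun z hz => by
      simp only [Finset.mem_map, Finset.mem_univ, true_and] at hz
      obtain ⟨i, rfl⟩ := hz
      refine Finset.mem_inter.2 ⟨?_, hy i⟩
      rw [← h i]
      exact Finset.smul_mem_smul_finset (a := g) (hx i)

/-- pointwise stabiliser of a tuple -/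
def fixT {k : ℕ} (x : Fin k → GolayPt) : Subgroup M24 :=
  ⨅ i, MulAction.stabilizer M24 (x i)

theorem mem_fixT {k : ℕ} {x : Fin k → GolayPt} {g : M24} :
    g ∈ fixT x ↔ ∀ i, (g : Equiv.Perm GolayPt) (x i) = x i := by
  simp only [fixT, Subgroup.mem_iInf, MulAction.mem_stabilizer_iff]
  rfl

theorem card_fixT {k : ℕ} (hk : k ≤ 5) (x : Fin k ↪ GolayPt) :
    Nat.card (fixT x) = Nat.card (fixB k) := by
  obtain ⟨a, ha, hax⟩ := exists_to_base k hk x
  refine Nat.card_congr ⟨fun g => ⟨a * (g : M24) * a⁻¹,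
      mul_mem (mul_mem ha (g : M24).2) (inv_mem ha), fun i hi => ?_⟩,
    fun g => ⟨⟨a⁻¹ * g * a, mul_mem (mul_mem (inv_mem ha) g.2.1) ha⟩, mem_fixT.2 fun i => ?_⟩,
    fun g => ?_, fun g => ?_⟩
  · have h1 : a⁻¹ (bp i) = x ⟨i, hi⟩ := by rw [Equiv.Perm.inv_eq_iff_eq]; exact (hax ⟨i, hi⟩).symm
    rw [Equiv.Perm.mul_apply, Equiv.Perm.mul_apply, h1, mem_fixT.1 g.2 ⟨i, hi⟩]
    exact hax ⟨i, hi⟩
  · rw [Equiv.Perm.mul_apply, Equiv.Perm.mul_apply, hax i, g.2.2 i i.isLt, Equiv.Perm.inv_eq_iff_eq]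
    exact (hax i).symm
  · apply Subtype.ext; apply Subtype.ext; simp [mul_assoc]
  · apply Subtype.ext; simp [mul_assoc]

theorem card_fixB_two : Nat.card (fixB 1) = 10200960 ∧ Nat.card (fixB 2) = 443520 ∧
    Nat.card (fixB 3) = 20160 ∧ Nat.card (fixB 4) = 960 ∧ Nat.card (fixB 5) = 48 ∧
    Nat.card (fixB 6) = 16 := by
  have h6 := card_fixB_succ (show 6 < 7 by norm_num)
  have h5 := card_fixB_succ (show 5 < 7 by norm_num)
  have h4 := card_fixB_succ (show 4 < 7 by norm_num)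
  have h3 := card_fixB_succ (show 3 < 7 by norm_num)
  have h2 := card_fixB_succ (show 2 < 7 by norm_num)
  have h1 := card_fixB_succ (show 1 < 7 by norm_num)
  rw [card_fixB_seven] at h6
  have e : pc (allow 1) = 23 ∧ pc (allow 2) = 22 ∧ pc (allow 3) = 21 ∧ pc (allow 4) = 20 ∧
      pc (allow 5) = 3 ∧ pc (allow 6) = 16 := by decide +kernel
  obtain ⟨e1, e2, e3, e4, e5, e6⟩ := e
  rw [e1] at h1; rw [e2] at h2; rw [e3] at h3; rw [e4] at h4; rw [e5] at h5; rw [e6] at h6
  norm_num at h1 h2 h3 h4 h5 h6 ⊢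
  omega

end CfsgLib.Golay

namespace CfsgLib.Golay

open Cfsg
open scoped Pointwise

/-- the standard octad -/
def octO : ℕ := 8536111

theorem octO_check : octO ∈ octList ∧ baseMask 6 &&& octO = baseMask 6 ∧
    (tr 6).all (fun p => (List.range 24).all (fun i => !(octO.testBit i) || img p i == i) &&
      comp p p == idp) = true :=
  ⟨mem_octList.2 (by decide +kernel), by decide +kernel, by decide +kernel⟩

theorem fixB_six_spec {g : Equiv.Perm GolayPt} (hg : g ∈ fixB 6) :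
    (∀ x ∈ toSet octO, g x = x) ∧ g * g = 1 := by
  obtain ⟨p, hp, e⟩ := exists_tr (show 6 < 7 by norm_num) (apply_bp_mem_allow (by norm_num) hg)
  have hp' := toPerm_tr_mem (show 6 < 7 by norm_num) hp
  have h7 : (toPerm p)⁻¹ * g ∈ fixB 7 := by
    have h2 := mul_mem (inv_mem hp') hg
    refine ⟨h2.1, fun i hi => ?_⟩
    rcases Nat.lt_succ_iff_lt_or_eq.1 hi with h' | h'
    · exact h2.2 i h'
    · subst h'
      rw [Equiv.Perm.mul_apply, Equiv.Perm.inv_eq_iff_eq, e]
  have hgp : g = toPerm p := (inv_mul_eq_one.1 (fixB_seven h7)).symm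
  have hc := List.all_eq_true.1 octO_check.2.2 p hp
  simp only [Bool.and_eq_true, List.all_eq_true, List.mem_range, Bool.or_eq_true,
    Bool.not_eq_true', beq_iff_eq] at hc
  have hok : okPerm p = true := by
    have h := List.all_eq_true.1 tr_check 6 (List.mem_range.2 (by norm_num))
    simp only [Bool.and_eq_true, List.all_eq_true] at h
    have := (h.1 p hp).1
    simp only [inM24, Bool.and_eq_true] at this
    exact this.1
  refine ⟨fun x hx => ?_, ?_⟩
  · rw [hgp, toPerm_apply hok]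
    rcases hc.1 (idx x) (idx_lt x) with h | h
    · rw [mem_toSet, h] at hx; cases hx
    · rw [h, pt_idx]
  · rw [hgp, ← comp_spec hok hok (okPerm_comp hok hok), hc.2, toPerm_idp]

theorem mem_fixB_six {g : Equiv.Perm GolayPt} (hg : g ∈ M24)
    (h : ∀ x ∈ toSet octO, g x = x) : g ∈ fixB 6 := by
  refine ⟨hg, fun i hi => h _ ?_⟩
  exact (by decide +kernel : ∀ i < 6, bp i ∈ toSet octO) i hi

end CfsgLib.Golay
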