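import Cfsg.Agent.Lib.Golay.CertDodOk
import Cfsg.Agent.Lib.Golay.CertOctTriOk

/-! Transitivity of `M24` on dodecads, sextets, trios and dodecad pairs. -/
set_option autoImplicit false
set_option linter.all false

namespace CfsgLib.Golay

open Cfsg
open scoped Pointwise

theorem dodecad_transitive {d d' : Finset GolayPt} (hd : d ∈ dodecads) (hd' : d' ∈ dodecads) :
    ∃ g ∈ M24, g • d = d' := by
  obtain ⟨g, hg, -, e⟩ := dodKind.trans_base certDod_ok (Y := {d}) (Y' := {d'})
    ⟨d, hd, rfl⟩ ⟨d', hd', rfl⟩ (by simp [Pats])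
  rw [Finset.smul_finset_singleton, Finset.singleton_inj] at e
  exact ⟨g, hg, e⟩

theorem exists_dodD {d : Finset GolayPt} (hd : d ∈ dodecads) : ∃ a ∈ M24, a • toSet dodD = d :=
  dodecad_transitive toSet_dodD hd

theorem exists_octO {o : Finset GolayPt} (ho : o ∈ octads) : ∃ a ∈ M24, a • toSet octO = o :=
  octad_transitive toSet_octO ho

theorem exists_octO_Sys {o : Finset GolayPt} (ho : o ∈ octads) :
    ∃ a ∈ M24, a • Sys [octO] = ({o} : Finset (Finset GolayPt)) := by
  obtain ⟨a, ha, rfl⟩ := exists_octO ho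
  exact ⟨a, ha, by rw [Sys_single, Finset.smul_finset_singleton]⟩

theorem exists_dodD_Sys {d : Finset GolayPt} (hd : d ∈ dodecads) :
    ∃ a ∈ M24, a • Sys [dodD] = ({d} : Finset (Finset GolayPt)) := by
  obtain ⟨a, ha, rfl⟩ := exists_dodD hd
  exact ⟨a, ha, by rw [Sys_single, Finset.smul_finset_singleton]⟩

theorem exists_sex0 {S : Finset (Finset GolayPt)} (hS : S ∈ sextets) :
    ∃ a ∈ M24, a • Sys sex0 = S := by
  obtain ⟨t, ht, -⟩ := sextet_cover hS none
  obtain ⟨g, hg, e⟩ := exists_smul_tet0 (hS.2.1 t ht)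
  refine ⟨g, hg, ?_⟩
  subst e
  exact (sextet_exists_unique _ (hS.2.1 _ ht)).unique
    ⟨smul_sextet hg sex0_mem,
      Finset.smul_mem_smul_finset (mem_Sys.2 ⟨tet0, by simp [sex0, tet0], rfl⟩)⟩ ⟨hS, ht⟩

theorem Pat_trio_member {T : Finset (Finset GolayPt)} (hT : T ∈ trios) {o : Finset GolayPt}
    (ho : o ∈ T) : Pat {o} T = 256 ^ 8 + 2 := by
  rw [Pat, Finset.sum_singleton, ← Finset.insert_erase ho,
    Finset.sum_insert (Finset.notMem_erase o T), Finset.inter_self,
    card_octad (hT.2.1 o ho),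
    Finset.sum_congr rfl (g := fun _ => 1) (fun x hx => ?_), Finset.sum_const,
    Finset.card_erase_of_mem ho, hT.1]
  · norm_num
  · rw [Finset.mem_erase] at hx
    rw [Finset.disjoint_iff_inter_eq_empty.1 (hT.2.2 o ho x hx.2 hx.1.symm), Finset.card_empty,
      pow_zero]

theorem trio_transitive_base {T : Finset (Finset GolayPt)} (hT : T ∈ trios) :
    ∃ h ∈ M24, toSet octO ∈ h • T := by
  obtain ⟨s, hs, -⟩ := trio_cover hT none
  obtain ⟨a, ha, e⟩ := exists_octO (hT.2.1 s hs)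
  refine ⟨a⁻¹, inv_mem ha, ?_⟩
  subst e
  have := Finset.smul_mem_smul_finset (a := a⁻¹) hs
  rwa [inv_smul_smul] at this

theorem trio_transitive {T T' : Finset (Finset GolayPt)} (hT : T ∈ trios) (hT' : T' ∈ trios) :
    ∃ g ∈ M24, g • T = T' := by
  obtain ⟨h, hh, m⟩ := trio_transitive_base hT
  obtain ⟨h', hh', m'⟩ := trio_transitive_base hT'
  have k1 := Pat_trio_member (smul_trio hh hT) m
  have k2 := Pat_trio_member (smul_trio hh' hT') m'
  obtain ⟨g, hg, -, e⟩ := trioKind.trans_base certOctTri_ok (Y := h • T) (Y' := h' • T')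
    (smul_trio hh hT) (smul_trio hh' hT') (by simp [Pats, Sys_single, k1, k2])
  refine ⟨h'⁻¹ * g * h, mul_mem (mul_mem (inv_mem hh') hg) hh, ?_⟩
  rw [mul_smul, mul_smul, e, inv_smul_smul]

theorem exists_trio0 {T : Finset (Finset GolayPt)} (hT : T ∈ trios) :
    ∃ a ∈ M24, a • Sys trio0 = T := trio_transitive trio0_mem hT

theorem Sys_pair0 : Sys pair0 = {toSet dodD, (toSet dodD)ᶜ} := by
  have e : sameSys pair0 [340831, 16777215 ^^^ 340831] = true := by decide +kernel
  rw [Sys_eq_of_same e, Sys_pair]; rfl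

theorem exists_pair0 {d : Finset GolayPt} (hd : d ∈ dodecads) :
    ∃ a ∈ M24, a • Sys pair0 = ({d, dᶜ} : Finset (Finset GolayPt)) := by
  obtain ⟨a, ha, rfl⟩ := exists_dodD hd
  refine ⟨a, ha, ?_⟩
  simp only [Sys_pair0, Finset.smul_finset_insert, Finset.smul_finset_singleton, smul_compl']

theorem trans_of_base {Ys : Set (Finset (Finset GolayPt))} {B : Finset (Finset GolayPt)}
    (h : ∀ Y ∈ Ys, ∃ a ∈ M24, a • B = Y) : ∀ Y ∈ Ys, ∀ Y' ∈ Ys, ∃ g ∈ M24, g • Y = Y' := by
  intro Y hY Y' hY'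
  obtain ⟨a, ha, rfl⟩ := h Y hY
  obtain ⟨b, hb, rfl⟩ := h Y' hY'
  exact ⟨b * a⁻¹, mul_mem hb (inv_mem ha), by rw [mul_smul, inv_smul_smul]⟩

theorem sex_trans : ∀ Y ∈ sexKind.Ys, ∀ Y' ∈ sexKind.Ys, ∃ g ∈ M24, g • Y = Y' :=
  trans_of_base fun _ hY => exists_sex0 hY

theorem trio_trans : ∀ Y ∈ trioKind.Ys, ∀ Y' ∈ trioKind.Ys, ∃ g ∈ M24, g • Y = Y' :=
  fun _ hY _ hY' => trio_transitive hY hY'

theorem oct_trans : ∀ Y ∈ octKind.Ys, ∀ Y' ∈ octKind.Ys, ∃ g ∈ M24, g • Y = Y' :=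
  trans_of_base (B := Sys [octO]) fun Y hY => by
    obtain ⟨o, ho, rfl⟩ := hY; exact exists_octO_Sys ho

theorem dod_trans : ∀ Y ∈ dodKind.Ys, ∀ Y' ∈ dodKind.Ys, ∃ g ∈ M24, g • Y = Y' :=
  trans_of_base (B := Sys [dodD]) fun Y hY => by
    obtain ⟨d, hd, rfl⟩ := hY; exact exists_dodD_Sys hd

theorem pair_trans : ∀ Y ∈ pairKind.Ys, ∀ Y' ∈ pairKind.Ys, ∃ g ∈ M24, g • Y = Y' :=
  trans_of_base (B := Sys pair0) fun Y hY => by
    obtain ⟨d, hd, rfl⟩ := hY; exact exists_pair0 hd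

theorem ncard_octKind : octKind.Ys.ncard = 759 :=
  (Set.ncard_image_of_injective _ Finset.singleton_injective).trans ncard_octads

theorem ncard_dodKind : dodKind.Ys.ncard = 2576 :=
  (Set.ncard_image_of_injective _ Finset.singleton_injective).trans ncard_dodecads

theorem ncard_pairKind : pairKind.Ys.ncard = 1288 := by
  classical
  have e : pairKind.Ys = ((((pairKind.E).map Sys).toFinset : Finset _) : Set _) := by
    ext S; simp [pairKind.mem, List.mem_map]
  rw [e, Set.ncard_coe_finset, List.toFinset_card_of_nodup pairKind.nodup, List.length_map]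
  exact pairList_check.2.2

theorem card_stab_octad {o : Finset GolayPt} (ho : o ∈ octads) :
    Nat.card (MulAction.stabilizer M24 o) = 322560 := by
  have h := octKind.card_stabilizer oct_trans (Y := {o}) ⟨o, ho, rfl⟩
  rw [ncard_octKind, stab_single] at h
  omega

theorem card_stab_dodecad {d : Finset GolayPt} (hd : d ∈ dodecads) :
    Nat.card (MulAction.stabilizer M24 d) = 95040 := by
  have h := dodKind.card_stabilizer dod_trans (Y := {d}) ⟨d, hd, rfl⟩
  rw [ncard_dodKind, stab_single] at h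
  omega

/-- joint stabiliser order = stabiliser order / orbit length -/
theorem card_inf_stabilizer {G : Type*} [Group G] {α β : Type*} [MulAction G α] [MulAction G β]
    [Finite G] (x : α) (y : β) :
    (MulAction.orbit ↥(MulAction.stabilizer G x) y).ncard *
      Nat.card ↥(MulAction.stabilizer G x ⊓ MulAction.stabilizer G y) =
      Nat.card (MulAction.stabilizer G x) := by
  rw [Subgroup.card_eq_card_quotient_mul_card_subgroup
      (MulAction.stabilizer ↥(MulAction.stabilizer G x) y),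
    ← Nat.card_congr (MulAction.orbitEquivQuotientStabilizer ↥(MulAction.stabilizer G x) y),
    Nat.card_coe_set_eq]
  congr 1
  exact Nat.card_congr ⟨fun g => ⟨⟨g.1, g.2.1⟩, g.2.2⟩, fun g => ⟨g.1.1, g.1.2, g.2⟩,
    fun g => rfl, fun g => rfl⟩

end CfsgLib.Golay
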